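import Mathlib
import Cfsg.Agent.GT.ElemAbRep
import Cfsg.Agent.Inv.SPECore
import Cfsg.Agent.FG.MaxClassPow

/-! Definitions for S5269 (normal essential subgroups of `p`-groups of maximal class): the flag of
a regular nilpotent map, the linear setting `LS`/`LS2`, degrees of functions, the group data `RD`. -/

set_option autoImplicit false

namespace Cfsg.Agent.MxE

open Subgroup Cfsg.Agent.GT

section Lin

variable {p : ℕ} [Fact p.Prime] {G : Type*} [Group G] {V : Type*} [AddCommGroup V]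
  [Module (ZMod p) V]

/-- `Vj x j = x ^ j V` -/
def Vj (x : Module.End (ZMod p) V) (j : ℕ) : Submodule (ZMod p) V := LinearMap.range (x ^ j)

/-- `x` is nilpotent with a single Jordan block, of size `m` -/
structure Reg (x : Module.End (ZMod p) V) (m : ℕ) : Prop where
  dim : Module.finrank (ZMod p) V = m
  nil : x ^ m = 0
  ne : x ^ (m - 1) ≠ 0

/-- `φ` raises the flag of `x` by `r` -/
def Up (x : Module.End (ZMod p) V) (r : ℕ) (φ : Module.End (ZMod p) V) : Prop :=
  ∀ j, ∀ v ∈ Vj x j, φ v ∈ Vj x (j + r)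

/-- `φ` acts on `Vj x j / Vj x (j+1)` as the scalar `w` -/
def Wt (x : Module.End (ZMod p) V) (j : ℕ) (φ : Module.End (ZMod p) V) (w : ZMod p) : Prop :=
  ∀ v ∈ Vj x j, φ v - w • v ∈ Vj x (j + 1)

/-- `W` is invariant under the subgroup `K` -/
def InvS (ρ : Representation (ZMod p) G V) (K : Subgroup G) (W : Submodule (ZMod p) V) : Prop :=
  ∀ g ∈ K, ∀ v ∈ W, ρ g v ∈ W

/-- The linear setting: `s ∈ P` is regular unipotent, `z ∈ Z(P)`. -/
structure LS (ρ : Representation (ZMod p) G V) (P : Sylow p G) (s z : G) (m k : ℕ) : Prop where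
  hp : 5 ≤ p
  inj : Function.Injective ρ
  reg : Reg (ρ s - 1) m
  m_lt : m < p
  s_mem : s ∈ (P : Subgroup G)
  z_mem : z ∈ (P : Subgroup G)
  z_cent : ∀ u ∈ (P : Subgroup G), Commute u z
  step : ∀ u ∈ (P : Subgroup G), Up (ρ s - 1) 1 (ρ u - 1)
  two : ∀ u ∈ (P : Subgroup G), LinearMap.range (ρ u - 1) ≤ Vj (ρ s - 1) 2 →
    ∀ j, j + 3 ≤ m → ∀ v ∈ Vj (ρ s - 1) j, (ρ u - 1) v ∈ Vj (ρ s - 1) (j + 2)
  cent : ∀ u ∈ (P : Subgroup G), LinearMap.range (ρ u - 1) ≤ Vj (ρ s - 1) 2 → Commute u s →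
    u ∈ zpowers z
  k_two : 2 ≤ k
  k_lt : k < m
  range_z : LinearMap.range (ρ z - 1) = Vj (ρ s - 1) k

/-- The case `|P| = p ^ 2`, with the data coming from the non-split extension. -/
structure LS2 (ρ : Representation (ZMod p) G V) (P : Sylow p G) (s z : G) (m k : ℕ) (δ : G → V) :
    Prop extends LS ρ P s z m k where
  one : ∀ u ∈ (P : Subgroup G), LinearMap.range (ρ u - 1) ≤ Vj (ρ s - 1) 2 → u ∈ zpowers z
  wt : ∀ n ∈ normalizer ((P : Subgroup G) : Set G), ∀ a b : ℕ,
    n * s * n⁻¹ * (s ^ a)⁻¹ ∈ zpowers z → n * z * n⁻¹ = z ^ b →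
      Wt (ρ s - 1) 0 (ρ n) ((a : ZMod p) * b)
  δ_mul : ∀ c c', Commute c z → Commute c' z → δ (c * c') - δ c - ρ c (δ c') ∈ Vj (ρ s - 1) k
  δ_s : δ s ∉ Vj (ρ s - 1) 1
  δ_z : δ z ∈ Vj (ρ s - 1) k

/-- `F` has degree `< D` for the right translations by `s` (weight `1`) and `z` (weight `k`). -/
inductive Deg (k : ℕ) (s z : G) : ℕ → (G → ZMod p) → Prop
  | zero (D : ℕ) : Deg k s z D 0
  | succ (D : ℕ) (F : G → ZMod p) : Deg k s z D (fun u => F (u * s) - F u) →
      Deg k s z (D + 1 - k) (fun u => F (u * z) - F u) → Deg k s z (D + 1) F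

/-- the central element `a b + b a` of a quadratic pair -/
def qc (ρ : Representation (ZMod p) G V) (z z' : G) : Module.End (ZMod p) V :=
  (ρ z - 1) * (ρ z' - 1) + (ρ z' - 1) * (ρ z - 1)

end Lin

section Grp

open FG Loc.H78.Lie

variable {p : ℕ} [Fact p.Prime] {H : Type*} [Group H] {E : Subgroup H}

/-- conjugation action of `H` on an elementary abelian normal subgroup -/
noncomputable def cRep [E.Normal] (hE : IsElementaryAbelian p E) :
    Representation (ZMod p) H (EAV hE) :=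
  (eaRep hE (H := ⊤) (by rw [normalizer_eq_top])).comp topEquiv.symm.toMonoidHom

theorem val_cRep [E.Normal] (hE : IsElementaryAbelian p E) (h : H) (x : EAV hE) :
    (cRep hE h x).val = h * x.val * h⁻¹ := rfl

/-- the action of `H / E` on `E` -/
noncomputable def qRep [E.Normal] (hE : IsElementaryAbelian p E) :
    Representation (ZMod p) (H ⧸ E) (EAV hE) :=
  QuotientGroup.lift E (cRep hE) fun h hh => LinearMap.ext fun x => EAV.ext (by
    rw [val_cRep, Module.End.one_apply, mul_inv_eq_iff_eq_mul]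
    exact congrArg Subtype.val (hE.1.is_comm.comm (⟨h, hh⟩ : E) ⟨x.val, x.val_mem⟩))

theorem val_qRep [E.Normal] (hE : IsElementaryAbelian p E) (h : H) (x : EAV hE) :
    (qRep hE (h : H ⧸ E) x).val = h * x.val * h⁻¹ := val_cRep hE h x

/-- the image of a Sylow subgroup in `H / E` -/
noncomputable def qSyl [Finite H] (S : Sylow p H) (E : Subgroup H) [E.Normal] : Sylow p (H ⧸ E) :=
  S.mapSurjective (QuotientGroup.mk'_surjective E)

theorem coe_qSyl [Finite H] (S : Sylow p H) (E : Subgroup H) [E.Normal] :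
    (qSyl S E : Subgroup (H ⧸ E)) = (S : Subgroup H).map (QuotientGroup.mk' E) := rfl

/-- The group data: `S` has maximal class, `E = γ S i` is self-centralising in `H`, `s` is a
uniform element and `z` generates the section just above `E`. -/
structure RD (S : Sylow p H) (E : Subgroup H) (n i : ℕ) (s z : (S : Subgroup H)) : Prop where
  hp : 5 ≤ p
  hn : Nat.card (S : Subgroup H) = p ^ (n + 3)
  hc : Group.nilpotencyClass (S : Subgroup H) = n + 2
  i_pos : 1 ≤ i
  i_lt : i + 1 ≤ n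
  eq : E = (γ (S : Subgroup H) i).map (S : Subgroup H).subtype
  cent : centralizer (E : Set H) ≤ E
  unif : ∀ j, 1 ≤ j → j ≤ n → s ∉ MxC.C (S : Subgroup H) j
  z_mem : z ∈ MxC.P (S : Subgroup H) (i - 1)
  z_not : z ∉ γ (S : Subgroup H) i

end Grp

end Cfsg.Agent.MxE
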