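import Mathlib
import Cfsg.Agent.MxE.Defs
import Cfsg.Agent.Fus.EssSmall
import Cfsg.Agent.Fus.Pearl
import Cfsg.Agent.GT.PGroupChain
import Cfsg.Agent.GT.PGroupMaxClass

/-! Essential subgroups containing a uniform element; translation of the two centralisers. -/

set_option autoImplicit false

namespace Cfsg.Agent.MxE

open Subgroup Cfsg.Agent.GT

open FG Loc.H78.Lie
open scoped commutatorElement

namespace MaxH

theorem C_char (G : Type*) [Group G] (i : ℕ) : (MxC.C G i).Characteristic := by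
  refine characteristic_iff_le_comap.2 fun φ g hg => ?_
  change φ g ∈ MxC.C G i
  intro x hx
  have h1 : φ.symm x ∈ γ G i :=
    characteristic_iff_le_comap.1 (inferInstance : (γ G i).Characteristic) φ.symm hx
  have h2 : φ ⁅φ.symm x, g⁆ ∈ γ G (i + 2) :=
    characteristic_iff_le_comap.1 (inferInstance : (γ G (i + 2)).Characteristic) φ (hg _ h1)
  rwa [map_commutatorElement, MulEquiv.apply_symm_apply] at h2

/-- a group of maximal class of order at least `p ^ 4` has a chain -/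
theorem not_noChain {G : Type*} [Group G] [Finite G] {p : ℕ} [Fact p.Prime] {n : ℕ}
    (hn : Nat.card G = p ^ (n + 3)) (hc : Group.nilpotencyClass G = n + 2) (h1 : 1 ≤ n) :
    ¬ Fus.NoChain p G := fun h => by
  have := C_char G 1
  refine h.index_ne (IsPGroup.of_card hn) ?_ (MxC.C G 1) (MxC.index_C hn hc le_rfl h1)
  rw [PG.frattini_eq_commutator_of_maxClass hn hc]
  have h2 : Nat.card (commutator G) = p ^ (n + 1) := MxC.card_γ hn hc (j := 1) le_rfl (by omega)
  exact (Fus.index_eq_of_card (a := n + 1) (b := 2) hn h2).le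

end MaxH

variable {Ω : Type*} [Group Ω] {S E : Subgroup Ω} [Finite S] {p : ℕ} [Fact p.Prime] {n : ℕ}

omit [Finite S] [Fact p.Prime] in
theorem eq_map_C_one {Γ₁ : Subgroup Ω} (hΓ₁ : ∀ x : Ω, x ∈ Γ₁ ↔ x ∈ S ∧
    ∀ y ∈ Subgroup.lowerCentralSeries S 1, x * y * x⁻¹ * y⁻¹ ∈ Subgroup.lowerCentralSeries S 3) :
    Γ₁ = (MxC.C S 1).map S.subtype := by
  ext x
  rw [hΓ₁, ← top_subtype_lowerCentralSeries S 1, ← top_subtype_lowerCentralSeries S 3]
  constructor
  · rintro ⟨hx, h⟩
    refine ⟨⟨x, hx⟩, fun y hy => ?_, rfl⟩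
    obtain ⟨w, hw, e⟩ := h y ⟨y, hy, rfl⟩
    have : ⁅y, (⟨x, hx⟩ : S)⁆ = w⁻¹ := Subtype.ext (by
      rw [coe_inv, show (w : Ω) = _ from e]
      simp [commutatorElement_def, mul_assoc])
    rw [this]
    exact inv_mem hw
  · rintro ⟨x, hx, rfl⟩
    refine ⟨x.2, ?_⟩
    rintro _ ⟨y, hy, rfl⟩
    refine ⟨⁅y, x⁆⁻¹, inv_mem (hx y hy), ?_⟩
    simp [commutatorElement_def, mul_assoc]

theorem eq_map_C_last (hn : Nat.card S = p ^ (n + 3)) (hc : Group.nilpotencyClass S = n + 2)
    (h1 : 1 ≤ n) : S ⊓ centralizer (((Subgroup.upperCentralSeries S 2).map S.subtype) : Set Ω) =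
      (MxC.C S n).map S.subtype := by
  rw [← MxC.centralizer_γ_eq hn hc, ← MxC.ucs_two_eq hn hc h1]
  ext x
  constructor
  · rintro ⟨hx, h⟩
    exact ⟨⟨x, hx⟩, fun y hy => Subtype.ext (h y ⟨y, hy, rfl⟩), rfl⟩
  · rintro ⟨x, hx, rfl⟩
    refine ⟨x.2, ?_⟩
    rintro _ ⟨y, hy, rfl⟩
    exact congrArg Subtype.val (hx y hy)

/-- an essential subgroup containing a uniform element has order at most `p ^ 3` -/
theorem card_le_of_uniform (hn : Nat.card S = p ^ (n + 3))
    (hc : Group.nilpotencyClass S = n + 2) {F : FusionSystem S} (hF : F.IsSaturated p)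
    (hE : F.IsEssential p E) {s : S} (hs : (s : Ω) ∈ E) (h1 : s ∉ γ S 1)
    (hu : ∀ j, 1 ≤ j → j ≤ n → s ∉ MxC.C S j) : Nat.card E ≤ p ^ 3 := by
  have hp : p.Prime := Fact.out
  have hS : IsPGroup p S := IsPGroup.of_card hn
  have : Finite E := Finite.of_injective _ (inclusion_injective hE.le)
  obtain ⟨m, hm⟩ := (hS.to_le hE.le).exists_card_eq
  by_contra hlt
  rw [hm, Nat.pow_le_pow_iff_right hp.one_lt] at hlt
  obtain ⟨r, rfl⟩ : ∃ r, m = r + 1 + 3 := ⟨m - 4, by omega⟩
  refine MaxH.not_noChain hm ?_ (by omega) (hE.noChain hF hS)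
  refine PG.nilpotencyClass_eq_of_card_centralizer_le (n := r + 2) hm (x := ⟨s, hs⟩) ?_
  rw [← MxC.card_centralizer_eq hn hc h1 hu]
  refine Nat.card_le_card_of_injective (fun y => ⟨inclusion hE.le y.1, ?_⟩) fun y y' e => ?_
  · have := mem_centralizer_singleton_iff.1 y.2
    exact mem_centralizer_singleton_iff.2 (Subtype.ext (congrArg Subtype.val this :))
  · exact Subtype.ext (inclusion_injective hE.le (congrArg Subtype.val e))

/-- the maximal case of S5269 -/
theorem of_index_eq (hp : 5 ≤ p) (hn : Nat.card S = p ^ (n + 3))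
    (hc : Group.nilpotencyClass S = n + 2) (h1 : 1 ≤ n) {F : FusionSystem S}
    (hF : F.IsSaturated p) (hE : F.IsEssential p E) (hi : (E.subgroupOf S).index = p) :
    E = (MxC.C S 1).map S.subtype ∨ E = (MxC.C S n).map S.subtype ∨
      (n = 1 ∧ Nat.card E = p ^ 3 ∧ IsExtraspecial p E ∧ Monoid.exponent E = p) := by
  have hp' : p.Prime := Fact.out
  have hS : IsPGroup p S := IsPGroup.of_card hn
  have : Finite E := Finite.of_injective _ (inclusion_injective hE.le)
  have key : ∀ j, 1 ≤ j → j ≤ n → E ≠ (MxC.C S j).map S.subtype →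
      (MxC.C S j).subgroupOf (E.subgroupOf S) ≠ ⊤ := fun j hj hj' hne e => hne (by
    rw [subgroupOf_eq_top] at e
    rw [((PG.isCoatom_of_index_prime hp' hi).le_iff.1 e).resolve_left (MxC.C_ne_top hn hc hj'),
      map_subgroupOf_eq_of_le hE.le])
  by_cases e1 : E = (MxC.C S 1).map S.subtype
  · exact .inl e1
  by_cases e2 : E = (MxC.C S n).map S.subtype
  · exact .inr (.inl e2)
  obtain ⟨⟨s, hs⟩, hs1, hsn⟩ := MxC.exists_not_mem_two (key 1 le_rfl h1 e1) (key n h1 le_rfl e2)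
  replace hs1 : s ∉ MxC.C S 1 := hs1
  replace hsn : s ∉ MxC.C S n := hsn
  have hle := card_le_of_uniform hn hc hF hE (s := s) hs (fun h => hs1 (MxC.γ_one_le_C 1 h))
    fun j hj hj' => by
      rcases hj'.lt_or_eq with h | rfl
      · rwa [MxC.C_eq hn hc hj h]
      · exact hsn
  have hE2 : Nat.card E = p ^ (n + 2) := by
    rw [← Nat.card_congr (subgroupOfEquivOfLe hE.le).toEquiv]
    exact Fus.card_eq_of_index (b := 1) hn (by rw [hi, pow_one])
  rw [hE2, Nat.pow_le_pow_iff_right hp'.one_lt] at hle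
  obtain rfl : n = 1 := by omega
  refine .inr (.inr ⟨rfl, hE2, ?_⟩)
  rcases (hE.noChain hF hS).of_card_cube hE2 with h | h | h
  · refine absurd (fun x hx => ?_) hs1
    have hx' : (x : Ω) ∈ E := PG.commutator_le_of_index_prime hS hi hx
    have : ⁅x, s⁆ = 1 := commutatorElement_eq_one_iff_mul_comm.2
      (Subtype.ext (congrArg Subtype.val (h.1.is_comm.comm (⟨x, hx'⟩ : E) ⟨s, hs⟩) :))
    rw [this]
    exact one_mem _
  · refine ⟨h.2.1, ?_⟩
    have : Nontrivial E := Finite.one_lt_card_iff_nontrivial.1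
      (hE2 ▸ Nat.one_lt_pow (by omega) hp'.one_lt)
    exact (Monoid.exponent_eq_prime_iff hp').2 fun g hg => orderOf_eq_prime (h.2.2 g) hg
  · omega

end Cfsg.Agent.MxE
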