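import Mathlib
import Cfsg.Agent.MxE.Defs

/-! The flag of a regular nilpotent endomorphism. -/

set_option autoImplicit false

namespace Cfsg.Agent.MxE

open Subgroup Cfsg.Agent.GT

variable {p : ℕ} [Fact p.Prime] {V : Type*} [AddCommGroup V] [Module (ZMod p) V]
  {x φ : Module.End (ZMod p) V} {m j k r : ℕ} {v w : V}

theorem Vj_zero : Vj x 0 = ⊤ := by
  rw [Vj, pow_zero]; exact LinearMap.range_id

theorem Vj_one : Vj x 1 = LinearMap.range x := by rw [Vj, pow_one]

theorem Vj_anti (h : j ≤ k) : Vj x k ≤ Vj x j := by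
  obtain ⟨r, rfl⟩ := Nat.exists_eq_add_of_le h
  rintro _ ⟨u, rfl⟩
  exact ⟨(x ^ r) u, by rw [pow_add, Module.End.mul_apply]⟩

theorem pow_mem_Vj (hv : v ∈ Vj x j) (r : ℕ) : (x ^ r) v ∈ Vj x (j + r) := by
  obtain ⟨u, rfl⟩ := hv
  exact ⟨u, by rw [add_comm, pow_add, Module.End.mul_apply]⟩

theorem apply_mem_Vj (hv : v ∈ Vj x j) : x v ∈ Vj x (j + 1) := by
  have := pow_mem_Vj hv 1
  rwa [pow_one] at this

theorem map_Vj (j r : ℕ) : (Vj x j).map (x ^ r) = Vj x (j + r) := by
  rw [Vj, Vj, add_comm, pow_add, Module.End.mul_eq_comp, LinearMap.range_comp]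

theorem Up.mul {ψ : Module.End (ZMod p) V} {r' : ℕ} (h : Up x r φ) (h' : Up x r' ψ) :
    Up x (r + r') (φ * ψ) := fun j v hv => by
  have := h _ _ (h' j v hv)
  rwa [add_assoc, add_comm r'] at this

theorem Up.mono {r' : ℕ} (h : Up x r φ) (h' : r' ≤ r) : Up x r' φ := fun j v hv =>
  Vj_anti (Nat.add_le_add_left h' j) (h j v hv)

/-- a map commuting with `x` with image in `Vj x r` raises the flag by `r` -/
theorem up_of_commute (hc : Commute φ x) (h : LinearMap.range φ ≤ Vj x r) : Up x r φ := by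
  rintro j _ ⟨u, rfl⟩
  rw [← Module.End.mul_apply, (hc.pow_right j).eq, Module.End.mul_apply, add_comm]
  exact pow_mem_Vj (h ⟨u, rfl⟩) j

theorem map_Vj_of_commute (hc : Commute φ x) (h : LinearMap.range φ = Vj x r) (j : ℕ) :
    (Vj x j).map φ = Vj x (j + r) := by
  rw [add_comm, ← map_Vj, ← h, Vj, ← LinearMap.range_comp, ← LinearMap.range_comp,
    ← Module.End.mul_eq_comp, ← Module.End.mul_eq_comp, (hc.pow_right j).eq]

namespace Bas

theorem mem_zero (v : V) : v ∈ Vj x 0 := Vj_zero (x := x) ▸ Submodule.mem_top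

theorem commute_aeval (hc : Commute φ x) (q : Polynomial (ZMod p)) :
    Commute φ (Polynomial.aeval x q) :=
  Algebra.commute_of_mem_adjoin_singleton_of_commute (Polynomial.aeval_mem_adjoin_singleton _ x) hc

theorem pow_mem {W : Submodule (ZMod p) V} (hW : ∀ v ∈ W, x v ∈ W) (hv : v ∈ W) (r : ℕ) :
    (x ^ r) v ∈ W := by
  induction r with
  | zero => exact hv
  | succ r ih => rw [pow_succ', Module.End.mul_apply]; exact hW _ ih

end Bas

open Bas

namespace Reg

theorem pos (h : Reg x m) : 0 < m := Nat.pos_of_ne_zero fun e => by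
  subst e
  exact h.ne h.nil

theorem bas_fin (h : Reg x m) : Module.Finite (ZMod p) V :=
  Module.finite_of_finrank_pos (h.dim ▸ h.pos)

theorem finite (h : Reg x m) : Finite V :=
  haveI := h.bas_fin
  Module.finite_of_finite (ZMod p)

theorem Vj_eq_bot (h : Reg x m) (hj : m ≤ j) : Vj x j = ⊥ := by
  obtain ⟨r, rfl⟩ := Nat.exists_eq_add_of_le hj
  rw [Vj, pow_add, h.nil, zero_mul, LinearMap.range_zero]

theorem bas_lt (h : Reg x m) (hj : j < m) : Vj x (j + 1) < Vj x j := by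
  refine lt_of_le_of_ne (Vj_anti (Nat.le_succ j)) fun e => h.ne ?_
  have h1 := map_Vj (x := x) j (m - 1 - j)
  rw [← e, map_Vj, h.Vj_eq_bot (by omega), show j + (m - 1 - j) = m - 1 by omega] at h1
  exact LinearMap.range_eq_bot.1 h1.symm

theorem finrank_Vj (h : Reg x m) (j : ℕ) : Module.finrank (ZMod p) (Vj x j) = m - j := by
  have := h.bas_fin
  have up : ∀ j ≤ m, Module.finrank (ZMod p) (Vj x j) + j ≤ m := fun j hj => by
    induction j with
    | zero => rw [Vj_zero, finrank_top, h.dim]; rfl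
    | succ j ih =>
      have := Submodule.finrank_lt_finrank_of_lt (h.bas_lt (j := j) hj)
      have := ih (by omega)
      omega
  have dn : ∀ i ≤ m, i ≤ Module.finrank (ZMod p) (Vj x (m - i)) := fun i hi => by
    induction i with
    | zero => exact Nat.zero_le _
    | succ i ih =>
      have h1 := Submodule.finrank_lt_finrank_of_lt (h.bas_lt (j := m - (i + 1)) (by omega))
      rw [show m - (i + 1) + 1 = m - i by omega] at h1
      have := ih (by omega)
      omega
  by_cases hj : j ≤ m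
  · have h1 := up j hj
    have h2 := dn (m - j) (by omega)
    rw [show m - (m - j) = j by omega] at h2
    omega
  · rw [h.Vj_eq_bot (by omega), finrank_bot]
    omega

theorem card_Vj (h : Reg x m) (j : ℕ) : Nat.card (Vj x j) = p ^ (m - j) := by
  have := h.bas_fin
  rw [Module.natCard_eq_pow_finrank (K := ZMod p), h.finrank_Vj, Nat.card_zmod]

theorem ker_of_commute (h : Reg x m) (hc : Commute φ x) (hk : k ≤ m)
    (hr : LinearMap.range φ = Vj x k) : LinearMap.ker φ = Vj x (m - k) := by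
  have := h.bas_fin
  refine (Submodule.eq_of_le_of_finrank_eq ?_ ?_).symm
  · rw [LinearMap.le_ker_iff_map, map_Vj_of_commute hc hr, h.Vj_eq_bot (by omega)]
  · have h1 := φ.finrank_range_add_finrank_ker
    rw [hr, h.finrank_Vj, h.dim] at h1
    rw [h.finrank_Vj]
    omega

theorem ker_pow (h : Reg x m) (hj : j ≤ m) : LinearMap.ker (x ^ j) = Vj x (m - j) :=
  h.ker_of_commute ((Commute.refl x).pow_left j) hj rfl

theorem pow_ne_zero (h : Reg x m) (hj : j < m) : x ^ j ≠ 0 := fun e => h.ne (by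
  rw [show m - 1 = j + (m - 1 - j) by omega, pow_add, e, zero_mul])

theorem exists_mem (h : Reg x m) (hj : j < m) : ∃ v ∈ Vj x j, v ∉ Vj x (j + 1) :=
  SetLike.exists_of_lt (h.bas_lt hj)

theorem bas_lt_of (h : Reg x m) (hv : v ∈ Vj x j) (hv' : v ∉ Vj x (j + 1)) : j < m := by
  by_contra hj
  rw [h.Vj_eq_bot (by omega), Submodule.mem_bot] at hv
  exact hv' (hv ▸ zero_mem _)

theorem exists_smul (h : Reg x m) (hv : v ∈ Vj x j) (hv' : v ∉ Vj x (j + 1)) (hw : w ∈ Vj x j) :
    ∃ c : ZMod p, w - c • v ∈ Vj x (j + 1) := by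
  have := h.bas_fin
  have h1 : Vj x (j + 1) < Vj x (j + 1) ⊔ Submodule.span (ZMod p) {v} :=
    lt_of_le_of_ne le_sup_left fun e =>
      hv' (e ▸ Submodule.mem_sup_right (Submodule.mem_span_singleton_self v))
  have h2 := Submodule.finrank_lt_finrank_of_lt h1
  have h3 : Vj x (j + 1) ⊔ Submodule.span (ZMod p) {v} = Vj x j :=
    Submodule.eq_of_le_of_finrank_le
      (sup_le (Vj_anti (Nat.le_succ j)) ((Submodule.span_singleton_le_iff_mem _ _).2 hv))
      (by rw [h.finrank_Vj] at h2 ⊢; omega)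
  rw [← h3] at hw
  obtain ⟨a, ha, b, hb, rfl⟩ := Submodule.mem_sup.1 hw
  obtain ⟨c, rfl⟩ := Submodule.mem_span_singleton.1 hb
  exact ⟨c, by rwa [add_sub_cancel_right]⟩

theorem notMem_of_commute (h : Reg x m) (hc : Commute φ x) (hr : LinearMap.range φ = Vj x k)
    (hv : v ∈ Vj x j) (hv' : v ∉ Vj x (j + 1)) (hj : j + k < m) : φ v ∉ Vj x (j + k + 1) := fun e => by
  refine (h.bas_lt hj).not_ge ?_
  rw [← map_Vj_of_commute hc hr]
  rintro _ ⟨u, hu, rfl⟩
  obtain ⟨c, h1⟩ := h.exists_smul hv hv' hu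
  have h2 := up_of_commute hc hr.le _ _ h1
  rw [map_sub, map_smul, add_right_comm] at h2
  have := add_mem h2 (Submodule.smul_mem _ c e)
  rwa [sub_add_cancel] at this

theorem pow_notMem (h : Reg x m) (hv : v ∈ Vj x j) (hv' : v ∉ Vj x (j + 1)) (hr : j + r < m) :
    (x ^ r) v ∉ Vj x (j + r + 1) :=
  h.notMem_of_commute ((Commute.refl x).pow_left r) rfl hv hv' hr

/-- it suffices to check a weight on one vector -/
theorem wt_of (h : Reg x m) (hφ' : ∀ v ∈ Vj x (j + 1), φ v ∈ Vj x (j + 1)) (hv : v ∈ Vj x j)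
    (hv' : v ∉ Vj x (j + 1)) {c : ZMod p} (hc : φ v - c • v ∈ Vj x (j + 1)) : Wt x j φ c := by
  intro u hu
  obtain ⟨a, h1⟩ := h.exists_smul hv hv' hu
  have := add_mem (sub_mem (hφ' _ h1) (Submodule.smul_mem _ c h1)) (Submodule.smul_mem _ a hc)
  convert this using 1
  rw [map_sub, map_smul]
  module

/-- every flag preserving map has a weight on each factor -/
theorem exists_wt (h : Reg x m) (hφ : ∀ v ∈ Vj x j, φ v ∈ Vj x j)
    (hφ' : ∀ v ∈ Vj x (j + 1), φ v ∈ Vj x (j + 1)) : ∃ c, Wt x j φ c := by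
  by_cases hj : j < m
  · obtain ⟨v, hv, hv'⟩ := h.exists_mem hj
    obtain ⟨c, hc⟩ := h.exists_smul hv hv' (hφ v hv)
    exact ⟨c, h.wt_of hφ' hv hv' hc⟩
  · refine ⟨0, fun v hv => ?_⟩
    rw [h.Vj_eq_bot (by omega), Submodule.mem_bot] at hv
    rw [hv, map_zero, smul_zero, sub_zero]
    exact zero_mem _

theorem wt_unique (h : Reg x m) (hj : j < m) {c c' : ZMod p} (h1 : Wt x j φ c)
    (h2 : Wt x j φ c') : c = c' := by
  obtain ⟨v, hv, hv'⟩ := h.exists_mem hj
  by_contra hne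
  have h3 := sub_mem (h2 v hv) (h1 v hv)
  rw [sub_sub_sub_cancel_left, ← sub_smul] at h3
  exact hv' ((Submodule.smul_mem_iff _ (sub_ne_zero.2 hne)).1 h3)

theorem bas_le (h : Reg x m) {W : Submodule (ZMod p) V} (hW : ∀ v ∈ W, x v ∈ W) (hvW : v ∈ W)
    (hv : v ∈ Vj x j) (hv' : v ∉ Vj x (j + 1)) : Vj x j ≤ W := by
  have key : ∀ r, Vj x j ≤ W ⊔ Vj x (j + r) := fun r => by
    induction r with
    | zero => exact le_sup_right
    | succ r ih =>
      refine ih.trans (sup_le le_sup_left fun u hu => ?_)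
      by_cases hr : j + r < m
      · obtain ⟨c, hc⟩ := h.exists_smul (pow_mem_Vj hv r) (h.pow_notMem hv hv' hr) hu
        have := add_mem (Submodule.mem_sup_left (Submodule.smul_mem _ c (pow_mem hW hvW r)))
          (Submodule.mem_sup_right hc)
        rwa [add_sub_cancel] at this
      · rw [h.Vj_eq_bot (by omega), Submodule.mem_bot] at hu
        exact hu ▸ zero_mem _
  have := key m
  rwa [h.Vj_eq_bot (j := j + m) (by omega), sup_bot_eq] at this

theorem exists_eq_Vj (h : Reg x m) (W : Submodule (ZMod p) V) (hW : ∀ v ∈ W, x v ∈ W) :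
    ∃ j ≤ m, W = Vj x j := by
  have key : ∀ i, W ≤ Vj x i ∨ ∃ j ≤ m, W = Vj x j := fun i => by
    induction i with
    | zero => exact Or.inl fun v _ => mem_zero v
    | succ i ih =>
      refine ih.elim (fun h1 => ?_) Or.inr
      by_cases h2 : W ≤ Vj x (i + 1)
      · exact Or.inl h2
      · obtain ⟨v, hv, hv'⟩ := SetLike.not_le_iff_exists.1 h2
        exact Or.inr ⟨i, (h.bas_lt_of (h1 hv) hv').le, le_antisymm h1 (h.bas_le hW hv (h1 hv) hv')⟩
  refine (key m).elim (fun h1 => ⟨m, le_rfl, le_antisymm h1 ?_⟩) id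
  rw [h.Vj_eq_bot le_rfl]
  exact bot_le

theorem exists_aeval (h : Reg x m) (hc : Commute φ x) :
    ∃ q : Polynomial (ZMod p), φ = Polynomial.aeval x q := by
  obtain ⟨e, he, he'⟩ := h.exists_mem h.pos
  have hs : ∀ v, ∃ q : Polynomial (ZMod p), Polynomial.aeval x q e = v := fun v =>
    h.bas_le (W := LinearMap.range (LinearMap.applyₗ e ∘ₗ (Polynomial.aeval x).toLinearMap))
      (by
        rintro _ ⟨q, rfl⟩
        exact ⟨Polynomial.X * q, by simp⟩) ⟨1, by simp⟩ he he' (mem_zero v)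
  obtain ⟨q, hq⟩ := hs (φ e)
  refine ⟨q, LinearMap.ext fun v => ?_⟩
  obtain ⟨r, rfl⟩ := hs v
  rw [← Module.End.mul_apply, (commute_aeval hc r).eq, Module.End.mul_apply, ← hq,
    ← Module.End.mul_apply, ← Module.End.mul_apply, ← map_mul, ← map_mul, mul_comm]

theorem commute_of_commute (h : Reg x m) {ψ : Module.End (ZMod p) V} (h1 : Commute φ x)
    (h2 : Commute ψ x) : Commute φ ψ := by
  obtain ⟨q, rfl⟩ := h.exists_aeval h2
  exact commute_aeval h1 q

/-- converse: the range of `x ^ k q(x)` with `q(0) ≠ 0` -/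
theorem range_aeval (h : Reg x m) {q : Polynomial (ZMod p)} (hq : q.coeff 0 ≠ 0) :
    LinearMap.range (x ^ k * Polynomial.aeval x q) = Vj x k := by
  have hu : IsUnit (Polynomial.aeval x q) := by
    rw [← q.X_mul_divX_add, map_add, map_mul, Polynomial.aeval_X, Polynomial.aeval_C]
    have h1 : IsNilpotent (x * Polynomial.aeval x q.divX) :=
      (commute_aeval (Commute.refl x) _).isNilpotent_mul_right ⟨m, h.nil⟩
    exact h1.isUnit_add_right_of_commute ((IsUnit.mk0 _ hq).map _) (Algebra.commutes _ _).symm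
  rw [Module.End.mul_eq_comp, LinearMap.range_comp_of_range_eq_top _
    (LinearMap.range_eq_top.2 ((Module.End.isUnit_iff _).1 hu).2), Vj]

/-- normal form `φ = x ^ k q(x)`, `q(0) ≠ 0` -/
theorem exists_aeval_of_range (h : Reg x m) (hc : Commute φ x) (hk : k < m)
    (hr : LinearMap.range φ = Vj x k) : ∃ q : Polynomial (ZMod p), q.coeff 0 ≠ 0 ∧
      φ = x ^ k * Polynomial.aeval x q := by
  obtain ⟨q, rfl⟩ := h.exists_aeval hc
  have h0 : q ≠ 0 := fun e => by
    have := h.finrank_Vj k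
    rw [← hr, e, map_zero, LinearMap.range_zero, finrank_bot] at this
    omega
  obtain ⟨q1, e, hd⟩ := Polynomial.exists_eq_pow_rootMultiplicity_mul_and_not_dvd q h0 0
  generalize q.rootMultiplicity 0 = l at e
  rw [map_zero, sub_zero] at e hd
  rw [Polynomial.X_dvd_iff] at hd
  have e1 : Polynomial.aeval x q = x ^ l * Polynomial.aeval x q1 := by
    rw [e, map_mul, map_pow, Polynomial.aeval_X]
  have e2 := h.finrank_Vj k
  rw [← hr, e1, h.range_aeval hd, h.finrank_Vj] at e2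
  obtain rfl : l = k := by omega
  exact ⟨q1, hd, e1⟩

/-- a map commuting with `x` whose values on `V \ Vj x 1` lie in `Vj x k \ Vj x (k+1)` -/
theorem range_eq_of (h : Reg x m) (hc : Commute φ x) (hv : v ∉ Vj x 1) (h1 : φ v ∈ Vj x k)
    (h2 : φ v ∉ Vj x (k + 1)) : LinearMap.range φ = Vj x k := by
  obtain ⟨l, -, e⟩ := h.exists_eq_Vj (LinearMap.range φ) (by
    rintro _ ⟨u, rfl⟩
    exact ⟨x u, by rw [← Module.End.mul_apply, hc.eq, Module.End.mul_apply]⟩)
  have hk := h.bas_lt_of h1 h2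
  rcases lt_trichotomy l k with a | rfl | a
  · have := h.notMem_of_commute hc e (mem_zero v) hv (by omega)
    exact absurd (Vj_anti (by omega) h1) this
  · exact e
  · exact absurd (Vj_anti a (e ▸ ⟨v, rfl⟩)) h2

theorem trace_eq (h : Reg x m) (η : ℕ → ZMod p) (hφ : ∀ j < m, Wt x j φ (η j)) :
    LinearMap.trace (ZMod p) V φ = ∑ j ∈ Finset.range m, η j := by
  classical
  obtain ⟨e, he, he'⟩ := h.exists_mem h.pos
  have hs : ⊤ ≤ Submodule.span (ZMod p) (Set.range fun i : Fin m => (x ^ (i : ℕ)) e) := by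
    rw [← Vj_zero (x := x)]
    refine h.bas_le (fun v hv => ?_) (Submodule.subset_span ⟨⟨0, h.pos⟩, rfl⟩) he he'
    refine (Submodule.span_le (p := (Submodule.span (ZMod p)
      (Set.range fun i : Fin m => (x ^ (i : ℕ)) e)).comap x)).2 ?_ hv
    rintro _ ⟨i, rfl⟩
    show x ((x ^ (i : ℕ)) e) ∈
      Submodule.span (ZMod p) (Set.range fun i : Fin m => (x ^ (i : ℕ)) e)
    rw [← Module.End.mul_apply, ← pow_succ']
    by_cases hi : (i : ℕ) + 1 < m
    · exact Submodule.subset_span ⟨⟨_, hi⟩, rfl⟩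
    · rw [show (i : ℕ) + 1 = m by omega, h.nil]
      exact zero_mem _
  obtain ⟨b, hb⟩ : ∃ b : Module.Basis (Fin m) (ZMod p) V, ∀ i, b i = (x ^ (i : ℕ)) e :=
    ⟨basisOfTopLeSpanOfCardEqFinrank _ hs (by rw [Fintype.card_fin, h.dim]), fun i =>
      congrFun (coe_basisOfTopLeSpanOfCardEqFinrank ..) i⟩
  have hz : ∀ j : Fin m, ∀ u ∈ Vj x (j + 1), b.repr u j = 0 := by
    rintro j _ ⟨u, rfl⟩
    have : b.coord j ∘ₗ (x ^ ((j : ℕ) + 1)) = 0 := b.ext fun i => by
      show b.repr ((x ^ ((j : ℕ) + 1)) (b i)) j = 0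
      rw [hb, ← Module.End.mul_apply, ← pow_add]
      by_cases hi : (j : ℕ) + 1 + i < m
      · rw [← hb ⟨_, hi⟩, b.repr_self, Finsupp.single_eq_of_ne]
        intro e
        have := congrArg Fin.val e
        simp only at this
        omega
      · rw [show (j : ℕ) + 1 + i = m + (j + 1 + i - m) by omega, pow_add, h.nil, zero_mul,
          LinearMap.zero_apply, map_zero, Finsupp.zero_apply]
    exact LinearMap.congr_fun this u
  rw [LinearMap.trace_eq_matrix_trace (ZMod p) b, Matrix.trace, ← Fin.sum_univ_eq_sum_range]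
  refine Finset.sum_congr rfl fun j _ => ?_
  have h1 := hz j _ (hφ j j.2 (b j) ⟨e, (hb j).symm⟩)
  rw [map_sub, map_smul, Finsupp.sub_apply, Finsupp.smul_apply, b.repr_self, Finsupp.single_eq_same,
    smul_eq_mul, mul_one, sub_eq_zero] at h1
  rw [Matrix.diag_apply, LinearMap.toMatrix_apply, h1]

/-- a functional with kernel `Vj x 1` -/
theorem exists_dual (h : Reg x m) :
    ∃ f : Module.Dual (ZMod p) V, ∀ v, f v = 0 ↔ v ∈ Vj x 1 := by
  obtain ⟨e, he, he'⟩ := h.exists_mem h.pos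
  obtain ⟨f, h1, h2⟩ := Submodule.exists_dual_map_eq_bot_of_notMem he' inferInstance
  have h3 : ∀ v ∈ Vj x (0 + 1), f v = 0 := fun v hv => by
    have : f v ∈ (Vj x (0 + 1)).map f := ⟨v, hv, rfl⟩
    rwa [h2, Submodule.mem_bot] at this
  refine ⟨f, fun v => ⟨fun hv => ?_, h3 v⟩⟩
  obtain ⟨c, hc⟩ := h.exists_smul he he' (mem_zero v)
  have h4 := h3 _ hc
  rw [map_sub, map_smul, hv, zero_sub, neg_eq_zero, smul_eq_mul, mul_eq_zero] at h4
  rwa [h4.resolve_right h1, zero_smul, sub_zero] at hc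

/-- criterion: a cyclic vector -/
theorem of_vec [Finite V] (hd : Module.finrank (ZMod p) V = m) (h0 : x ^ m = 0)
    (hv : (x ^ (m - 1)) v ≠ 0) : Reg x m :=
  ⟨hd, h0, fun e => hv (by rw [e, LinearMap.zero_apply])⟩

end Reg

end Cfsg.Agent.MxE
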