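import Mathlib
import Cfsg.Agent.MxE.Bas

/-! Basic consequences of `LS` and `LS2`. -/

set_option autoImplicit false
set_option linter.unusedSectionVars false

namespace Cfsg.Agent.MxE

open Subgroup Cfsg.Agent.GT

variable {p : ℕ} [Fact p.Prime] {G : Type*} [Group G] {V : Type*} [AddCommGroup V]
  [Module (ZMod p) V]
  [Finite G] {ρ : Representation (ZMod p) G V} {P : Sylow p G} {s z : G} {m k : ℕ} {δ : G → V}

namespace BasL

theorem up_one (x : Module.End (ZMod p) V) : Up x 0 1 := fun _ _ hv => hv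

theorem up_pow {x φ : Module.End (ZMod p) V} (h : Up x 1 φ) (j : ℕ) : Up x j (φ ^ j) := by
  induction j with
  | zero => rw [pow_zero]; exact up_one x
  | succ j ih => rw [pow_succ]; exact ih.mul h

theorem up_sub {x φ ψ : Module.End (ZMod p) V} {r : ℕ} (h : Up x r φ) (h' : Up x r ψ) : Up x r (φ - ψ) :=
  fun j v hv => sub_mem (h j v hv) (h' j v hv)

theorem eq_zero_of_up {x φ : Module.End (ZMod p) V} (h : Reg x m) (h' : Up x m φ) : φ = 0 :=
  LinearMap.ext fun v => by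
    have := h' 0 v (by rw [Vj_zero]; trivial)
    rwa [h.Vj_eq_bot (by omega)] at this

theorem range_le_iff {φ : Module.End (ZMod p) V} {W : Submodule (ZMod p) V} :
    LinearMap.range φ ≤ W ↔ ∀ v, φ v ∈ W :=
  ⟨fun h v => h ⟨v, rfl⟩, fun h _ ⟨v, e⟩ => e ▸ h v⟩

theorem range_le_of_up {x φ : Module.End (ZMod p) V} {r : ℕ} (h : Up x r φ) :
    LinearMap.range φ ≤ Vj x r := range_le_iff.2 fun v => by
  have := h 0 v (by rw [Vj_zero]; trivial)
  rwa [zero_add] at this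

theorem mul_sub (a b : G) (v : V) : (ρ (a * b) - 1) v = (ρ a - 1) (ρ b v) + (ρ b - 1) v := by
  simp

theorem conj_sub (n a : G) (v : V) : (ρ (n * a * n⁻¹) - 1) (ρ n v) = ρ n ((ρ a - 1) v) := by
  have e : ρ (n * a * n⁻¹) (ρ n v) = ρ n (ρ a v) := by
    rw [← Module.End.mul_apply, ← map_mul, inv_mul_cancel_right, map_mul, Module.End.mul_apply]
  simp only [LinearMap.sub_apply, Module.End.one_apply, map_sub, e]

theorem exists_nat {y g : G} (h : y ∈ zpowers g) : ∃ b : ℕ, y = g ^ b := by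
  obtain ⟨b, hb⟩ := mem_powers_iff_mem_zpowers.2 h
  exact ⟨b, hb.symm⟩

theorem conj_mem {n u : G} (hn : n ∈ normalizer ((P : Subgroup G) : Set G)) (hu : u ∈ (P : Subgroup G)) :
    n * u * n⁻¹ ∈ (P : Subgroup G) := (mem_normalizer_iff.1 hn u).1 hu

theorem three (h : LS ρ P s z m k) : 3 ≤ m := by
  have := h.k_two
  have := h.k_lt
  omega

theorem pow_sub (h : LS ρ P s z m k) {g : G} (hg : g ∈ (P : Subgroup G)) {r j : ℕ}
    (hr : Up (ρ s - 1) r (ρ g - 1)) {w : V} (hw : w ∈ Vj (ρ s - 1) j) (a : ℕ) :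
    (ρ (g ^ a) - 1) w - (a : ZMod p) • (ρ g - 1) w ∈ Vj (ρ s - 1) (j + r + 1) := by
  induction a with
  | zero => simp
  | succ a ih =>
    have e : (ρ (g ^ (a + 1)) - 1) w - ((a + 1 : ℕ) : ZMod p) • (ρ g - 1) w =
        ((ρ (g ^ a) - 1) w - (a : ZMod p) • (ρ g - 1) w) + (ρ (g ^ a) - 1) ((ρ g - 1) w) := by
      rw [pow_succ, mul_sub, Nat.cast_succ, add_smul, one_smul]
      simp only [LinearMap.sub_apply, Module.End.one_apply, map_sub]
      abel
    rw [e]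
    exact add_mem ih (h.step _ (pow_mem hg a) _ _ (hr j w hw))

theorem exists_e (h : LS ρ P s z m k) :
    ∃ e, e ∈ Vj (ρ s - 1) 0 ∧ e ∉ Vj (ρ s - 1) (0 + 1) ∧ (ρ s - 1) e ∉ Vj (ρ s - 1) (1 + 1) := by
  have h3 := three h
  obtain ⟨e, he, he'⟩ := h.reg.exists_mem (j := 0) (by omega)
  have := h.reg.pow_notMem he he' (r := 1) (by omega)
  rw [pow_one] at this
  exact ⟨e, he, he', this⟩

theorem cast_eq_zero (h : LS ρ P s z m k) {a : ℕ} (ha : LinearMap.range (ρ (s ^ a) - 1) ≤ Vj (ρ s - 1) 2) :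
    (a : ZMod p) = 0 := by
  obtain ⟨e, he, -, he2⟩ := exists_e h
  have h1 := sub_mem (range_le_iff.1 ha e) (pow_sub h h.s_mem (h.step s h.s_mem) he a)
  rw [sub_sub_cancel] at h1
  by_contra hn
  exact he2 ((Submodule.smul_mem_iff _ hn).1 h1)

theorem s_not (h : LS ρ P s z m k) : ¬ LinearMap.range (ρ s - 1) ≤ Vj (ρ s - 1) 2 := fun e =>
  one_ne_zero (α := ZMod p) (by simpa using cast_eq_zero h (a := 1) (by rwa [pow_one]))

end BasL

open BasL

namespace LS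

theorem z_ne (h : LS ρ P s z m k) : z ≠ 1 := by
  rintro rfl
  obtain ⟨v, hv, hv'⟩ := h.reg.exists_mem h.k_lt
  rw [← h.range_z] at hv
  obtain ⟨w, rfl⟩ := hv
  exact hv' (by simp)

theorem pow_eq_one (h : LS ρ P s z m k) {u : G} (hu : u ∈ (P : Subgroup G)) : u ^ p = 1 := by
  haveI : Nontrivial (Module.End (ZMod p) V) := nontrivial_of_ne _ _ h.reg.ne
  haveI : CharP (Module.End (ZMod p) V) p :=
    charP_of_injective_algebraMap (algebraMap (ZMod p) (Module.End (ZMod p) V)).injective p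
  have h1 : (ρ u - 1) ^ p = 0 :=
    pow_eq_zero_of_le h.m_lt.le (eq_zero_of_up h.reg (up_pow (h.step u hu) m))
  rw [sub_pow_char_of_commute p (Commute.one_right _), one_pow, sub_eq_zero, ← map_pow, ← map_one ρ] at h1
  exact h.inj h1

theorem orderOf_s (h : LS ρ P s z m k) : orderOf s = p :=
  orderOf_eq_prime (h.pow_eq_one h.s_mem) fun e => s_not h (by
    nth_rewrite 1 [e]
    simp)

theorem orderOf_z (h : LS ρ P s z m k) : orderOf z = p := orderOf_eq_prime (h.pow_eq_one h.z_mem) h.z_ne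

theorem commute_Y (h : LS ρ P s z m k) : Commute (ρ z - 1) (ρ s - 1) :=
  (((h.z_cent s h.s_mem).symm.map ρ).sub_right (Commute.one_right _)).sub_left (Commute.one_left _)

theorem up_Y (h : LS ρ P s z m k) : Up (ρ s - 1) k (ρ z - 1) := up_of_commute h.commute_Y h.range_z.le

theorem ker_Y (h : LS ρ P s z m k) : LinearMap.ker (ρ z - 1) = Vj (ρ s - 1) (m - k) :=
  h.reg.ker_of_commute h.commute_Y h.k_lt.le h.range_z

theorem inv_P (h : LS ρ P s z m k) (j : ℕ) : InvS ρ (P : Subgroup G) (Vj (ρ s - 1) j) := fun g hg v hv => by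
  simpa using add_mem (Vj_anti (Nat.le_succ j) (h.step g hg j v hv)) hv

theorem inv_normalizer (h : LS ρ P s z m k) (j : ℕ) :
    InvS ρ (normalizer ((P : Subgroup G) : Set G)) (Vj (ρ s - 1) j) := fun n hn => by
  induction j with
  | zero => intro v _; rw [Vj_zero]; trivial
  | succ j ih =>
    intro v hv
    rw [← map_Vj, pow_one] at hv
    obtain ⟨w, hw, rfl⟩ := hv
    rw [← conj_sub]
    exact h.step _ (conj_mem hn h.s_mem) j _ (ih w hw)

/-- `P = ⟨s⟩ P₁` -/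
theorem exists_pow (h : LS ρ P s z m k) {u : G} (hu : u ∈ (P : Subgroup G)) :
    ∃ a : ℕ, LinearMap.range (ρ (u * (s ^ a)⁻¹) - 1) ≤ Vj (ρ s - 1) 2 := by
  obtain ⟨e, he, he1, he2⟩ := exists_e h
  obtain ⟨c, hc⟩ := h.reg.exists_smul (j := 1) (apply_mem_Vj he) he2 (h.step u hu 0 e he)
  have h1 := sub_mem hc (pow_sub h h.s_mem (h.step s h.s_mem) he c.val)
  rw [ZMod.natCast_zmod_val, sub_sub_sub_cancel_right] at h1
  refine ⟨c.val, range_le_iff.2 fun v => ?_⟩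
  obtain ⟨w, rfl⟩ : ∃ w, v = ρ (s ^ c.val) w := ⟨ρ (s ^ c.val)⁻¹ v, by
    rw [← Module.End.mul_apply, ← map_mul, mul_inv_cancel, map_one, Module.End.one_apply]⟩
  obtain ⟨d, hd⟩ := h.reg.exists_smul he he1 (w := w) (by rw [Vj_zero]; trivial)
  have h2 := add_mem (Submodule.smul_mem _ d h1)
    (sub_mem (h.step u hu _ _ hd) (h.step _ (pow_mem h.s_mem c.val) _ _ hd))
  convert h2 using 1
  simp only [LinearMap.sub_apply, Module.End.one_apply, map_sub, map_smul, smul_sub, ← Module.End.mul_apply,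
    ← map_mul, inv_mul_cancel_right]
  abel

end LS

namespace BasL

theorem range_mul {a b : G} {W : Submodule (ZMod p) V} (ha : LinearMap.range (ρ a - 1) ≤ W)
    (hb : LinearMap.range (ρ b - 1) ≤ W) : LinearMap.range (ρ (a * b) - 1) ≤ W := by
  refine range_le_iff.2 fun v => ?_
  rw [BasL.mul_sub]
  exact W.add_mem (range_le_iff.1 ha (ρ b v)) (range_le_iff.1 hb v)

theorem range_inv {a : G} {W : Submodule (ZMod p) V} (ha : LinearMap.range (ρ a - 1) ≤ W) :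
    LinearMap.range (ρ a⁻¹ - 1) ≤ W := by
  refine range_le_iff.2 fun v => ?_
  have e := BasL.mul_sub (ρ := ρ) a a⁻¹ v
  rw [mul_inv_cancel, map_one, sub_self, LinearMap.zero_apply] at e
  rw [eq_neg_of_add_eq_zero_right e.symm]
  exact W.neg_mem (range_le_iff.1 ha (ρ a⁻¹ v))

/-- The subgroup `P₁`. -/
def P1 (ρ : Representation (ZMod p) G V) (P : Sylow p G) (s : G) : Subgroup G where
  carrier := {u | u ∈ (P : Subgroup G) ∧ LinearMap.range (ρ u - 1) ≤ Vj (ρ s - 1) 2}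
  one_mem' := ⟨one_mem _, by simp⟩
  mul_mem' := fun ha hb => ⟨mul_mem ha.1 hb.1, range_mul ha.2 hb.2⟩
  inv_mem' := fun ha => ⟨inv_mem ha.1, range_inv ha.2⟩

theorem conj_P1 (h : LS ρ P s z m k) {n u : G} (hn : n ∈ normalizer ((P : Subgroup G) : Set G))
    (hu : u ∈ P1 ρ P s) : n * u * n⁻¹ ∈ P1 ρ P s :=
  ⟨conj_mem hn hu.1, range_le_iff.2 fun v => by
    obtain ⟨w, rfl⟩ : ∃ w, v = ρ n w := ⟨ρ n⁻¹ v, by
      rw [← Module.End.mul_apply, ← map_mul, mul_inv_cancel, map_one, Module.End.one_apply]⟩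
    rw [conj_sub]
    exact h.inv_normalizer 2 n hn _ (range_le_iff.1 hu.2 _)⟩

theorem up_Z (h : LS ρ P s z m k) {y : G} (hy : y ∈ zpowers z) : Up (ρ s - 1) k (ρ y - 1) := fun j w hw => by
  obtain ⟨b, rfl⟩ := exists_nat hy
  simpa using add_mem (Vj_anti (Nat.le_succ _) (pow_sub h h.z_mem h.up_Y hw b))
    (Submodule.smul_mem _ (b : ZMod p) (h.up_Y j w hw))

theorem Z_le (h : LS ρ P s z m k) : zpowers z ≤ P1 ρ P s := fun _ hy =>
  ⟨zpowers_le.2 h.z_mem hy, range_le_of_up ((up_Z h hy).mono h.k_two)⟩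

theorem pow_eq_one_of_cast {g : G} (hg : g ^ p = 1) {a : ℕ} (ha : (a : ZMod p) = 0) : g ^ a = 1 := by
  obtain ⟨c, rfl⟩ := (ZMod.natCast_eq_zero_iff a p).1 ha
  rw [pow_mul, hg, one_pow]

theorem wt_step (h : LS ρ P s z m k) {n : G} (hn : n ∈ normalizer ((P : Subgroup G) : Set G)) {a j : ℕ}
    (ha : ∀ v ∈ Vj (ρ s - 1) j, (ρ (n * s * n⁻¹ * (s ^ a)⁻¹) - 1) v ∈ Vj (ρ s - 1) (j + 2)) {w : ZMod p}
    (hw : Wt (ρ s - 1) j (ρ n) w) : Wt (ρ s - 1) (j + 1) (ρ n) (a * w) := fun v hv => by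
  rw [← map_Vj, pow_one] at hv
  obtain ⟨y, hy, rfl⟩ := hv
  have n1 := h.inv_normalizer j n hn y hy
  have h1 := ha _ (h.inv_P j _ (pow_mem h.s_mem a) _ n1)
  have h2 := pow_sub h h.s_mem (h.step s h.s_mem) n1 a
  have h3 := Submodule.smul_mem _ (a : ZMod p) (apply_mem_Vj (hw y hy))
  have e := mul_sub (ρ := ρ) (n * s * n⁻¹ * (s ^ a)⁻¹) (s ^ a) (ρ n y)
  rw [inv_mul_cancel_right, conj_sub] at e
  convert add_mem (add_mem h1 h2) h3 using 1
  rw [e, map_sub, map_smul, smul_sub, mul_smul]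
  abel

end BasL

namespace LS

/-- `P₁` is a subgroup of index `p` of `P` normalised by `N(P)` -/
theorem exists_P1 (h : LS ρ P s z m k) : ∃ Q : Subgroup G, Q ≤ P ∧
    (∀ u, u ∈ Q ↔ u ∈ (P : Subgroup G) ∧ LinearMap.range (ρ u - 1) ≤ Vj (ρ s - 1) 2) ∧
    Q.relIndex (P : Subgroup G) = p ∧
    normalizer ((P : Subgroup G) : Set G) ≤ normalizer (Q : Set G) := by
  refine ⟨P1 ρ P s, fun _ hu => hu.1, fun _ => Iff.rfl, ?_,
    fun n hn => mem_normalizer_fintype fun u hu => conj_P1 h hn hu⟩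
  haveI : ((P1 ρ P s).subgroupOf (P : Subgroup G)).Normal :=
    ⟨fun u hu g => conj_P1 h (le_normalizer g.2) hu⟩
  have h1 : ∀ y : (P : Subgroup G) ⧸ (P1 ρ P s).subgroupOf (P : Subgroup G),
      y ∈ zpowers (QuotientGroup.mk' ((P1 ρ P s).subgroupOf (P : Subgroup G)) ⟨s, h.s_mem⟩) := fun y => by
    obtain ⟨u, rfl⟩ := QuotientGroup.mk'_surjective _ y
    obtain ⟨a, ha⟩ := h.exists_pow u.2
    refine ⟨(a : ℤ), ?_⟩
    beta_reduce
    rw [zpow_natCast, ← map_pow, eq_comm, ← mul_inv_eq_one, ← map_inv, ← map_mul]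
    exact (QuotientGroup.eq_one_iff _).2 ⟨mul_mem u.2 (inv_mem (pow_mem h.s_mem a)), ha⟩
  refine (orderOf_eq_card_of_forall_mem_zpowers h1).symm.trans (orderOf_eq_prime ?_ fun e => ?_)
  · rw [← map_pow, show (⟨s, h.s_mem⟩ : (P : Subgroup G)) ^ p = 1 from Subtype.ext (h.pow_eq_one h.s_mem), map_one]
  · exact s_not h ((QuotientGroup.eq_one_iff _).1 e).2

/-- the weights of `n ∈ N(P)` on consecutive factors have a constant ratio `a ≠ 0` -/
theorem wt_succ (h : LS ρ P s z m k) {n : G} (hn : n ∈ normalizer ((P : Subgroup G) : Set G))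
    {a : ℕ} (ha : LinearMap.range (ρ (n * s * n⁻¹ * (s ^ a)⁻¹) - 1) ≤ Vj (ρ s - 1) 2) :
    (a : ZMod p) ≠ 0 ∧ ∀ j w, j + 3 ≤ m → Wt (ρ s - 1) j (ρ n) w →
      Wt (ρ s - 1) (j + 1) (ρ n) (a * w) := by
  refine ⟨fun e => ?_, fun j w hj hw => wt_step h hn
    (h.two _ (mul_mem (conj_mem hn h.s_mem) (inv_mem (pow_mem h.s_mem a))) ha j hj) hw⟩
  rw [pow_eq_one_of_cast (h.pow_eq_one h.s_mem) e, inv_one, mul_one] at ha
  have := conj_P1 h (inv_mem hn) ⟨conj_mem hn h.s_mem, ha⟩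
  rw [show n⁻¹ * (n * s * n⁻¹) * n⁻¹⁻¹ = s by group] at this
  exact s_not h this.2

/-- an `s`-invariant subgroup of `P₁` not in `⟨z⟩` has an element with `1 ≠ [u, s] ∈ ⟨z⟩` -/
theorem exists_comm (h : LS ρ P s z m k) {Q : Subgroup G} (hQ : Q ≤ P)
    (h2 : ∀ u ∈ Q, LinearMap.range (ρ u - 1) ≤ Vj (ρ s - 1) 2)
    (hs : ∀ u ∈ Q, s * u * s⁻¹ ∈ Q) (hz : ¬ Q ≤ zpowers z) :
    ∃ u ∈ Q, s * u * s⁻¹ * u⁻¹ ∈ zpowers z ∧ s * u * s⁻¹ * u⁻¹ ≠ 1 := by
  by_contra hn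
  have up0 : ∀ g ∈ (P : Subgroup G), Up (ρ s - 1) 0 (ρ g) := fun g hg j v hv => h.inv_P j g hg v hv
  have key : ∀ r, ∃ u ∈ Q, u ∉ zpowers z ∧ Up (ρ s - 1) r (ρ u - 1) := fun r => by
    induction r with
    | zero =>
      obtain ⟨u, hu, hu'⟩ := SetLike.not_le_iff_exists.1 hz
      exact ⟨u, hu, hu', up_sub (up0 u (hQ hu)) (up_one _)⟩
    | succ r ih =>
      obtain ⟨u, hu, hu', hr⟩ := ih
      refine ⟨_, mul_mem (hs u hu) (inv_mem hu), fun e => hu' (h.cent u (hQ hu) (h2 u hu) ?_), ?_⟩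
      · have e1 : s * u * s⁻¹ * u⁻¹ = 1 := by
          by_contra e1
          exact hn ⟨u, hu, e, e1⟩
        rw [mul_inv_eq_one, mul_inv_eq_iff_eq_mul] at e1
        exact e1.symm
      · have e1 : ρ (s * u * s⁻¹ * u⁻¹) - 1 =
            ((ρ s - 1) * (ρ u - 1) - (ρ u - 1) * (ρ s - 1)) * ρ (s⁻¹ * u⁻¹) := by
          have e2 : (ρ s - 1) * (ρ u - 1) - (ρ u - 1) * (ρ s - 1) = ρ (s * u) - ρ (u * s) := by
            rw [map_mul, map_mul]; noncomm_ring
          rw [e2, sub_mul, ← map_mul, ← map_mul, ← mul_assoc, show u * s * (s⁻¹ * u⁻¹) = 1 by group, map_one]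
        rw [e1]
        refine (up_sub ?_ (hr.mul (h.step s h.s_mem))).mul
          (up0 _ (mul_mem (inv_mem h.s_mem) (inv_mem (hQ hu))))
        rw [add_comm]
        exact (h.step s h.s_mem).mul hr
  obtain ⟨u, -, hu, hr⟩ := key m
  have e := eq_zero_of_up h.reg hr
  rw [sub_eq_zero, ← map_one ρ] at e
  exact hu (h.inj e ▸ one_mem _)

end LS

namespace LS2

theorem exists_eq (h : LS2 ρ P s z m k δ) {u : G} (hu : u ∈ (P : Subgroup G)) :
    ∃ i j : ℕ, u = s ^ i * z ^ j := by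
  obtain ⟨a, ha⟩ := h.toLS.exists_pow hu
  obtain ⟨b, hb⟩ := exists_nat (h.one _ (mul_mem hu (inv_mem (pow_mem h.s_mem a))) ha)
  exact ⟨a, b, by rw [((h.z_cent s h.s_mem).pow_pow a b).eq, ← hb, inv_mul_cancel_right]⟩

theorem commute (h : LS2 ρ P s z m k δ) {u u' : G} (hu : u ∈ (P : Subgroup G))
    (hu' : u' ∈ (P : Subgroup G)) : Commute u u' := by
  obtain ⟨i, j, rfl⟩ := h.exists_eq hu'
  refine Commute.mul_right (Commute.pow_right ?_ i) ((h.z_cent u hu).pow_right j)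
  obtain ⟨i, j, rfl⟩ := h.exists_eq hu
  exact ((Commute.refl s).pow_left i).mul_left ((h.z_cent s h.s_mem).symm.pow_left j)

theorem sum_eq (h : LS2 ρ P s z m k δ) [Fintype (P : Subgroup G)] {A : Type*} [AddCommMonoid A]
    (F : G → A) : ∑ u : (P : Subgroup G), F u =
      ∑ i ∈ Finset.range p, ∑ j ∈ Finset.range p, F (s ^ i * z ^ j) := by
  have hp : 0 < p := (Fact.out : p.Prime).pos
  rw [← Finset.sum_product']
  refine (Finset.sum_bij (fun ij _ => (⟨s ^ ij.1 * z ^ ij.2, mul_mem (pow_mem h.s_mem _) (pow_mem h.z_mem _)⟩ :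
    (P : Subgroup G))) (fun _ _ => Finset.mem_univ _) ?_ (fun u _ => ?_) fun _ _ => rfl).symm
  · rintro ⟨i, j⟩ h1 ⟨i', j'⟩ h2 e
    simp only [Finset.mem_product, Finset.mem_range] at h1 h2
    have e1 : s ^ i * z ^ j = s ^ i' * z ^ j' := congrArg Subtype.val e
    have e2 : s ^ (p - i' + i) = z ^ j' * (z ^ j)⁻¹ := by
      rw [eq_mul_inv_iff_mul_eq, pow_add, mul_assoc, e1, ← mul_assoc, ← pow_add, Nat.sub_add_cancel h2.1.le,
        h.toLS.pow_eq_one h.s_mem, one_mul]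
    have e3 := cast_eq_zero h.toLS (a := p - i' + i) (by
      rw [e2]
      exact (Z_le h.toLS (mul_mem (npow_mem_zpowers z j') (inv_mem (npow_mem_zpowers z j)))).2)
    have e4 := Nat.eq_of_dvd_of_lt_two_mul (by omega) ((ZMod.natCast_eq_zero_iff _ _).1 e3) (by omega)
    obtain rfl : i = i' := by omega
    rw [mul_right_inj] at e1
    have e5 : j = j' := pow_injOn_Iio_orderOf (by rw [h.toLS.orderOf_z]; exact h1.2)
      (by rw [h.toLS.orderOf_z]; exact h2.2) e1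
    rw [e5]
  · obtain ⟨i, j, e⟩ := h.exists_eq u.2
    refine ⟨(i % p, j % p), by simp [Nat.mod_lt _ hp], Subtype.ext ?_⟩
    show s ^ (i % p) * z ^ (j % p) = u
    have a1 := pow_mod_orderOf s i
    have a2 := pow_mod_orderOf z j
    rw [h.toLS.orderOf_s] at a1
    rw [h.toLS.orderOf_z] at a2
    rw [a1, a2, e]

end LS2

namespace BasL

theorem b_ne (h : LS ρ P s z m k) {n : G} {b : ℕ} (hb : n * z * n⁻¹ = z ^ b) : (b : ZMod p) ≠ 0 := fun e => by
  rw [pow_eq_one_of_cast (h.pow_eq_one h.z_mem) e, mul_inv_eq_one, mul_eq_left] at hb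
  exact h.z_ne hb

end BasL

namespace LS2

/-- `N(P)` normalises `⟨z⟩` -/
theorem exists_conj (h : LS2 ρ P s z m k δ) {n : G}
    (hn : n ∈ normalizer ((P : Subgroup G) : Set G)) : ∃ a b : ℕ, (a : ZMod p) ≠ 0 ∧
      (b : ZMod p) ≠ 0 ∧ n * s * n⁻¹ * (s ^ a)⁻¹ ∈ zpowers z ∧ n * z * n⁻¹ = z ^ b := by
  obtain ⟨a, ha⟩ := h.toLS.exists_pow (conj_mem hn h.s_mem)
  have h1 := conj_P1 h.toLS hn (Z_le h.toLS (mem_zpowers z))
  obtain ⟨b, hb⟩ := exists_nat (h.one _ h1.1 h1.2)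
  exact ⟨a, b, (h.toLS.wt_succ hn ha).1, b_ne h.toLS hb,
    h.one _ (mul_mem (conj_mem hn h.s_mem) (inv_mem (pow_mem h.s_mem a))) ha, hb⟩

/-- all weights of `n ∈ N(P)` -/
theorem wt_all (h : LS2 ρ P s z m k δ) {n : G} (hn : n ∈ normalizer ((P : Subgroup G) : Set G))
    {a b : ℕ} (ha : n * s * n⁻¹ * (s ^ a)⁻¹ ∈ zpowers z) (hb : n * z * n⁻¹ = z ^ b) :
    (∀ j, Wt (ρ s - 1) j (ρ n) ((a : ZMod p) ^ (j + 1) * b)) ∧ (a : ZMod p) ^ k = b := by
  have h0 := h.wt n hn a b ha hb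
  have h1 : ∀ j, Wt (ρ s - 1) j (ρ n) ((a : ZMod p) ^ (j + 1) * b) := fun j => by
    induction j with
    | zero => rwa [zero_add, pow_one]
    | succ j ih =>
      rw [pow_succ', mul_assoc]
      exact wt_step h.toLS hn ((up_Z h.toLS ha).mono h.k_two j) ih
  refine ⟨h1, ?_⟩
  obtain ⟨e, he, he1, -⟩ := exists_e h.toLS
  have y1 := h.toLS.up_Y 0 e he
  have y2 := h.reg.notMem_of_commute h.toLS.commute_Y h.range_z he he1 (by rw [zero_add]; exact h.k_lt)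
  have y3 := pow_sub h.toLS h.z_mem h.toLS.up_Y (h.toLS.inv_normalizer 0 n hn e he) b
  have y4 := Submodule.smul_mem _ (b : ZMod p) (h.toLS.up_Y _ _ (h0 e he))
  rw [← hb, conj_sub] at y3
  rw [add_right_comm] at y4
  rw [zero_add] at y1 y2 y3 y4
  have h2 : Wt (ρ s - 1) k (ρ n) ((b : ZMod p) * (a * b)) :=
    h.reg.wt_of (h.toLS.inv_normalizer _ n hn) y1 y2 (by
      convert add_mem y3 y4 using 1
      rw [map_sub, map_smul, smul_sub, mul_smul]
      abel)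
  have h3 := h.reg.wt_unique h.k_lt (h1 k) h2
  have a0 : (a : ZMod p) ≠ 0 := (h.toLS.wt_succ hn (Z_le h.toLS ha).2).1
  have b0 := b_ne h.toLS hb
  refine mul_right_cancel₀ (mul_ne_zero a0 b0) ?_
  rw [← h3]
  ring

/-- `⟨s⟩` is trivial-intersection inside `C(z)` -/
theorem mem_normalizer (h : LS2 ρ P s z m k δ) {g : G} (hg : Commute g z)
    (hs : g⁻¹ * s * g ∈ normalizer ((P : Subgroup G) : Set G)) :
    g ∈ normalizer ((P : Subgroup G) : Set G) := by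
  have h1 : IsPGroup p (zpowers (g⁻¹ * s * g)) := by
    refine IsPGroup.of_card (n := 1) ?_
    rw [Nat.card_zpowers, pow_one, ← h.toLS.orderOf_s]
    exact (MulAut.conj g⁻¹).orderOf_eq s ▸ by simp
  have h2 : g⁻¹ * s * g⁻¹⁻¹ ∈ (P : Subgroup G) := by
    rw [inv_inv]
    exact ((h1.inf_normalizer_sylow P).le ⟨mem_zpowers _, hs⟩).2
  refine inv_mem_iff.1 (mem_normalizer_fintype fun u hu => ?_)
  obtain ⟨i, j, rfl⟩ := h.exists_eq hu
  rw [← conj_mul, ← conj_pow, (hg.inv_left.pow_right j).mul_inv_cancel]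
  exact mul_mem (pow_mem h2 i) (pow_mem h.z_mem j)

end LS2

end Cfsg.Agent.MxE
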