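import Mathlib
import Cfsg.Agent.MxE.BasL
import Cfsg.Agent.Loc.MssSyl

/-! The case `P₁ ≠ ⟨z⟩`: `z` is quadratic. -/

set_option autoImplicit false

namespace Cfsg.Agent.MxE

open Subgroup Cfsg.Agent.GT

variable {p : ℕ} [Fact p.Prime] {G : Type*} [Group G] {V : Type*} [AddCommGroup V]
  [Module (ZMod p) V]
  [Finite G] {ρ : Representation (ZMod p) G V} {P : Sylow p G} {s z : G} {m k : ℕ} {δ : G → V}

namespace BigA

open Polynomial

theorem expand {R : Type*} [CommRing R] (q g : R[X]) (k : ℕ) : ∃ w : R[X],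
    w.coeff 0 = (k + 1 : ℕ) * q.coeff 0 * g.coeff 0 ∧
      (X ^ (k + 1) * q).comp (X + X ^ (k + 1) * g) = X ^ (k + 1) * q + X ^ (2 * k + 1) * w := by
  obtain ⟨κ, e⟩ := binomExpansion ((X ^ (k + 1) * q).map C) X (X ^ (k + 1) * g)
  have e1 : ∀ (f a : R[X]), (f.map C).eval a = f.comp a := fun f a => eval_map _ _
  rw [derivative_map, e1, e1, e1, comp_X, comp_X] at e
  refine ⟨C ((k + 1 : ℕ) : R) * q * g + X * (derivative q * g + κ * g ^ 2), by simp, ?_⟩
  rw [e, derivative_mul, derivative_X_pow, Nat.add_sub_cancel]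
  ring

theorem semiconj {R A : Type*} [CommRing R] [Ring A] [Algebra R A] {u a b : A} (h : u * a = b * u) (f : R[X]) :
    u * aeval a f = aeval b f * u := by
  induction f using Polynomial.induction_on' with
  | add f g hf hg => rw [map_add, map_add, mul_add, add_mul, hf, hg]
  | monomial n c =>
    rw [aeval_monomial, aeval_monomial, ← Algebra.smul_def, ← Algebra.smul_def, mul_smul_comm, smul_mul_assoc,
      (SemiconjBy.pow_right h n).eq]

theorem pow_comm {A : Type*} [Ring A] {x φ D : A} (h : x * φ - φ * x = D) (hc : Commute x D) (n : ℕ) :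
    x ^ (n + 1) * φ - φ * x ^ (n + 1) = (n + 1) • (x ^ n * D) := by
  induction n with
  | zero => simpa using h
  | succ n ih =>
    calc x ^ (n + 1 + 1) * φ - φ * x ^ (n + 1 + 1)
        = x * (x ^ (n + 1) * φ - φ * x ^ (n + 1)) + (x * φ - φ * x) * x ^ (n + 1) := by
          rw [pow_succ' x (n + 1)]; noncomm_ring
      _ = _ := by
          rw [ih, h, ← (hc.pow_left _).eq, mul_smul_comm, ← mul_assoc, ← pow_succ', succ_nsmul _ (n + 1)]

omit [Finite G] in
theorem range_pow (g : G) (n : ℕ) : LinearMap.range (ρ (g ^ n) - 1) ≤ LinearMap.range (ρ g - 1) := by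
  rw [map_pow, ← mul_geom_sum]
  exact LinearMap.range_comp_le_range _ _

theorem range_eq (h : LS ρ P s z m k) {ζ : G} (h1 : ζ ∈ zpowers z) (h2 : ζ ≠ 1) :
    LinearMap.range (ρ ζ - 1) = Vj (ρ s - 1) k := by
  obtain ⟨n, rfl⟩ := mem_powers_iff_mem_zpowers.2 h1
  have hc : n.Coprime (orderOf z) := by
    rw [h.orderOf_z, Nat.coprime_comm, (Fact.out : p.Prime).coprime_iff_not_dvd, ← h.orderOf_z,
      orderOf_dvd_iff_pow_eq_one]
    exact h2
  obtain ⟨j, hj⟩ := exists_pow_eq_self_of_coprime hc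
  refine le_antisymm (h.range_z ▸ range_pow z n) ?_
  have := range_pow (ρ := ρ) (z ^ n) j
  rwa [hj, h.range_z] at this

omit [Finite G] in
theorem comm_of_mem (h : LS ρ P s z m k) {ζ u : G} (h1 : ζ ∈ zpowers z) (hu : u ∈ (P : Subgroup G)) :
    Commute u ζ := by
  obtain ⟨n, rfl⟩ := h1
  exact (h.z_cent u hu).zpow_right n

omit [Finite G] in
theorem comm_sub {a b : G} (h : Commute a b) : Commute (ρ a - 1) (ρ b - 1) :=
  ((h.map ρ).sub_right (Commute.one_right _)).sub_left (Commute.one_left _)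

variable (ρ z) in
/-- The elements `u` with `[V, u] ≤ [V, z]` and `C_V(z) ≤ C_V(u)`. -/
def HS : Subgroup G where
  carrier := {u | (∀ v, ρ u v - v ∈ LinearMap.range (ρ z - 1)) ∧ ∀ v, ρ z v = v → ρ u v = v}
  one_mem' := ⟨fun v => by simp, fun v _ => by simp⟩
  mul_mem' := fun {a b} ha hb => ⟨fun v => by
    rw [map_mul, Module.End.mul_apply, ← sub_add_sub_cancel _ (ρ b v)]
    exact add_mem (ha.1 _) (hb.1 _), fun v hv => by rw [map_mul, Module.End.mul_apply, hb.2 v hv, ha.2 v hv]⟩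
  inv_mem' := fun {a} ha => ⟨fun v => by
    have := neg_mem (ha.1 (ρ a⁻¹ v))
    rwa [neg_sub, ρ.self_inv_apply] at this, fun v hv => by
      conv_lhs => rw [← ha.2 v hv]
      exact ρ.inv_self_apply a v⟩

omit [Finite G] in
theorem mem_HS {u : G} : u ∈ HS ρ z ↔ LinearMap.range (ρ u - 1) ≤ LinearMap.range (ρ z - 1) ∧
    LinearMap.ker (ρ z - 1) ≤ LinearMap.ker (ρ u - 1) := by
  refine and_congr ⟨fun h _ ⟨v, e⟩ => e ▸ h v, fun h v => h ⟨v, rfl⟩⟩ (forall_congr' fun v => ?_)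
  simp [sub_eq_zero]

omit [Finite G] in
theorem conj_mem {g u : G} (hg : Commute g z) (hu : u ∈ HS ρ z) : g * u * g⁻¹ ∈ HS ρ z := by
  have k : ∀ {g : G}, Commute g z → ∀ v, ρ z (ρ g v) = ρ g (ρ z v) := fun {g} hg v => by
    rw [← Module.End.mul_apply, ← map_mul, ← hg.eq, map_mul, Module.End.mul_apply]
  refine ⟨fun v => ?_, fun v hv => ?_⟩
  · obtain ⟨w, e⟩ := hu.1 (ρ g⁻¹ v)
    refine ⟨ρ g w, ?_⟩
    have := congrArg (ρ g) e
    simp only [LinearMap.sub_apply, Module.End.one_apply, map_sub, ρ.self_inv_apply] at this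
    simp only [LinearMap.sub_apply, Module.End.one_apply, map_mul, Module.End.mul_apply, k hg, this]
  · rw [map_mul, map_mul, Module.End.mul_apply, Module.End.mul_apply, hu.2 _ (by rw [k hg.inv_left, hv]),
      ρ.self_inv_apply]

theorem Vj_ne_bot {x : Module.End (ZMod p) V} (h : Reg x m) {j : ℕ} (hj : j < m) : Vj x j ≠ ⊥ := fun e =>
  h.pow_ne_zero hj (LinearMap.range_eq_bot.1 e)

omit [Finite G] in
theorem cast_ne {n : ℕ} (h0 : 0 < n) (h1 : n < p) : (n : ZMod p) ≠ 0 := fun e =>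
  (Nat.le_of_dvd h0 ((ZMod.natCast_eq_zero_iff _ _).1 e)).not_gt h1

end BigA

open BigA Polynomial in
theorem LS.two_mul (h : LS ρ P s z m k) {u : G} (hu : u ∈ (P : Subgroup G))
    (h2 : LinearMap.range (ρ u - 1) ≤ Vj (ρ s - 1) 2) (hz : u ∉ zpowers z) : m + 1 ≤ 2 * k := by
  obtain ⟨Q, hQ, mQ, -, nQ⟩ := h.exists_P1
  obtain ⟨w, hw, h3, h4⟩ := h.exists_comm hQ (fun u hu => ((mQ u).1 hu).2)
    (fun u hu => (mem_normalizer_iff.1 (nQ (le_normalizer h.s_mem)) u).1 hu) fun hle => hz (hle ((mQ u).2 ⟨hu, h2⟩))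
  have e0 : s * w = w * (s * w * s⁻¹ * w⁻¹ * s) := by
    rw [← mul_assoc, (comm_of_mem h h3 (hQ hw)).eq]; group
  have cw := comm_of_mem h h3 (hQ hw)
  have cs := comm_of_mem h h3 h.s_mem
  have hr := range_eq h h3 h4
  generalize s * w * s⁻¹ * w⁻¹ = ζ at *
  obtain ⟨q, hq, eq⟩ := h.reg.exists_aeval_of_range (comm_sub cs.symm) h.k_lt hr
  obtain ⟨l, rfl⟩ : ∃ l, k = l + 1 := ⟨k - 1, by have := h.k_two; omega⟩
  obtain ⟨r, hr0, er⟩ := expand q (q * (1 + X)) l
  have eY : aeval (ρ s - 1) (X ^ (l + 1) * q) = ρ ζ - 1 := by rw [eq, map_mul, map_pow, aeval_X]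
  have e1 : ρ w * aeval (ρ s - 1) (X + X ^ (l + 1) * (q * (1 + X))) = (ρ s - 1) * ρ w := by
    rw [← mul_assoc, map_add, map_mul, eY, map_add, aeval_X, map_one, sub_mul (ρ s), ← map_mul, e0, map_mul, map_mul]
    noncomm_ring
  have e2 := semiconj e1 (X ^ (l + 1) * q)
  rw [← aeval_comp, er, map_add, eY, mul_add, ((cw.map ρ).sub_right (Commute.one_right _)).eq, add_eq_left] at e2
  have e3 : (ρ s - 1) ^ (2 * l + 1) * aeval (ρ s - 1) r = 0 := by
    have := congrArg (ρ w⁻¹ * ·) e2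
    simpa only [← mul_assoc, ← map_mul ρ, inv_mul_cancel, map_one, one_mul, mul_zero, map_mul (aeval _), map_pow,
      aeval_X] using this
  have hr1 : r.coeff 0 ≠ 0 := by
    rw [hr0]
    simpa using ⟨by simpa using cast_ne l.succ_pos (h.k_lt.trans h.m_lt), hq⟩
  by_contra hlt
  refine Vj_ne_bot h.reg (j := 2 * l + 1) (by omega) ?_
  rw [← h.reg.range_aeval hr1, e3, LinearMap.range_zero]

open BigA Loc.Mss in
theorem LS.mem_zpowers (h : LS ρ P s z m k) (hk : m ≤ 2 * k) {u : G} (hu : ∃ j : ℕ, u ^ p ^ j = 1)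
    (hc : Commute u z) (h1 : LinearMap.range (ρ u - 1) ≤ LinearMap.range (ρ z - 1))
    (h2 : LinearMap.ker (ρ z - 1) ≤ LinearMap.ker (ρ u - 1)) : u ∈ zpowers z := by
  have key : (P : Subgroup G) ⊓ HS ρ z ≤ zpowers z := by
    by_contra hz
    obtain ⟨w, hw, h3, h4⟩ := h.exists_comm inf_le_left
      (fun u hu => (mem_HS.1 hu.2).1.trans (h.range_z.le.trans (Vj_anti h.k_two)))
      (fun u hu => ⟨(P : Subgroup G).mul_mem ((P : Subgroup G).mul_mem h.s_mem hu.1) (inv_mem h.s_mem),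
        conj_mem (h.z_cent s h.s_mem) hu.2⟩) hz
    have e0 : s * w = s * w * s⁻¹ * w⁻¹ * (w * s) := by group
    have cs := comm_of_mem h h3 h.s_mem
    have hr := range_eq h h3 h4
    generalize s * w * s⁻¹ * w⁻¹ = ζ at *
    obtain ⟨a1, a2⟩ := mem_HS.1 hw.2
    rw [h.range_z] at a1
    rw [h.ker_Y] at a2
    have kl := h.k_lt
    have e1 : (ρ ζ - 1) * (ρ w - 1) = 0 := LinearMap.range_le_ker_iff.1 (a1.trans ((Vj_anti (by omega)).trans
      (h.reg.ker_of_commute (comm_sub cs.symm) kl.le hr).ge))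
    have e2 : (ρ s - 1) * (ρ w - 1) - (ρ w - 1) * (ρ s - 1) = (ρ ζ - 1) * ρ s := by
      have e3 : ρ s * ρ w = ρ ζ * (ρ w * ρ s) := by rw [← map_mul, e0, map_mul, map_mul]
      calc _ = ρ s * ρ w - ρ w * ρ s := by noncomm_ring
        _ = (ρ ζ - 1) * (ρ w - 1) * ρ s + (ρ ζ - 1) * ρ s := by rw [e3]; noncomm_ring
        _ = _ := by rw [e1, zero_mul, zero_add]
    obtain ⟨d, hd⟩ : ∃ d, m - k = d + 1 := ⟨m - k - 1, by omega⟩
    have e4 := pow_comm e2 ((comm_sub cs).mul_right ((Commute.refl _).sub_left (Commute.one_left _))) d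
    have e5 : (ρ s - 1) ^ (d + 1) * (ρ w - 1) = 0 := LinearMap.range_le_ker_iff.1 (a1.trans (by
      rw [h.reg.ker_pow (by omega), show m - (d + 1) = k by omega]))
    have e6 : (ρ w - 1) * (ρ s - 1) ^ (d + 1) = 0 := LinearMap.range_le_ker_iff.1 (hd ▸ a2)
    rw [e5, e6, sub_zero, eq_comm, ← Nat.cast_smul_eq_nsmul (ZMod p),
      smul_eq_zero_iff_right (cast_ne d.succ_pos (by have := h.m_lt; omega))] at e4
    have e7 : (ρ s - 1) ^ d * (ρ ζ - 1) = 0 := by
      have := congrArg (· * ρ s⁻¹) e4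
      simpa only [mul_assoc, ← map_mul, mul_inv_cancel, map_one, mul_one, zero_mul] using this
    refine Vj_ne_bot h.reg (j := k + d) (by omega) ?_
    rw [← map_Vj, ← hr, ← LinearMap.range_comp, ← Module.End.mul_eq_comp, e7, LinearMap.range_zero]
  have hP : (P : Subgroup G) ≤ centralizer {z} := fun u hu => mem_centralizer_singleton_iff.2 (h.z_cent u hu)
  obtain ⟨g, hg, hle⟩ := (Syl.of_sylow_le P hP).conj_le (P := zpowers u) (pg_iff.2 (by
    rintro _ ⟨n, rfl⟩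
    obtain ⟨j, hj⟩ := hu
    exact ⟨j, by rw [← zpow_natCast, ← zpow_mul, mul_comm, zpow_mul, zpow_natCast, hj, one_zpow]⟩))
    (zpowers_le.2 (mem_centralizer_singleton_iff.2 hc))
  have cg : Commute g z := mem_centralizer_singleton_iff.1 hg
  obtain ⟨n, hn⟩ := key ⟨hle (conj_mem_cj (Subgroup.mem_zpowers u)), conj_mem cg (mem_HS.2 ⟨h1, h2⟩)⟩
  refine ⟨n, ?_⟩
  have := (cg.zpow_right n).inv_mul_cancel
  simp only at hn ⊢
  rw [← this, hn]
  group

end Cfsg.Agent.MxE
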