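import Mathlib
import Cfsg.Agent.MxE.BasL

/-! The involution forces dimension three; dimension three is impossible. -/

set_option autoImplicit false
set_option linter.unusedSectionVars false

namespace Cfsg.Agent.MxE

open Subgroup Cfsg.Agent.GT

variable {p : ℕ} [Fact p.Prime] {G : Type*} [Group G] {V : Type*} [AddCommGroup V]
  [Module (ZMod p) V]
  [Finite G] {ρ : Representation (ZMod p) G V} {P : Sylow p G} {s z : G} {m k : ℕ} {δ : G → V}

namespace BigB

variable {C : Subgroup G} {X X' : Submodule (ZMod p) V}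

theorem mul_app (g h : G) (v : V) : ρ (g * h) v = ρ g (ρ h v) := by rw [map_mul]; rfl

theorem inv_app (g : G) (v : V) : ρ g⁻¹ (ρ g v) = v := by rw [← mul_app, inv_mul_cancel, map_one]; rfl

theorem app_inv (g : G) (v : V) : ρ g (ρ g⁻¹ v) = v := by rw [← mul_app, mul_inv_cancel, map_one]; rfl

/-- The elements of `C` acting trivially on the section `X / X'`. -/
def sec (X : Submodule (ZMod p) V) (h : InvS ρ C X') : Subgroup G where
  carrier := {g | g ∈ C ∧ ∀ v ∈ X, ρ g v - v ∈ X'}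
  one_mem' := ⟨one_mem _, fun v _ => by simp⟩
  mul_mem' := fun {a b} ha hb => ⟨mul_mem ha.1 hb.1, fun v hv => by
    have := add_mem (h a ha.1 _ (hb.2 v hv)) (ha.2 v hv)
    rwa [map_sub, sub_add_sub_cancel, ← mul_app] at this⟩
  inv_mem' := fun {a} ha => ⟨inv_mem ha.1, fun v hv => by
    have := neg_mem (h _ (inv_mem ha.1) _ (ha.2 v hv))
    rwa [map_sub, inv_app, neg_sub] at this⟩

theorem le_norm_sec (h0 : InvS ρ C X) (h : InvS ρ C X') : C ≤ normalizer (sec X h : Set G) := by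
  have key : ∀ c ∈ C, ∀ g ∈ sec X h, c * g * c⁻¹ ∈ sec X h := fun c hc g hg =>
    ⟨mul_mem (mul_mem hc hg.1) (inv_mem hc), fun v hv => by
      have := h c hc _ (hg.2 _ (h0 _ (inv_mem hc) v hv))
      rwa [map_sub, app_inv, ← mul_app, ← mul_app] at this⟩
  exact fun c hc => mem_normalizer_fintype (key c hc)

theorem comm_mem_sec (h0 : InvS ρ C X) (h : InvS ρ C X') {t u : G} (ht : t ∈ C) (hu : u ∈ C)
    {ε : ZMod p} (hε : ∀ v ∈ X, ρ t v - ε • v ∈ X') : t * u * t⁻¹ * u⁻¹ ∈ sec X h := by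
  refine ⟨mul_mem (mul_mem (mul_mem ht hu) (inv_mem ht)) (inv_mem hu), fun v hv => ?_⟩
  have hw := h0 _ (inv_mem ht) _ (h0 _ (inv_mem hu) v hv)
  have := sub_mem (hε _ (h0 u hu _ hw)) (h u hu _ (hε _ hw))
  rw [map_sub, map_smul, sub_sub_sub_cancel_right, app_inv, app_inv] at this
  rwa [mul_app, mul_app, mul_app]

theorem comm_Y {c : G} (hc : c ∈ centralizer ({z} : Set G)) (v : V) :
    (ρ z - 1) (ρ c v) = ρ c ((ρ z - 1) v) := by
  have := mem_centralizer_singleton_iff.1 hc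
  simp only [LinearMap.sub_apply, Module.End.one_apply, map_sub]
  rw [← mul_app, ← mul_app, this]

theorem invS_ker : InvS ρ (centralizer {z}) (LinearMap.ker (ρ z - 1)) := fun c hc v hv => by
  rw [LinearMap.mem_ker] at hv ⊢
  rw [comm_Y hc, hv, map_zero]

theorem invS_range : InvS ρ (centralizer {z}) (LinearMap.range (ρ z - 1)) := by
  rintro c hc _ ⟨v, rfl⟩
  exact ⟨_, comm_Y hc v⟩

theorem invS_bot : InvS ρ C ⊥ := fun c _ v hv => by rw [(Submodule.mem_bot _).1 hv, map_zero]; rfl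

theorem invS_top : InvS ρ C ⊤ := fun _ _ _ _ => trivial

theorem mem_norm (h : LS ρ P s z m k) {t : G} (hc : Commute t z)
    (h1 : ∀ v, (ρ z - 1) (ρ t v + v) = 0)
    (h2 : ∀ v, (ρ z - 1) v = 0 → ρ t v - v ∈ LinearMap.range (ρ z - 1)) :
    t ∈ normalizer ((P : Subgroup G) : Set G) := by
  set K := sec ⊤ (invS_ker (ρ := ρ) (z := z)) ⊓ (sec (LinearMap.ker (ρ z - 1)) (invS_range (ρ := ρ) (z := z)) ⊓
    sec (LinearMap.range (ρ z - 1)) (invS_bot (ρ := ρ) (C := centralizer {z}))) with hK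
  have hPC : (P : Subgroup G) ≤ centralizer {z} := fun u hu =>
    mem_centralizer_singleton_iff.2 (h.z_cent u hu).eq
  have htC : t ∈ centralizer ({z} : Set G) := mem_centralizer_singleton_iff.2 hc.eq
  have hp : IsPGroup p K := fun g => ⟨1, Subtype.ext (h.inj (by
    obtain ⟨g, a, b, c⟩ := g
    have e : (ρ g - 1) ^ 3 = 0 := LinearMap.ext fun v =>
      (Submodule.mem_bot _).1 (c.2 _ (b.2 _ (a.2 v trivial)))
    have e2 : (ρ g - 1) ^ p = 0 := pow_eq_zero_of_le (by have := h.hp; omega) e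
    have : Nontrivial V := by
      by_contra hn
      rw [not_nontrivial_iff_subsingleton] at hn
      exact h.reg.ne (Subsingleton.elim _ _)
    have : CharP (Module.End (ZMod p) V) p := charP_of_injective_algebraMap
      (algebraMap (ZMod p) (Module.End (ZMod p) V)).injective p
    rw [sub_pow_char_of_commute _ (Commute.one_right _), one_pow, sub_eq_zero] at e2
    simp [e2]))⟩
  have hn : (P : Subgroup G) ≤ normalizer (K : Set G) := fun u hu => mem_normalizer_fintype fun g hg =>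
    ⟨(mem_normalizer_iff.1 (le_norm_sec invS_top _ (hPC hu)) g).1 hg.1,
      (mem_normalizer_iff.1 (le_norm_sec invS_ker _ (hPC hu)) g).1 hg.2.1,
      (mem_normalizer_iff.1 (le_norm_sec invS_range _ (hPC hu)) g).1 hg.2.2⟩
  have hKP : K ≤ P := by
    rw [← P.is_maximal' (hp.to_sup_of_normal_left' P.isPGroup' hn) le_sup_right]
    exact le_sup_left
  refine mem_normalizer_fintype fun u hu => ?_
  have : t * u * t⁻¹ * u⁻¹ ∈ K :=
    ⟨comm_mem_sec invS_top _ htC (hPC hu) (ε := -1) fun v _ => by simpa using h1 v,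
      comm_mem_sec invS_ker _ htC (hPC hu) (ε := 1) fun v hv => by simpa using h2 v hv,
      comm_mem_sec invS_range _ htC (hPC hu) (ε := -1) (by
        rintro _ ⟨v, rfl⟩
        have := h1 v
        rw [map_add, comm_Y htC] at this
        rw [neg_one_smul, sub_neg_eq_add, this]
        exact zero_mem _)⟩
  have := mul_mem (hKP this) hu
  rwa [inv_mul_cancel_right] at this

theorem card_ge (h : LS ρ P s z m k) {u : G} (hu : u ∈ (P : Subgroup G))
    (h2 : LinearMap.range (ρ u - 1) ≤ Vj (ρ s - 1) 2) (hz : u ∉ zpowers z) :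
    p ^ 3 ≤ Nat.card (P : Subgroup G) := by
  obtain ⟨Q, hQP, hQ, hi, -⟩ := h.exists_P1
  have hZ : zpowers z ≤ Q := zpowers_le.2 ((hQ z).2 ⟨h.z_mem, h.range_z ▸ Vj_anti h.k_two⟩)
  obtain ⟨n, hn⟩ := (P.isPGroup'.to_le hQP).exists_card_eq
  have h1 : 2 ≤ n := by
    by_contra hlt
    refine hz (eq_of_le_of_card_ge hZ ?_ ▸ (hQ u).2 ⟨hu, h2⟩)
    rw [hn, Nat.card_zpowers, h.orderOf_z]
    calc p ^ n ≤ p ^ 1 := Nat.pow_le_pow_right (Fact.out : p.Prime).pos (by omega)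
      _ = p := pow_one p
  have h3 := (Q.subgroupOf P).card_mul_index
  rw [Nat.card_congr (subgroupOfEquivOfLe hQP).toEquiv, hn] at h3
  change _ * Q.relIndex P = _ at h3
  rw [← h3, hi, ← pow_succ]
  exact Nat.pow_le_pow_right (Fact.out : p.Prime).pos (by omega)

theorem exists_transv (h : LS ρ P s z 3 k) (hP : p ^ 3 ≤ Nat.card (P : Subgroup G))
    {f : Module.Dual (ZMod p) V} (hf : ∀ v, f v = 0 ↔ v ∈ Vj (ρ s - 1) 1) {w : V}
    (hw : w ∈ Vj (ρ s - 1) 1) : ∃ u ∈ (P : Subgroup G), ∀ v, ρ u v = v + f v • w := by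
  have := h.reg.finite
  obtain ⟨e, -, he⟩ := h.reg.exists_mem (j := 0) (by norm_num)
  obtain ⟨e1, he1, he1'⟩ := h.reg.exists_mem (j := 1) (by norm_num)
  have fe : f e ≠ 0 := fun H => he ((hf e).1 H)
  set e0 := (f e)⁻¹ • e with he0
  have f0 : f e0 = 1 := by rw [he0, map_smul, smul_eq_mul, inv_mul_cancel₀ fe]
  have fix2 : ∀ u ∈ (P : Subgroup G), ∀ v ∈ Vj (ρ s - 1) 2, ρ u v = v := fun u hu v hv => by
    have := h.step u hu 2 v hv
    rw [h.reg.Vj_eq_bot le_rfl, Submodule.mem_bot] at this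
    exact sub_eq_zero.1 this
  have dec : ∀ v, ∃ c : ZMod p, ∃ y ∈ Vj (ρ s - 1) 2, v = f v • e0 + c • e1 + y := fun v => by
    obtain ⟨c, hc⟩ := h.reg.exists_smul he1 he1' ((hf (v - f v • e0)).1 (by simp [f0]))
    exact ⟨c, _, hc, by abel⟩
  let F : ↥(P : Subgroup G) → Vj (ρ s - 1) 1 × Vj (ρ s - 1) 2 := fun u =>
    (⟨(ρ u - 1) e0, h.step u u.2 0 e0 (by rw [Vj_zero]; trivial)⟩, ⟨(ρ u - 1) e1, h.step u u.2 1 e1 he1⟩)
  have hF : Function.Injective F := fun u u' H => Subtype.ext (h.inj (LinearMap.ext fun v => by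
    have a0 : ρ u e0 - e0 = ρ u' e0 - e0 := congrArg (fun x => (x.1 : V)) H
    have a1 : ρ u e1 - e1 = ρ u' e1 - e1 := congrArg (fun x => (x.2 : V)) H
    obtain ⟨c, y, hy, e⟩ := dec v
    rw [e]
    simp only [map_add, map_smul, fix2 _ u.2 y hy, fix2 _ u'.2 y hy, sub_left_inj.1 a0, sub_left_inj.1 a1]))
  obtain ⟨u, hu⟩ := (hF.bijective_of_nat_card_le (by
    rw [Nat.card_prod, h.reg.card_Vj, h.reg.card_Vj, ← pow_add]; exact hP)).2 (⟨w, hw⟩, 0)
  have a0 : ρ u e0 - e0 = w := congrArg (fun x => (x.1 : V)) hu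
  have a1 : ρ u e1 - e1 = 0 := congrArg (fun x => (x.2 : V)) hu
  refine ⟨u, u.2, fun v => ?_⟩
  obtain ⟨c, y, hy, e⟩ := dec v
  conv_lhs => rw [e]
  conv_rhs => rw [e]
  simp only [map_add, map_smul, fix2 _ u.2 y hy, sub_eq_zero.1 a1, sub_eq_iff_eq_add.1 a0, f0,
    (hf e1).2 he1, (hf y).2 (Vj_anti (by norm_num) hy)]
  simp only [smul_eq_mul, mul_one, mul_zero, add_zero, smul_add]
  abel

end BigB

open BigB

theorem LS.eq_three (h : LS ρ P s z m k) (hk : m + 1 ≤ 2 * k) {t : G} (hc : Commute t z)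
    (h1 : ∀ v, (ρ z - 1) (ρ t v + v) = 0)
    (h2 : ∀ v, (ρ z - 1) v = 0 → ρ t v - v ∈ LinearMap.range (ρ z - 1)) : m = 3 := by
  have hn := mem_norm h hc h1 h2
  obtain ⟨a, ha⟩ := h.exists_pow ((mem_normalizer_iff.1 hn s).1 h.s_mem)
  obtain ⟨-, hw⟩ := h.wt_succ hn ha
  have k2 := h.k_two
  have kl := h.k_lt
  have w1 : ∀ j, j < m - k → Wt (ρ s - 1) j (ρ t) (-1) := fun j hj v _ => by
    have : ρ t v + v ∈ Vj (ρ s - 1) (m - k) := h.ker_Y ▸ h1 v
    simpa using Vj_anti (show j + 1 ≤ m - k from hj) this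
  have w2 : ∀ j, m - k ≤ j → j < k → Wt (ρ s - 1) j (ρ t) 1 := fun j hj hj' v hv => by
    have : v ∈ LinearMap.ker (ρ z - 1) := h.ker_Y ▸ Vj_anti hj hv
    have := h2 v this
    rw [h.range_z] at this
    simpa using Vj_anti (show j + 1 ≤ k from hj') this
  have e1 : (a : ZMod p) * -1 = 1 :=
    h.reg.wt_unique (j := m - k - 1 + 1) (by omega) (hw _ _ (by omega) (w1 _ (by omega)))
      (w2 _ (by omega) (by omega))
  by_contra h3
  have e2 : (a : ZMod p) = 1 := by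
    by_cases h4 : 2 ≤ m - k
    · simpa using h.reg.wt_unique (j := 0 + 1) (by omega) (hw _ _ (by omega) (w1 _ (by omega)))
        (w1 _ (by omega))
    · simpa using h.reg.wt_unique (j := 1 + 1) (by omega) (hw _ _ (by omega) (w2 _ (by omega) (by omega)))
        (w2 _ (by omega) (by omega))
  have : Fact (2 < p) := ⟨by have := h.hp; omega⟩
  rw [e2, one_mul] at e1
  exact ZMod.neg_one_ne_one e1

theorem LS.not_three (h : LS ρ P s z 3 k) {u : G} (hu : u ∈ (P : Subgroup G))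
    (h2 : LinearMap.range (ρ u - 1) ≤ Vj (ρ s - 1) 2) (hz : u ∉ zpowers z) {M : Subgroup G}
    (hM : Inv.SE.StrEmb p M) (hPM : (P : Subgroup G) ≤ M) : False := by
  have hP := card_ge h hu h2 hz
  have := h.reg.finite
  obtain ⟨f, hf⟩ := h.reg.exists_dual
  obtain ⟨g, hg⟩ := hM.exists_not_mem
  obtain ⟨⟨q, hq⟩, hq1, hq0⟩ := (Submodule.ne_bot_iff _).1 (LinearMap.ker_ne_bot_of_finrank_lt
    (f := (f ∘ₗ ρ g) ∘ₗ (Vj (ρ s - 1) 1).subtype) (by rw [h.reg.finrank_Vj]; simp))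
  have hq2 : f (ρ g q) = 0 := hq1
  have hq3 : q ≠ 0 := fun e => hq0 (Subtype.ext e)
  obtain ⟨a, ha, ea⟩ := exists_transv h hP hf ((hf _).1 hq2)
  obtain ⟨b, hb, eb⟩ := exists_transv h hP hf hq
  obtain ⟨e, -, he⟩ := h.reg.exists_mem (j := 0) (by norm_num)
  have fe : f e ≠ 0 := fun H => he ((hf e).1 H)
  have ord : ∀ c ∈ (P : Subgroup G), ∀ w, w ≠ 0 → (∀ v, ρ c v = v + f v • w) → orderOf c = p :=
    fun c hc w hw ec => orderOf_eq_prime (h.pow_eq_one hc) fun H => by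
      have := ec e
      rw [H, map_one, Module.End.one_apply, left_eq_add, smul_eq_zero] at this
      exact this.elim fe hw
  have oa := ord a ha _ (fun H => hq3 (by rw [← inv_app (ρ := ρ) g q, H, map_zero])) ea
  have ob := ord b hb _ hq3 eb
  have ec : ∀ v, ρ (g * b * g⁻¹) v = v + f (ρ g⁻¹ v) • ρ g q := fun v => by
    rw [mul_app, mul_app, eb, map_add, map_smul, app_inv]
  refine hg (hM.mem_of_conj g b ob (hPM hb) (hM.mem_of_commute (by rw [oa]) (hPM ha) (h.inj ?_)))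
  refine LinearMap.ext fun v => ?_
  rw [mul_app, mul_app a, ec, ec, ea, ea]
  simp only [map_add, map_smul, inv_app, hq2, (hf q).2 hq, smul_eq_mul, mul_zero, add_zero]
  abel

end Cfsg.Agent.MxE
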