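import Mathlib
import Cfsg.Agent.MxE.BasL
import Cfsg.Agent.GT.Cores
import Cfsg.Agent.Inv.SylowElt

/-! The case `|P| = p ^ 2`: trivial intersection, and a composition factor. -/

set_option autoImplicit false

namespace Cfsg.Agent.MxE

open Subgroup Cfsg.Agent.GT

variable {p : ℕ} [Fact p.Prime] {G : Type*} [Group G] {V : Type*} [AddCommGroup V]
  [Module (ZMod p) V]
  [Finite G] {ρ : Representation (ZMod p) G V} {P : Sylow p G} {s z : G} {m k : ℕ} {δ : G → V}

theorem LS2.reg_of (h : LS2 ρ P s z m k δ) {u : G} (hu : u ∈ (P : Subgroup G)) (hz : u ∉ zpowers z) :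
    Reg (ρ u - 1) m := by
  have hm : 1 < m := by have := h.k_two; have := h.k_lt; omega
  have hc : Commute (ρ u - 1) (ρ s - 1) :=
    (((h.commute hu h.s_mem).map ρ).sub_left (Commute.one_left _)).sub_right (Commute.one_right _)
  obtain ⟨j, -, hj⟩ := h.reg.exists_eq_Vj (LinearMap.range (ρ u - 1)) (by
    rintro _ ⟨v, rfl⟩
    exact ⟨(ρ s - 1) v, by rw [← Module.End.mul_apply, hc.eq, Module.End.mul_apply]⟩)
  have h1 : j = 1 := by
    rcases j with _ | _ | j
    · obtain ⟨v, hv, hv'⟩ := h.reg.exists_mem (j := 0) (by omega)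
      obtain ⟨w, rfl⟩ := hj.ge hv
      exact absurd (h.step u hu 0 w (Vj_zero (x := ρ s - 1) ▸ Submodule.mem_top)) hv'
    · rfl
    · exact absurd (h.one u hu (hj.le.trans (Vj_anti (by omega)))) hz
  subst h1
  obtain ⟨q, hq, e⟩ := h.reg.exists_aeval_of_range hc hm hj
  have hx : Commute ((ρ s - 1) ^ 1) (Polynomial.aeval (ρ s - 1) q) := by
    have := (Commute.all (Polynomial.X ^ 1) q).map (Polynomial.aeval (ρ s - 1))
    rwa [map_pow, Polynomial.aeval_X] at this
  refine ⟨h.reg.dim, by rw [e, hx.mul_pow, pow_one, h.reg.nil, zero_mul], fun h0 => ?_⟩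
  rw [e, hx.mul_pow, pow_one, ← map_pow] at h0
  have h2 := h.reg.range_aeval (k := m - 1) (q := q ^ (m - 1)) (by
    rw [Polynomial.coeff_zero_eq_eval_zero, Polynomial.eval_pow, ← Polynomial.coeff_zero_eq_eval_zero]
    exact pow_ne_zero _ hq)
  obtain ⟨v, hv, hv'⟩ := h.reg.exists_mem (j := m - 1) (by omega)
  rw [← h2, h0, LinearMap.range_zero, Submodule.mem_bot] at hv
  exact hv' (hv ▸ Submodule.zero_mem _)

theorem LS2.ti (h : LS2 ρ P s z m k δ)
    (hC : centralizer {z} ≤ normalizer ((P : Subgroup G) : Set G)) (g u : G)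
    (hu : u ∈ (P : Subgroup G)) (h1 : u ≠ 1) (hg : g⁻¹ * u * g ∈ (P : Subgroup G)) :
    g ∈ normalizer ((P : Subgroup G) : Set G) := by
  have key : ∀ w ∈ (P : Subgroup G), Commute (g * w * g⁻¹) u := fun w hw => by
    have := (h.commute hw hg).map (MulAut.conj g)
    simpa [mul_assoc] using this
  refine mem_normalizer_fintype fun w hw => ?_
  obtain ⟨n, hn⟩ := IsPGroup.iff_orderOf.1 P.isPGroup' ⟨w, hw⟩
  have ho : orderOf (g * w * g⁻¹) = p ^ n := by
    rw [← hn, ← orderOf_coe]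
    exact (MulAut.conj g).orderOf_eq w
  refine Inv.mem_sylow_of_mem_normalizer P ho ?_
  by_cases hz : u ∈ zpowers z
  · have h2 : z ∈ zpowers u := by
      have := Fact.mk (show (Nat.card (zpowers z)).Prime by rw [Nat.card_zpowers, h.orderOf_z]; exact Fact.out)
      have h3 := mem_zpowers_of_prime_card (G := zpowers z) (g := ⟨u, hz⟩) (g' := ⟨z, mem_zpowers z⟩) rfl
        (fun e => h1 (congrArg Subtype.val e))
      obtain ⟨i, hi⟩ := h3
      exact ⟨i, congrArg Subtype.val hi⟩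
    obtain ⟨i, hi⟩ := h2
    refine hC (mem_centralizer_singleton_iff.2 ?_)
    rw [← hi]
    exact (key w hw).zpow_right i
  · refine centralizer_le_normalizer _ (mem_centralizer_iff.2 fun v hv => h.inj ?_)
    rw [map_mul, map_mul ρ (g * w * g⁻¹)]
    exact (h.reg_of hu hz).commute_of_commute (((h.commute hv hu).map ρ).sub_right (Commute.one_right _))
      (((key w hw).map ρ).sub_right (Commute.one_right _))

/-- the elements acting trivially on all factors of the invariant part of the flag -/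
def stabFlag (ρ : Representation (ZMod p) G V) (x : Module.End (ZMod p) V) (m : ℕ) : Subgroup G where
  carrier := {g | ∀ a b, a < b → b ≤ m → InvS ρ ⊤ (Vj x a) → InvS ρ ⊤ (Vj x b) →
    (∀ c, a < c → c < b → ¬ InvS ρ ⊤ (Vj x c)) → ∀ v ∈ Vj x a, ρ g v - v ∈ Vj x b}
  one_mem' a b _ _ _ _ _ v _ := by simp
  mul_mem' {g g'} hg hg' a b h1 h2 h3 h4 h5 v hv := by
    have := add_mem (h4 g trivial _ (hg' a b h1 h2 h3 h4 h5 v hv)) (hg a b h1 h2 h3 h4 h5 v hv)
    simpa using this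
  inv_mem' {g} hg a b h1 h2 h3 h4 h5 v hv := by
    have := neg_mem (h4 g⁻¹ trivial _ (hg a b h1 h2 h3 h4 h5 v hv))
    simpa using this

theorem LS.exists_factor (h : LS ρ P s z m k) (hO : pCore p G = ⊥) :
    ∃ a b, a + k < b ∧ b ≤ m ∧ InvS ρ ⊤ (Vj (ρ s - 1) a) ∧ InvS ρ ⊤ (Vj (ρ s - 1) b) ∧
      ∀ c, a < c → c < b → ¬ InvS ρ ⊤ (Vj (ρ s - 1) c) := by
  classical
  by_contra hne
  have hn : (stabFlag ρ (ρ s - 1) m).Normal := ⟨fun g hg n a b h1 h2 h3 h4 h5 v hv => by
    have := h4 n trivial _ (hg a b h1 h2 h3 h4 h5 _ (h3 n⁻¹ trivial v hv))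
    simpa using this⟩
  have hz : z ∈ stabFlag ρ (ρ s - 1) m := fun a b _ h2 h3 h4 h5 v hv =>
    Vj_anti (not_lt.1 fun h1 => hne ⟨a, b, h1, h2, h3, h4, h5⟩) (h.up_Y a v hv)
  have hm : InvS ρ ⊤ (Vj (ρ s - 1) m) := fun g _ v hv => by
    rw [h.reg.Vj_eq_bot le_rfl, Submodule.mem_bot] at hv
    rw [hv, map_zero]; exact Submodule.zero_mem _
  have hp : IsPGroup p (stabFlag ρ (ρ s - 1) m) := fun g => ⟨1, Subtype.ext (h.inj (by
    have key : ∀ j ≤ m, ∃ a, j ≤ a ∧ a ≤ m ∧ InvS ρ ⊤ (Vj (ρ s - 1) a) ∧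
        ∀ v, ((ρ g - 1) ^ j) v ∈ Vj (ρ s - 1) a := fun j => by
      induction j with
      | zero => exact fun _ => ⟨0, le_rfl, Nat.zero_le _, fun _ _ _ _ => Vj_zero (x := ρ s - 1) ▸ Submodule.mem_top,
          fun _ => Vj_zero (x := ρ s - 1) ▸ Submodule.mem_top⟩
      | succ j ih =>
        intro hj
        obtain ⟨a, a1, a2, a3, a4⟩ := ih (by omega)
        rcases a2.eq_or_lt with rfl | a2
        · exact ⟨a, hj, le_rfl, a3, fun v => by
            rw [pow_succ, Module.End.mul_apply]; exact a4 _⟩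
        · have ex : ∃ b, a < b ∧ InvS ρ ⊤ (Vj (ρ s - 1) b) := ⟨m, a2, hm⟩
          have b1 := Nat.find_spec ex
          have b2 := Nat.find_min' ex ⟨a2, hm⟩
          refine ⟨Nat.find ex, by omega, b2, b1.2, fun v => ?_⟩
          rw [pow_succ', Module.End.mul_apply]
          exact g.2 a _ b1.1 b2 a3 b1.2 (fun c c1 c2 c3 => Nat.find_min ex c2 ⟨c1, c3⟩) _ (a4 v)
    obtain ⟨a, a1, -, -, a4⟩ := key m le_rfl
    have h0 : (ρ g - 1) ^ m = 0 := LinearMap.ext fun v => by
      have := a4 v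
      rwa [h.reg.Vj_eq_bot a1, Submodule.mem_bot] at this
    have : Nontrivial (Module.End (ZMod p) V) := nontrivial_of_ne _ _ h.reg.ne
    have : CharP (Module.End (ZMod p) V) p := charP_of_injective_algebraMap (algebraMap (ZMod p) _).injective p
    have h1 := pow_eq_zero_of_le h.m_lt.le h0
    rw [sub_pow_char_of_commute _ (Commute.one_right _), one_pow, sub_eq_zero] at h1
    simpa using h1))⟩
  exact h.z_ne (mem_bot.1 (hO ▸ le_pCore hp hz))

end Cfsg.Agent.MxE
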