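import Mathlib
import Cfsg.Agent.MxE.Defs

/-! Degrees of functions on a group; products of matrix coefficients sum to zero. -/

set_option autoImplicit false
set_option linter.unusedVariables false

namespace Cfsg.Agent.MxE

open Subgroup Cfsg.Agent.GT

variable {p : ℕ} [Fact p.Prime] {G : Type*} [Group G] {V : Type*} [AddCommGroup V]
  [Module (ZMod p) V]
  {k D D' : ℕ} {s z : G} {F F' : G → ZMod p}

theorem Deg.congr (h : Deg k s z D F) (e : ∀ u, F' u = F u) : Deg k s z D F' := by
  rwa [show F' = F from funext e]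

theorem Deg.of_zero (e : ∀ u, F u = 0) : Deg k s z D F := (Deg.zero D).congr e

theorem Deg.eq_zero (h : Deg k s z 0 F) : F = 0 := by
  cases h
  rfl

theorem Deg.step (h : Deg k s z (D + 1) F) :
    Deg k s z D (fun u => F (u * s) - F u) ∧ Deg k s z (D + 1 - k) (fun u => F (u * z) - F u) := by
  cases h with
  | zero => exact ⟨.of_zero (by simp), .of_zero (by simp)⟩
  | succ _ _ h1 h2 => exact ⟨h1, h2⟩

theorem Deg.mono (h : Deg k s z D F) (hD : D ≤ D') : Deg k s z D' F := by
  induction h generalizing D' with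
  | zero => exact .zero _
  | succ D F _ _ ih1 ih2 =>
    obtain ⟨E, rfl⟩ : ∃ E, D' = E + 1 := ⟨D' - 1, by omega⟩
    exact .succ E F (ih1 (by omega)) (ih2 (by omega))

theorem Deg.add (h : Deg k s z D F) (h' : Deg k s z D F') : Deg k s z D (F + F') := by
  induction h generalizing F' with
  | zero => rwa [zero_add]
  | succ D F _ _ ih1 ih2 =>
    exact .succ D _ ((ih1 h'.step.1).congr fun u => by simp only [Pi.add_apply]; ring)
      ((ih2 h'.step.2).congr fun u => by simp only [Pi.add_apply]; ring)

theorem Deg.sum {ι : Type*} (T : Finset ι) {Φ : ι → G → ZMod p}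
    (h : ∀ i ∈ T, Deg k s z D (Φ i)) : Deg k s z D fun u => ∑ i ∈ T, Φ i u := by
  classical
  induction T using Finset.induction_on with
  | empty => exact .of_zero (by simp)
  | insert a T ha ih =>
    exact ((h a (Finset.mem_insert_self a T)).add (ih fun i hi => h i (Finset.mem_insert_of_mem hi))).congr
      fun u => by rw [Finset.sum_insert ha]; rfl

theorem Deg.shift (h : Deg k s z (D + 1) F) :
    Deg k s z (D + 1) (fun u => F (u * s)) ∧ Deg k s z (D + 1) (fun u => F (u * z)) :=
  ⟨((h.step.1.mono (by omega)).add h).congr fun u => by simp, ((h.step.2.mono (by omega)).add h).congr fun u => by simp⟩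

theorem Deg.mul' (hk : 1 ≤ k) (n : ℕ) : ∀ {A B C : ℕ} {F F' : G → ZMod p}, A + B ≤ n →
    (A ≠ 0 → B ≠ 0 → A + B ≤ C + 1) → Deg k s z A F → Deg k s z B F' → Deg k s z C fun u => F u * F' u := by
  induction n with
  | zero =>
    intro A B C F F' h1 _ h _
    obtain rfl : A = 0 := by omega
    exact .of_zero (by simp [h.eq_zero])
  | succ n ih =>
    intro A B C F F' h1 h2 h h'
    cases A with
    | zero => exact .of_zero (by simp [h.eq_zero])
    | succ A =>
    cases B with
    | zero => exact .of_zero (by simp [h'.eq_zero])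
    | succ B =>
    have h3 := h2 (by omega) (by omega)
    refine Deg.mono (D := A + B + 1) (.succ _ _ ?_ ?_) (by omega)
    · exact ((ih (by omega) (by omega) h.step.1 h'.shift.1).add (ih (by omega) (by omega) h h'.step.1)).congr
        fun u => by simp only [Pi.add_apply]; ring
    · exact ((ih (by omega) (by omega) h.step.2 h'.shift.2).add (ih (by omega) (by omega) h h'.step.2)).congr
        fun u => by simp only [Pi.add_apply]; ring

theorem Deg.mul (hk : 1 ≤ k) (hc : Commute s z) (h : Deg k s z (D + 1) F)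
    (h' : Deg k s z (D' + 1) F') : Deg k s z (D + D' + 1) fun u => F u * F' u :=
  Deg.mul' hk _ le_rfl (by omega) h h'

theorem Deg.pow (hk : 1 ≤ k) (hc : Commute s z) (h : Deg k s z (D + 1) F) (r : ℕ) :
    Deg k s z (r * D + 1) fun u => F u ^ r := by
  induction r with
  | zero => exact .succ _ _ (.of_zero (by simp)) (.of_zero (by simp))
  | succ r ih => exact ((ih.mul hk hc h).mono (by rw [add_mul, one_mul])).congr fun u => pow_succ _ _

namespace DegA

/-- right translation of functions -/
def tr (p : ℕ) (s : G) : Module.End (ZMod p) (G → ZMod p) := LinearMap.funLeft (ZMod p) (ZMod p) (· * s)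

theorem tr_pow (s : G) (i : ℕ) (F : G → ZMod p) (u : G) : (tr p s ^ i) F u = F (u * s ^ i) := by
  induction i generalizing F with
  | zero => simp
  | succ i ih => rw [pow_succ, Module.End.mul_apply, ih, pow_succ, ← mul_assoc]; rfl

theorem tr_comm (hc : Commute s z) : Commute (tr p s) (tr p z) :=
  LinearMap.ext fun F => funext fun u => congrArg F (by
    change u * s * z = u * z * s
    rw [mul_assoc, hc.eq, mul_assoc])

theorem kill (hc : Commute s z) (h : Deg k s z D F) :
    ∀ a b, D ≤ a + k * b → ((tr p s - 1) ^ a * (tr p z - 1) ^ b) F = 0 := by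
  have c : Commute (tr p s - 1) (tr p z - 1) :=
    ((tr_comm hc).sub_right (Commute.one_right _)).sub_left (Commute.one_left _)
  induction h with
  | zero => exact fun a b _ => map_zero _
  | succ D F _ _ ih1 ih2 =>
    intro a b hab
    cases a with
    | succ a =>
      rw [pow_succ, mul_assoc, (c.pow_right b).eq, ← mul_assoc, Module.End.mul_apply]
      exact ih1 a b (by omega)
    | zero =>
      cases b with
      | zero => omega
      | succ b =>
        rw [pow_succ _ b, ← mul_assoc, Module.End.mul_apply]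
        exact ih2 0 b (by rw [mul_add] at hab; omega)

theorem geom {A : Type*} [Ring A] [Algebra (ZMod p) A] (x : A) :
    (x - 1) ^ (p - 1) = ∑ i ∈ Finset.range p, x ^ i := by
  have h : (Polynomial.X - 1 : Polynomial (ZMod p)) ^ (p - 1) = ∑ i ∈ Finset.range p, Polynomial.X ^ i := by
    refine mul_right_cancel₀ (Polynomial.X_sub_C_ne_zero 1) ?_
    rw [Polynomial.C_1, geom_sum_mul, ← pow_succ, Nat.sub_add_cancel (Fact.out : p.Prime).one_le, sub_pow_char,
      one_pow]
  simpa using congrArg (Polynomial.aeval x) h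

end DegA

open DegA

theorem Deg.sum_eq_zero (hc : Commute s z) (h : Deg k s z D F) (hD : D ≤ (p - 1) * (k + 1)) :
    ∑ i ∈ Finset.range p, ∑ j ∈ Finset.range p, F (s ^ i * z ^ j) = 0 := by
  have h1 := congrFun (kill hc h (p - 1) (p - 1) (hD.trans_eq (by ring))) 1
  rw [geom, geom, Finset.sum_mul_sum] at h1
  simpa [LinearMap.sum_apply, Finset.sum_apply, tr_pow] using h1

/-- `u ↦ ξ (π u v)`, `v ∈ W a`, where all `ξ ∘ π u` kill `W b` -/
theorem deg_coeff (hk : 1 ≤ k) (π : Representation (ZMod p) G V)
    (W : ℕ → Submodule (ZMod p) V)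
    (hW : Antitone W) (h1 : ∀ j, ∀ v ∈ W j, (π s - 1) v ∈ W (j + 1))
    (h2 : ∀ j, ∀ v ∈ W j, (π z - 1) v ∈ W (j + k)) {a b : ℕ} (ξ : Module.Dual (ZMod p) V)
    (hξ : ∀ u, ∀ v ∈ W b, ξ (π u v) = 0) {v : V} (hv : v ∈ W a) :
    Deg k s z (b - a) fun u => ξ (π u v) := by
  induction hn : b - a using Nat.strong_induction_on generalizing a v with
  | _ n ih =>
    cases n with
    | zero => exact .of_zero fun u => hξ u v (hW (by omega) hv)
    | succ n =>
      exact .succ _ _ ((ih _ (by omega) (h1 a v hv) (by omega)).congr fun u => by simp)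
        ((ih _ (by omega) (h2 a v hv) (by omega)).congr fun u => by simp)

/-- `u ↦ η (π u⁻¹ v)` when `W 0 = ⊤` and `η` kills `W b` -/
theorem deg_coeff_inv (hk : 1 ≤ k) (π : Representation (ZMod p) G V)
    (W : ℕ → Submodule (ZMod p) V)
    (hW : Antitone W) (h0 : W 0 = ⊤) (h1 : ∀ j, ∀ v ∈ W j, (π s⁻¹ - 1) v ∈ W (j + 1))
    (h2 : ∀ j, ∀ v ∈ W j, (π z⁻¹ - 1) v ∈ W (j + k)) {b : ℕ} (η : Module.Dual (ZMod p) V)
    (hη : ∀ v ∈ W b, η v = 0) (v : V) : Deg k s z b fun u => η (π u⁻¹ v) := by
  induction b using Nat.strong_induction_on generalizing η with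
  | _ n ih =>
    cases n with
    | zero => exact .of_zero fun u => hη _ (h0.ge trivial)
    | succ n =>
      exact .succ _ _ ((ih n (by omega) (η ∘ₗ (π s⁻¹ - 1)) fun w hw => hη _ (h1 n w hw)).congr fun u => by simp)
        ((ih (n + 1 - k) (by omega) (η ∘ₗ (π z⁻¹ - 1)) fun w hw => hη _ (hW (by omega) (h2 _ w hw))).congr
          fun u => by simp)

end Cfsg.Agent.MxE
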