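import Mathlib
import Cfsg.Agent.MxE.Defs

/-! Orbit sums: invariants and line summands lift from a strongly embedded subgroup. -/

set_option autoImplicit false

namespace Cfsg.Agent.MxE

open Subgroup Cfsg.Agent.GT

variable {p : ℕ} [Fact p.Prime] {G : Type*} [Group G] {V : Type*} [AddCommGroup V]
  [Module (ZMod p) V]

/-- Regular orbits contribute nothing. -/
theorem sum_eq_sum_filter {Q Ω A : Type*} [Group Q] [Fintype Q] [Fintype Ω] [MulAction Q Ω]
    [AddCommGroup A] (Ψ : Ω → A) (h0 : ∀ ω, ∑ q : Q, Ψ (q • ω) = 0) (B : Ω → Prop)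
    [DecidablePred B] (hB : ∀ (q : Q) ω, B ω → B (q • ω))
    (hf : ∀ (q : Q) ω, ¬ B ω → q • ω = ω → q = 1) :
    ∑ ω, Ψ ω = ∑ ω with B ω, Ψ ω := by
  classical
  rw [← Finset.sum_filter_add_sum_filter_not Finset.univ B, add_eq_left,
    ← Finset.sum_fiberwise _ fun ω => (Quotient.mk (MulAction.orbitRel Q Ω) ω)]
  refine Finset.sum_eq_zero fun c _ => ?_
  induction c using Quotient.inductionOn with
  | h ω₀ =>
    by_cases hb : B ω₀
    · refine Finset.sum_eq_zero fun ω hω => ?_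
      simp only [Finset.mem_filter, Finset.mem_univ, true_and] at hω
      obtain ⟨q, rfl⟩ : ω ∈ MulAction.orbit Q ω₀ := Quotient.exact hω.2
      exact absurd (hB q ω₀ hb) hω.1
    · rw [← h0 ω₀]
      refine (Finset.sum_bij (fun q _ => q • ω₀) (fun q _ => ?_) (fun q _ q' _ e => ?_) (fun ω hω => ?_)
        fun _ _ => rfl).symm
      · simp only [Finset.mem_filter, Finset.mem_univ, true_and]
        exact ⟨fun h => hb (by simpa using hB q⁻¹ _ h), Quotient.sound ⟨q, rfl⟩⟩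
      · exact (inv_mul_eq_one.1 (hf (q⁻¹ * q') ω₀ hb (by rw [mul_smul, ← e, inv_smul_smul])))
      · simp only [Finset.mem_filter, Finset.mem_univ, true_and] at hω
        obtain ⟨q, rfl⟩ : ω ∈ MulAction.orbit Q ω₀ := Quotient.exact hω.2
        exact ⟨q, Finset.mem_univ _, rfl⟩

namespace Orb

theorem geom_eq {R : Type*} [Ring R] [Algebra (ZMod p) R] (x : R) :
    ∑ i ∈ Finset.range p, x ^ i = (x - 1) ^ (p - 1) := by
  have h : ∑ i ∈ Finset.range p, (Polynomial.X : Polynomial (ZMod p)) ^ i = (Polynomial.X - 1) ^ (p - 1) := by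
    refine mul_right_cancel₀ (Polynomial.X_sub_C_ne_zero 1) ?_
    rw [Polynomial.C_1, geom_sum_mul, ← pow_succ, Nat.sub_add_cancel (Fact.out : p.Prime).one_le, sub_pow_char,
      one_pow]
  simpa [map_sum] using congrArg (Polynomial.aeval x) h

theorem sum_zpowers [Finite G] (π : Representation (ZMod p) G V) {s : G} [Fintype (zpowers s)]
    (hs : orderOf s = p) (h0 : (π s - 1) ^ (p - 1) = 0) (v : V) : ∑ q : zpowers s, π q v = 0 := by
  have h := congrArg (fun f : Module.End (ZMod p) V => f v) ((geom_eq (p := p) (π s)).trans h0)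
  simp only [LinearMap.sum_apply, LinearMap.zero_apply, ← map_pow] at h
  rw [show Finset.range p = Finset.range (orderOf s) by rw [hs], Finset.sum_range] at h
  rw [← h, ← Equiv.sum_comp (finEquivZPowers (isOfFinOrder_of_finite s))]
  rfl

theorem conj_mem {s : G} (hs : orderOf s = p) {M : Subgroup G} {q : zpowers s} (hq : q ≠ 1) {g : G}
    (h : (q : G) • (g : G ⧸ M) = g) : g⁻¹ * s * g ∈ M := by
  obtain ⟨k, hk⟩ := mem_zpowers_of_prime_card (G := zpowers s) (by rw [Nat.card_zpowers, hs])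
    (g' := ⟨s, mem_zpowers s⟩) hq
  have h1 : g⁻¹ * q * g ∈ M := by
    rw [mul_assoc]; exact QuotientGroup.eq.1 h.symm
  have h2 := zpow_mem h1 k
  rwa [show g⁻¹ * q * g = g⁻¹ * q * g⁻¹⁻¹ by rw [inv_inv], conj_zpow, inv_inv,
    show (q : G) ^ k = s from congrArg Subtype.val hk] at h2

theorem out_mem {N P₀ : Subgroup G} (hle : P₀ ≤ N) {g : G} : (g : G ⧸ P₀).out ∈ N ↔ g ∈ N := by
  obtain ⟨u, hu⟩ := QuotientGroup.mk_out_eq_mul P₀ g
  rw [hu, mul_mem_cancel_right (hle u.2)]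

theorem sum_filter_eq {A : Type*} [AddCommMonoid A] {N P₀ : Subgroup G} [Fintype (G ⧸ P₀)]
    [Fintype (N ⧸ P₀.subgroupOf N)] [DecidablePred fun ω : G ⧸ P₀ => ω.out ∈ N] (hle : P₀ ≤ N)
    (F : G ⧸ P₀ → A) :
    ∑ ω with ω.out ∈ N, F ω = ∑ q : N ⧸ P₀.subgroupOf N, F ((q.out : N) : G) := by
  refine (Finset.sum_bij (fun q _ => (((q.out : N) : G) : G ⧸ P₀)) (fun q _ => ?_) (fun q _ q' _ e => ?_)
    (fun ω hω => ?_) fun _ _ => rfl).symm
  · simp only [Finset.mem_filter, Finset.mem_univ, true_and]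
    exact (out_mem hle).2 q.out.2
  · rw [← q.out_eq, ← q'.out_eq]
    exact QuotientGroup.eq.2 (QuotientGroup.eq (s := P₀) |>.1 e)
  · simp only [Finset.mem_filter, Finset.mem_univ, true_and] at hω
    refine ⟨(⟨ω.out, hω⟩ : N), Finset.mem_univ _, ?_⟩
    obtain ⟨u, hu⟩ := QuotientGroup.mk_out_eq_mul (P₀.subgroupOf N) ⟨ω.out, hω⟩
    rw [hu, coe_mul, QuotientGroup.mk_mul_of_mem _ (show ((u : N) : G) ∈ P₀ from u.2), QuotientGroup.out_eq']

theorem cast_card_ne {N P₀ : Subgroup G} [Fintype (N ⧸ P₀.subgroupOf N)] (hi : ¬ p ∣ P₀.relIndex N) :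
    (Fintype.card (N ⧸ P₀.subgroupOf N) : ZMod p) ≠ 0 := by
  rw [Ne, ZMod.natCast_eq_zero_iff, ← Nat.card_eq_fintype_card]
  exact hi

end Orb

open Orb

/-- (A) a vector fixed by `N` is fixed by `G`. -/
theorem fixed_of_ti [Finite G] (π : Representation (ZMod p) G V) {s : G} (hs : orderOf s = p)
    (h0 : (π s - 1) ^ (p - 1) = 0) {N : Subgroup G} (hN : ∀ g, g⁻¹ * s * g ∈ N → g ∈ N)
    (hsN : s ∈ N) {e : V} (he : ∀ n ∈ N, π n e = e) (g : G) : π g e = e := by
  classical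
  haveI := Fintype.ofFinite (G ⧸ N)
  haveI := Fintype.ofFinite (zpowers s)
  have h1 : ∀ g : G, π (g : G ⧸ N).out e = π g e := fun g => by
    obtain ⟨u, hu⟩ := QuotientGroup.mk_out_eq_mul N g
    rw [hu, map_mul, Module.End.mul_apply, he u u.2]
  have h2 : ∀ (h : G) (ω : G ⧸ N), π (h • ω).out e = π h (π ω.out e) := fun h ω => by
    induction ω using QuotientGroup.induction_on with
    | H a => rw [MulAction.Quotient.smul_coe, h1, h1, smul_eq_mul, map_mul, Module.End.mul_apply]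
  have h3 : ∑ ω : G ⧸ N, π ω.out e = e := by
    rw [sum_eq_sum_filter (Q := zpowers s) (fun ω : G ⧸ N => π ω.out e) (fun ω => ?_) (· = ((1 : G) : G ⧸ N))
      (fun q ω h => ?_) fun q ω h h' => ?_, Finset.filter_eq', if_pos (Finset.mem_univ _), Finset.sum_singleton, h1,
      map_one, Module.End.one_apply]
    · rw [← sum_zpowers π hs h0 (π ω.out e)]
      exact Finset.sum_congr rfl fun q _ => h2 q ω
    · rw [h]
      exact (QuotientGroup.eq.2 (by simpa using zpowers_le.2 hsN q.2)).symm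
    · by_contra hq
      induction ω using QuotientGroup.induction_on with
      | H a => exact h (QuotientGroup.eq.2 (by simpa using hN a (conj_mem hs hq h')))
  calc π g e = ∑ ω : G ⧸ N, π (g • ω).out e := by
        conv_lhs => rw [← h3]
        simp only [map_sum, h2]
    _ = e := (Equiv.sum_comp (MulAction.toPerm g) fun ω : G ⧸ N => π ω.out e).trans h3

/-- (B) an `N`-invariant line that is a direct summand for `P₀ ∋ s` is `G`-invariant. -/
theorem line_of_ti [Finite G] [Finite V] (π : Representation (ZMod p) G V) {s : G}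
    (hs : orderOf s = p) (h0 : (π s - 1) ^ (p - 1) = 0) {N P₀ : Subgroup G}
    (hN : ∀ g, g⁻¹ * s * g ∈ N → g ∈ N) (hle : P₀ ≤ N) (hsP : s ∈ P₀)
    (hi : ¬ p ∣ P₀.relIndex N) {y : V} (hy : ∀ n ∈ N, ∃ c : ZMod p, π n y = c • y)
    (θ : Module.Dual (ZMod p) V) (hθ : θ y = 1) (h1 : ∀ u ∈ P₀, π u y = y)
    (h2 : ∀ u ∈ P₀, ∀ v, θ (π u v) = θ v) (g : G) : ∃ c : ZMod p, π g y = c • y := by
  classical
  haveI := Fintype.ofFinite (G ⧸ P₀)
  haveI := Fintype.ofFinite (N ⧸ P₀.subgroupOf N)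
  haveI := Fintype.ofFinite (zpowers s)
  obtain ⟨Ψ, hΨ⟩ : ∃ Ψ : G ⧸ P₀ → V →ₗ[ZMod p] V, ∀ (g : G) v, Ψ g v = θ (π g⁻¹ v) • π g y := by
    refine ⟨fun ω => (θ ∘ₗ π ω.out⁻¹).smulRight (π ω.out y), fun g v => ?_⟩
    obtain ⟨u, hu⟩ := QuotientGroup.mk_out_eq_mul P₀ g
    simp only [LinearMap.smulRight_apply, LinearMap.comp_apply, hu, mul_inv_rev, map_mul, Module.End.mul_apply,
      h1 u u.2, h2 _ (inv_mem u.2)]
  have e1 : ∀ (h : G) (ω : G ⧸ P₀) v, Ψ (h • ω) (π h v) = π h (Ψ ω v) := fun h ω v => by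
    induction ω using QuotientGroup.induction_on with
    | H a =>
      rw [MulAction.Quotient.smul_coe, hΨ, hΨ, smul_eq_mul, map_smul, ← Module.End.mul_apply, ← map_mul,
        mul_inv_rev, inv_mul_cancel_right, map_mul, Module.End.mul_apply]
  have e2 : ∀ (h : G) v, ∑ ω, Ψ ω (π h v) = π h (∑ ω, Ψ ω v) := fun h v => by
    rw [map_sum, ← Equiv.sum_comp (MulAction.toPerm h) fun ω => Ψ ω (π h v)]
    simp only [MulAction.toPerm_apply, e1]
  have e3 : ∀ v, π s v = v →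
      ∑ ω, Ψ ω v = ∑ q : N ⧸ P₀.subgroupOf N, θ (π (q.out : G)⁻¹ v) • π (q.out : G) y := fun v hv => by
    have hq : ∀ q : zpowers s, π q v = v := by
      rintro ⟨q, hq⟩
      obtain ⟨k, rfl⟩ := (mem_powers_iff_mem_zpowers.2 hq :)
      change π (s ^ k) v = v
      rw [map_pow, Module.End.pow_apply, Function.iterate_fixed hv]
    rw [sum_eq_sum_filter (Q := zpowers s) (fun ω => Ψ ω v) (fun ω => ?_) (fun ω => ω.out ∈ N)
      (fun q ω h => ?_) fun q ω h h' => ?_, sum_filter_eq hle]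
    · simp only [hΨ]
    · rw [← sum_zpowers π hs h0 (Ψ ω v)]
      exact Finset.sum_congr rfl fun q _ => by rw [← e1, hq]; rfl
    · induction ω using QuotientGroup.induction_on with
      | H a => exact (out_mem hle).2 (mul_mem (hle (zpowers_le.2 hsP q.2)) ((out_mem hle).1 h))
    · by_contra hq
      induction ω using QuotientGroup.induction_on with
      | H a => exact h ((out_mem hle).2 (hN a (hle (conj_mem hs hq h'))))
  have hε := cast_card_ne hi
  generalize hε' : (Fintype.card (N ⧸ P₀.subgroupOf N) : ZMod p) = ε at hε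
  have e4 : ∑ ω, Ψ ω y = ε • y := by
    rw [e3 y (h1 s hsP), ← hε', Nat.cast_smul_eq_nsmul, ← Finset.card_univ, ← Finset.sum_const]
    refine Finset.sum_congr rfl fun q _ => ?_
    obtain ⟨c, hc⟩ := hy _ (inv_mem q.out.2)
    rw [hc, map_smul, hθ, smul_eq_mul, mul_one, ← map_smul, ← hc, ← Module.End.mul_apply, ← map_mul,
      mul_inv_cancel, map_one, Module.End.one_apply]
  have e5 : ∀ j : ℕ, ∀ v, ∑ ω, Ψ ω v = ε • v → ((π s - 1) ^ j : Module.End (ZMod p) V) v ∈ Submodule.span (ZMod p) {y} →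
      v ∈ Submodule.span (ZMod p) {y} := fun j => by
    induction j with
    | zero => exact fun v _ h => h
    | succ j ih =>
      intro v hv h
      obtain ⟨c, hc⟩ := Submodule.mem_span_singleton.1 (ih ((π s - 1) v) (by
        simp only [LinearMap.sub_apply, Module.End.one_apply, map_sub, Finset.sum_sub_distrib, e2, hv, map_smul,
          smul_sub]) (by rwa [pow_succ] at h))
      have hc0 := congrArg θ hc
      rw [map_smul, hθ, smul_eq_mul, mul_one, LinearMap.sub_apply, map_sub, h2 s hsP, Module.End.one_apply,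
        sub_self] at hc0
      rw [hc0, zero_smul, LinearMap.sub_apply, Module.End.one_apply, eq_comm, sub_eq_zero] at hc
      rw [← Submodule.smul_mem_iff _ hε, ← hv, e3 v hc]
      refine Submodule.sum_mem _ fun q _ => Submodule.smul_mem _ _ ?_
      obtain ⟨c, hc⟩ := hy _ q.out.2
      exact Submodule.mem_span_singleton.2 ⟨c, hc.symm⟩
  obtain ⟨c, hc⟩ := Submodule.mem_span_singleton.1 (e5 (p - 1) (π g y) (by rw [e2, e4, map_smul])
    (by rw [h0]; exact Submodule.zero_mem _))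
  exact ⟨c, hc.symm⟩

/-- (C) function version for a trivial intersection subgroup `P₀ ≤ N`. -/
theorem sum_const_of_ti [Finite G] {N P₀ : Subgroup G} [Fintype P₀] [Fintype (N ⧸ P₀.subgroupOf N)]
    (hle : P₀ ≤ N) (hN : ∀ g, ∀ u ∈ P₀, u ≠ 1 → g⁻¹ * u * g ∈ P₀ → g ∈ N) (Φ : G → ZMod p)
    (hΦ : ∀ g, ∀ u ∈ P₀, Φ (g * u) = Φ g) (h0 : ∀ h g, ∑ u : P₀, Φ (h * u * g) = 0) (h : G) :
    ∑ q : N ⧸ P₀.subgroupOf N, Φ (h * (q.out : N)) = ∑ q : N ⧸ P₀.subgroupOf N, Φ (q.out : N) := by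
  classical
  haveI := Fintype.ofFinite (G ⧸ P₀)
  obtain ⟨F, hF⟩ : ∃ F : G ⧸ P₀ → ZMod p, ∀ g : G, F g = Φ g := by
    refine ⟨fun ω => Φ ω.out, fun g => ?_⟩
    obtain ⟨u, hu⟩ := QuotientGroup.mk_out_eq_mul P₀ g
    simp only [hu, hΦ g u u.2]
  have key : ∀ h : G, ∑ ω, F (h • ω) = ∑ q : N ⧸ P₀.subgroupOf N, Φ (h * (q.out : N)) := fun h => by
    rw [sum_eq_sum_filter (Q := P₀) (fun ω => F (h • ω)) (fun ω => ?_) (fun ω => ω.out ∈ N)
      (fun q ω h => ?_) fun q ω h h' => ?_, sum_filter_eq hle]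
    · simp only [MulAction.Quotient.smul_coe, hF, smul_eq_mul]
    · induction ω using QuotientGroup.induction_on with
      | H a =>
        rw [← h0 h a]
        exact Finset.sum_congr rfl fun q _ => by rw [mul_assoc, ← hF]; rfl
    · induction ω using QuotientGroup.induction_on with
      | H a => exact (out_mem hle).2 (mul_mem (hle q.2) ((out_mem hle).1 h))
    · by_contra hq
      induction ω using QuotientGroup.induction_on with
      | H a =>
        refine h ((out_mem hle).2 (hN a q q.2 (fun e => hq (Subtype.ext e)) ?_))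
        rw [mul_assoc]; exact QuotientGroup.eq.1 h'.symm
  have k1 := key 1
  simp only [one_smul, one_mul] at k1
  rw [← key h, ← k1]
  exact Equiv.sum_comp (MulAction.toPerm h) F

theorem const_of_ti [Finite G] {N P₀ : Subgroup G} [Fintype P₀] (hle : P₀ ≤ N)
    (hi : ¬ p ∣ P₀.relIndex N) (hN : ∀ g, ∀ u ∈ P₀, u ≠ 1 → g⁻¹ * u * g ∈ P₀ → g ∈ N)
    (Φ : G → ZMod p) (hΦ : ∀ g, ∀ n ∈ N, Φ (g * n) = Φ g)
    (h0 : ∀ h g, ∑ u : P₀, Φ (h * u * g) = 0) (h : G) : Φ h = Φ 1 := by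
  haveI := Fintype.ofFinite (N ⧸ P₀.subgroupOf N)
  have e := sum_const_of_ti hle hN Φ (fun g u hu => hΦ g u (hle hu)) h0 h
  have k1 : ∀ q : N ⧸ P₀.subgroupOf N, Φ (h * (q.out : N)) = Φ h := fun q => hΦ h _ q.out.2
  have k2 : ∀ q : N ⧸ P₀.subgroupOf N, Φ (q.out : N) = Φ 1 := fun q => by rw [← hΦ 1 _ q.out.2, one_mul]
  simp only [k1, k2, Finset.sum_const, Finset.card_univ, nsmul_eq_mul] at e
  exact mul_left_cancel₀ (cast_card_ne hi) e

end Cfsg.Agent.MxE
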