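import Mathlib
import Cfsg.Agent.MxE.BasL
import Cfsg.Agent.MxE.Orb
import Cfsg.Agent.MxE.Deg

/-! The case `|P| = p ^ 2`: the factor of dimension `k + 1`. -/

set_option autoImplicit false

namespace Cfsg.Agent.MxE

open Subgroup Cfsg.Agent.GT

variable {p : ℕ} [Fact p.Prime] {G : Type*} [Group G] {V : Type*} [AddCommGroup V]
  [Module (ZMod p) V]
  [Finite G] {ρ : Representation (ZMod p) G V} {P : Sylow p G} {s z : G} {m k : ℕ} {δ : G → V}

theorem LS2.invS_small (h : LS2 ρ P s z m k δ)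
    (hT : ∀ g, ∀ u ∈ (P : Subgroup G), u ≠ 1 → g⁻¹ * u * g ∈ (P : Subgroup G) →
      g ∈ normalizer ((P : Subgroup G) : Set G)) {a : ℕ} (hm : a + k + 1 ≤ m)
    (ha : InvS ρ ⊤ (Vj (ρ s - 1) a)) (hb : InvS ρ ⊤ (Vj (ρ s - 1) (a + k + 1))) :
    InvS ρ ⊤ (Vj (ρ s - 1) (a + k)) := by
  classical
  have := Fintype.ofFinite (P : Subgroup G)
  have hp := h.hp
  have hk : 1 ≤ k := by have := h.k_two; omega
  have app : ∀ g g' v, ρ (g * g') v = ρ g (ρ g' v) := fun g g' v => by rw [map_mul]; rfl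
  obtain ⟨e, he, he'⟩ := h.reg.exists_mem (j := a + k) (by omega)
  have hle : Vj (ρ s - 1) (a + k + 1) ≤ Vj (ρ s - 1) (a + k) := Vj_anti (by omega)
  have key : ∀ g, ρ g e ∈ Vj (ρ s - 1) (a + k) := fun g => by
    rw [← Subspace.forall_mem_dualAnnihilator_apply_eq_zero_iff]
    intro ξ hξ
    rw [Submodule.mem_dualAnnihilator] at hξ
    have h1 := const_of_ti (p := p) (N := normalizer ((P : Subgroup G) : Set G))
      (P₀ := (P : Subgroup G)) le_normalizer
      (fun hd => P.not_dvd_index (hd.trans (relIndex_dvd_index_of_le le_normalizer))) hT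
      (fun g => ξ (ρ g e) ^ (p - 1)) (fun g n hn => ?_) (fun g g' => ?_) g
    · simp only [map_one, Module.End.one_apply, hξ e he] at h1
      rw [zero_pow (by omega)] at h1
      exact (pow_eq_zero_iff (by omega)).1 h1
    · obtain ⟨c, hc⟩ := h.reg.exists_smul he he' (h.inv_normalizer _ n hn e he)
      have c0 : c ≠ 0 := by
        rintro rfl
        have := hb n⁻¹ trivial _ hc
        rw [zero_smul, sub_zero, ← app, inv_mul_cancel, map_one] at this
        exact he' this
      have h2 := hξ _ (hle (hb g trivial _ hc))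
      rw [map_sub, map_sub, map_smul, map_smul, sub_eq_zero, smul_eq_mul] at h2
      rw [app, h2, mul_pow, ZMod.pow_card_sub_one_eq_one c0, one_mul]
    · have h2 := deg_coeff (s := s) (z := z) hk ρ (Vj (ρ s - 1)) (fun _ _ => Vj_anti)
        (fun _ _ => apply_mem_Vj) h.up_Y (a := a) (b := a + k + 1) (ξ ∘ₗ ρ g)
        (fun u v hv => hξ _ (hle (hb g trivial _ (hb u trivial _ hv))))
        (ha g' trivial e (Vj_anti (by omega) he))
      rw [show a + k + 1 - a = k + 1 by omega] at h2
      have hc : Commute s z := h.z_cent s h.s_mem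
      have h3 := (h2.pow hk hc (p - 1)).sum_eq_zero hc (by rw [mul_add]; omega)
      rw [← h.sum_eq fun u => (ξ ∘ₗ ρ g) (ρ u (ρ g' e)) ^ (p - 1)] at h3
      simpa only [app, LinearMap.comp_apply] using h3
  intro g _ w hw
  obtain ⟨c, hc⟩ := h.reg.exists_smul he he' hw
  have h1 := add_mem (hle (hb g trivial _ hc)) (Submodule.smul_mem _ c (key g))
  rwa [map_sub, map_smul, sub_add_cancel] at h1

end Cfsg.Agent.MxE
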