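import Mathlib
import Cfsg.Agent.MxE.BasL
import Cfsg.Agent.MxE.Orb
import Cfsg.Agent.MxE.Deg

/-! The case `|P| = p ^ 2`: a semi-invariant endomorphism. -/

set_option autoImplicit false

namespace Cfsg.Agent.MxE

open Subgroup Cfsg.Agent.GT

variable {p : ℕ} [Fact p.Prime] {G : Type*} [Group G] {V : Type*} [AddCommGroup V]
  [Module (ZMod p) V]
  [Finite G] {ρ : Representation (ZMod p) G V} {P : Sylow p G} {s z : G} {m k : ℕ} {δ : G → V}

theorem globc_sum (h : LS2 ρ P s z m k δ) [Fintype (P : Subgroup G)] (η ξ : Module.Dual (ZMod p) V)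
    (φ : Module.End (ZMod p) V) (v w : V) :
    ∑ u : (P : Subgroup G), η (ρ (u : G)⁻¹ v) * ξ (ρ u (φ (ρ (u : G)⁻¹ w))) = 0 := by
  classical
  have := h.reg.finite
  have hp := h.hp
  have hk2 := h.k_two
  have hk : 1 ≤ k := by omega
  have hc : Commute s z := h.z_cent s h.s_mem
  have hm := h.m_lt
  obtain ⟨n, hn⟩ : ∃ n, m = n + 1 := ⟨m - 1, by have := h.reg.pos; omega⟩
  have hbot := h.reg.Vj_eq_bot le_rfl
  have d1 : ∀ (η : Module.Dual (ZMod p) V) v, Deg k s z (n + 1) fun u => η (ρ u⁻¹ v) := fun η v => by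
    refine hn ▸ deg_coeff_inv hk ρ (Vj (ρ s - 1)) (fun _ _ => Vj_anti) Vj_zero
      (h.step _ (inv_mem h.s_mem)) (fun j v hv => ?_) η (fun v hv => by
        rw [hbot, Submodule.mem_bot] at hv; simp [hv]) v
    have h1 := h.inv_P _ _ (inv_mem h.z_mem) _ (h.up_Y j v hv)
    have h2 : ρ z⁻¹ (ρ z v) = v := by rw [← Module.End.mul_apply, ← map_mul]; simp
    rw [← neg_mem_iff]
    simpa [h2] using h1
  have d2 : ∀ v, Deg k s z (n + 1) fun u => ξ (ρ u v) := fun v =>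
    hn ▸ deg_coeff hk ρ (Vj (ρ s - 1)) (fun _ _ => Vj_anti) (fun _ _ => apply_mem_Vj) h.up_Y
      (a := 0) (b := m) ξ (fun u v hv => by rw [hbot, Submodule.mem_bot] at hv; simp [hv])
      (by rw [Vj_zero]; trivial)
  let β := Module.finBasis (ZMod p) V
  have d3 := (d1 η v).mul hk hc (Deg.sum Finset.univ fun i _ =>
    (d1 (β.coord i) w).mul hk hc (d2 (φ (β i))))
  have h3 := d3.sum_eq_zero hc (le_trans (by omega) (Nat.mul_le_mul_left _ (by omega : 3 ≤ k + 1)))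
  rw [← h.sum_eq fun u => η (ρ u⁻¹ v) * ∑ i, β.coord i (ρ u⁻¹ w) * ξ (ρ u (φ (β i)))] at h3
  rw [← h3]
  refine Finset.sum_congr rfl fun u _ => ?_
  congr 1
  generalize ρ (u : G)⁻¹ w = w'
  conv_lhs => rw [← β.sum_repr w']
  simp only [map_sum, map_smul, smul_eq_mul, Module.Basis.coord_apply]

theorem LS2.invS_big (h : LS2 ρ P s z m k δ)
    (hT : ∀ g, ∀ u ∈ (P : Subgroup G), u ≠ 1 → g⁻¹ * u * g ∈ (P : Subgroup G) →
      g ∈ normalizer ((P : Subgroup G) : Set G)) (hm : k + 1 < m) {a : ℕ}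
    (ha : InvS ρ ⊤ (Vj (ρ s - 1) a)) : InvS ρ ⊤ (Vj (ρ s - 1) (a + (k + 1))) := by
  classical
  have := h.reg.finite
  have := Fintype.ofFinite (P : Subgroup G)
  set N := normalizer ((P : Subgroup G) : Set G) with hN
  have := Fintype.ofFinite (N ⧸ (P : Subgroup G).subgroupOf N)
  have app : ∀ g g' v, ρ (g * g') v = ρ g (ρ g' v) := fun g g' v => by rw [map_mul]; rfl
  have inv1 : ∀ g v, ρ g (ρ g⁻¹ v) = v := fun g v => by rw [← app]; simp
  have inv2 : ∀ g v, ρ g⁻¹ (ρ g v) = v := fun g v => by rw [← app]; simp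
  obtain ⟨f, hf⟩ := h.reg.exists_dual
  obtain ⟨e, he1, he⟩ : ∃ e, f e = 1 ∧ e ∉ Vj (ρ s - 1) 1 := by
    obtain ⟨e, -, he⟩ := h.reg.exists_mem (j := 0) h.reg.pos
    have h0 : f e ≠ 0 := fun H => he ((hf e).1 H)
    have h1 : f ((f e)⁻¹ • e) = 1 := by simp [h0]
    exact ⟨_, h1, fun H => by simp [(hf _).2 H] at h1⟩
  obtain ⟨y₀, hy₀⟩ : ∃ y₀, y₀ = (ρ z - 1) * (ρ s - 1) := ⟨_, rfl⟩
  have cP : ∀ u ∈ (P : Subgroup G), ∀ u' ∈ (P : Subgroup G), Commute (ρ u) (ρ u' - 1) :=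
    fun u hu u' hu' => ((h.commute hu hu').map ρ).sub_right (Commute.one_right _)
  have cP' : ∀ u ∈ (P : Subgroup G), ∀ u' ∈ (P : Subgroup G), Commute (ρ u - 1) (ρ u' - 1) :=
    fun u hu u' hu' => (cP u hu u' hu').sub_left (Commute.one_left _)
  have c0 : Commute y₀ (ρ s - 1) := hy₀ ▸ h.commute_Y.mul_left (Commute.refl _)
  have r0 : LinearMap.range y₀ = Vj (ρ s - 1) (k + 1) := by
    rw [hy₀, Module.End.mul_eq_comp, LinearMap.range_comp, ← Vj_one,
      map_Vj_of_commute h.commute_Y h.range_z, add_comm]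
  have fN : ∀ n ∈ N, ∀ w, f (ρ n w) = f (ρ n e) * f w := fun n hn w => by
    have h1 : w - f w • e ∈ Vj (ρ s - 1) 1 := (hf _).1 (by simp [he1])
    have h2 := (hf _).2 (h.inv_normalizer 1 n hn _ h1)
    rw [map_sub, map_sub, map_smul, map_smul, sub_eq_zero] at h2
    rw [h2, smul_eq_mul, mul_comm]
  let y₁ : Module.End (ZMod p) V := ∑ q : N ⧸ (P : Subgroup G).subgroupOf N,
    f (ρ (q.out : G)⁻¹ e) • (ρ q.out * y₀ * ρ (q.out : G)⁻¹)
  have c1 : Commute y₁ (ρ s - 1) := Commute.sum_left _ _ _ fun q _ => Commute.smul_left (by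
    have hq := q.out.2
    have e1 : ρ q.out * y₀ * ρ (q.out : G)⁻¹ =
        (ρ (q.out * z * (q.out : G)⁻¹) - 1) * (ρ (q.out * s * (q.out : G)⁻¹) - 1) := by
      ext v
      simp [hy₀, inv1, inv2]
    rw [e1]
    exact (cP' _ ((mem_normalizer_iff.1 hq _).1 h.z_mem) _ h.s_mem).mul_left
      (cP' _ ((mem_normalizer_iff.1 hq _).1 h.s_mem) _ h.s_mem)) _
  have y0e : y₀ e ∈ Vj (ρ s - 1) (k + 1) := r0 ▸ LinearMap.mem_range_self _ _
  have y0e' : y₀ e ∉ Vj (ρ s - 1) (k + 1 + 1) := by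
    simpa using h.reg.notMem_of_commute (j := 0) c0 r0 (by rw [Vj_zero]; trivial) he (by omega)
  have term : ∀ n ∈ N, f (ρ n⁻¹ e) • ρ n (y₀ (ρ n⁻¹ e)) - y₀ e ∈ Vj (ρ s - 1) (k + 1 + 1) := by
    intro n hn
    obtain ⟨b, c, -, -, h1, h2⟩ := h.exists_conj hn
    obtain ⟨h3, h4⟩ := h.wt_all hn h1 h2
    have h5 := h3 0 (ρ n⁻¹ e) (by rw [Vj_zero]; trivial)
    rw [inv1, zero_add, pow_one] at h5
    have h6 := (hf _).2 h5
    rw [map_sub, map_smul, he1, smul_eq_mul, sub_eq_zero] at h6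
    have h7 := up_of_commute c0 r0.le 1 _ h5
    have h8 := h3 (k + 1) _ (r0 ▸ LinearMap.mem_range_self y₀ (ρ n⁻¹ e))
    rw [add_comm 1, map_sub, map_smul] at h7
    have h9 := sub_mem (Submodule.smul_mem _ (f (ρ n⁻¹ e)) h8) h7
    have e1 : f (ρ n⁻¹ e) * ((b : ZMod p) ^ (k + 1 + 1) * c) = b * c := by
      rw [pow_succ, pow_succ, h4]
      linear_combination (-(b * c : ZMod p)) * h6
    rwa [smul_sub, smul_smul, e1, sub_sub_sub_cancel_right] at h9
  have hr : ((Fintype.card (N ⧸ (P : Subgroup G).subgroupOf N) : ℕ) : ZMod p) ≠ 0 := by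
    rw [Ne, ZMod.natCast_eq_zero_iff, ← Nat.card_eq_fintype_card]
    exact fun hd => P.not_dvd_index (hd.trans (relIndex_dvd_index_of_le le_normalizer))
  have y1e : y₁ e - ((Fintype.card (N ⧸ (P : Subgroup G).subgroupOf N) : ℕ) : ZMod p) • y₀ e ∈
      Vj (ρ s - 1) (k + 1 + 1) := by
    have := Submodule.sum_mem _ fun (q : N ⧸ (P : Subgroup G).subgroupOf N) (_ : q ∈ Finset.univ) =>
      term _ q.out.2
    rw [Finset.sum_sub_distrib, Finset.sum_const, Finset.card_univ,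
      ← Nat.cast_smul_eq_nsmul (ZMod p)] at this
    simpa [y₁] using this
  have r1 : LinearMap.range y₁ = Vj (ρ s - 1) (k + 1) := by
    refine h.reg.range_eq_of c1 he ?_ fun H => y0e' ?_
    · have := add_mem (Vj_anti (by omega) y1e) (Submodule.smul_mem _
        ((Fintype.card (N ⧸ (P : Subgroup G).subgroupOf N) : ℕ) : ZMod p) y0e)
      rwa [sub_add_cancel] at this
    · have := sub_mem H y1e
      rw [sub_sub_cancel] at this
      exact (Submodule.smul_mem_iff _ hr).1 this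
  have semi : ∀ g v, ρ g (y₁ (ρ g⁻¹ v)) = f (ρ g e) • y₁ v := fun g v => by
    rw [← sub_eq_zero, ← Module.forall_dual_apply_eq_zero_iff (ZMod p)]
    intro ξ
    have H := sum_const_of_ti (p := p) (N := N) (P₀ := (P : Subgroup G)) le_normalizer hT
      (fun x => f (ρ x⁻¹ (ρ g e)) * ξ (ρ x (y₀ (ρ x⁻¹ v)))) (fun x u hu => ?_) (fun x x' => ?_) g
    · have e1 : ∀ x, ∑ q : N ⧸ (P : Subgroup G).subgroupOf N, f (ρ (x * q.out)⁻¹ (ρ g e)) *
          ξ (ρ (x * q.out) (y₀ (ρ (x * q.out)⁻¹ v))) =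
          f (ρ x⁻¹ (ρ g e)) * ξ (ρ x (y₁ (ρ x⁻¹ v))) := fun x => by
        simp only [y₁, LinearMap.sum_apply, map_sum, Finset.mul_sum, LinearMap.smul_apply, map_smul,
          Module.End.mul_apply, smul_eq_mul]
        refine Finset.sum_congr rfl fun q _ => ?_
        rw [mul_inv_rev, app, app, app, fN _ (inv_mem q.out.2)]
        ring
      have e2 := e1 1
      simp only [one_mul, inv_one, map_one, Module.End.one_apply] at e2
      rw [e1, e2, inv2, he1, one_mul] at H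
      rw [map_sub, map_smul, H, smul_eq_mul, sub_self]
    · have h1 : ∀ w, f (ρ u⁻¹ w) = f w := fun w => by
        have := (hf _).2 (h.step _ (inv_mem hu) 0 w (by rw [Vj_zero]; trivial))
        simpa [sub_eq_zero] using this
      have h2 : ∀ w, ρ u (y₀ w) = y₀ (ρ u w) := fun w => by
        have : Commute (ρ u) y₀ := hy₀ ▸ (cP u hu z h.z_mem).mul_right (cP u hu s h.s_mem)
        rw [← Module.End.mul_apply, this.eq, Module.End.mul_apply]
      simp only [mul_inv_rev, app, h1, h2, inv1]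
    · simpa only [mul_inv_rev, app, LinearMap.comp_apply, Module.End.mul_apply] using globc_sum h
        (f ∘ₗ ρ x'⁻¹) (ξ ∘ₗ ρ x)
        (ρ x' * y₀ * ρ x'⁻¹) (ρ x⁻¹ (ρ g e)) (ρ x⁻¹ v)
  intro g _ w hw
  rw [← map_Vj_of_commute c1 r1] at hw ⊢
  obtain ⟨v, hv, rfl⟩ := hw
  have := semi g (ρ g v)
  rw [inv2] at this
  rw [this]
  exact Submodule.smul_mem _ _ ⟨_, ha g trivial v hv, rfl⟩

end Cfsg.Agent.MxE
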