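import Mathlib
import Cfsg.Agent.MxE.BasL
import Cfsg.Agent.MxE.Orb

/-! The case `|P| = p ^ 2`: invariant subspaces of `C(z)` from weights. -/

set_option autoImplicit false

namespace Cfsg.Agent.MxE

open Subgroup Cfsg.Agent.GT

variable {p : ℕ} [Fact p.Prime] {G : Type*} [Group G] {V : Type*} [AddCommGroup V]
  [Module (ZMod p) V]
  [Finite G] {ρ : Representation (ZMod p) G V} {P : Sylow p G} {s z : G} {m k : ℕ} {δ : G → V}

omit [Finite G] in
theorem locA_commute {g : G} (hg : g ∈ centralizer ({z} : Set G)) : Commute g z :=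
  mem_centralizer_singleton_iff.1 hg

omit [Finite G] in
theorem locA_Y {g : G} (hg : g ∈ centralizer ({z} : Set G)) (v : V) :
    (ρ z - 1) (ρ g v) = ρ g ((ρ z - 1) v) := by
  have h := locA_commute hg
  simp only [LinearMap.sub_apply, Module.End.one_apply, map_sub]
  rw [← Module.End.mul_apply, ← map_mul, ← h.eq, map_mul, Module.End.mul_apply]

omit [Finite G] in
theorem LS2.locA_le (h : LS2 ρ P s z m k δ) : (P : Subgroup G) ≤ centralizer {z} := fun u hu =>
  mem_centralizer_singleton_iff.2 (h.z_cent u hu)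

theorem LS2.invS_k (h : LS2 ρ P s z m k δ) :
    InvS ρ (centralizer {z}) (Vj (ρ s - 1) k) ∧ InvS ρ (centralizer {z}) (Vj (ρ s - 1) (m - k)) := by
  constructor
  · rw [← h.range_z]
    rintro g hg _ ⟨v, rfl⟩
    exact ⟨ρ g v, locA_Y hg v⟩
  · rw [← h.toLS.ker_Y]
    intro g hg v hv
    rw [LinearMap.mem_ker] at hv ⊢
    rw [locA_Y hg, hv, map_zero]

/-- a socle with trivial weight is fixed -/
theorem LS2.fix_socle (h : LS2 ρ P s z m k δ) {K : Subgroup G} (hP : (P : Subgroup G) ≤ K)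
    (hK : K ≤ centralizer {z}) {b : ℕ} (hb : InvS ρ K (Vj (ρ s - 1) (b + 1)))
    (hw : ∀ n ∈ K, n ∈ normalizer ((P : Subgroup G) : Set G) → Wt (ρ s - 1) b (ρ n) 1) :
    ∀ g ∈ K, Wt (ρ s - 1) b (ρ g) 1 := by
  intro g hg v hv
  set W := Vj (ρ s - 1) (b + 1) with hW
  let π : Representation (ZMod p) K (V ⧸ W) :=
    Representation.quotient (ρ.comp K.subtype) W fun g v hv => hb g g.2 v hv
  have hπ : ∀ (g : K) (v : V), π g (W.mkQ v) = W.mkQ (ρ g v) := fun _ _ => rfl
  let s' : K := ⟨s, hP h.s_mem⟩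
  have hs' : orderOf s' = p := by rw [← orderOf_coe]; exact h.toLS.orderOf_s
  have hpow : ∀ (n : ℕ) (v : V), ((π s' - 1) ^ n) (W.mkQ v) = W.mkQ (((ρ s - 1) ^ n) v) := by
    intro n
    induction n with
    | zero => intro v; simp
    | succ n ih =>
      intro v
      rw [pow_succ, pow_succ, Module.End.mul_apply, Module.End.mul_apply, ← ih]
      congr 1
  have h0 : (π s' - 1) ^ (p - 1) = 0 := by
    refine LinearMap.ext fun e => ?_
    obtain ⟨v, rfl⟩ := W.mkQ_surjective e
    have hm := h.m_lt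
    rw [hpow, pow_eq_zero_of_le (by omega : m ≤ p - 1) h.reg.nil]
    simp
  have key := fixed_of_ti π hs' h0 (N := (normalizer ((P : Subgroup G) : Set G)).subgroupOf K)
    (fun g hg => h.mem_normalizer (locA_commute (hK g.2)) hg) (le_normalizer h.s_mem) (e := W.mkQ v)
    (fun n hn => by
      rw [hπ, Submodule.mkQ_apply, Submodule.mkQ_apply, Submodule.Quotient.eq]
      simpa using hw n n.2 hn v hv) ⟨g, hg⟩
  rw [hπ, Submodule.mkQ_apply, Submodule.mkQ_apply, Submodule.Quotient.eq] at key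
  simpa using key

omit [Finite G] in
theorem locA_invS {K : Subgroup G} {x : Module.End (ZMod p) V} {b : ℕ}
    (h : ∀ g ∈ K, Wt x b (ρ g) 1) : InvS ρ K (Vj x b) := fun g hg v hv => by
  have := (Vj x b).add_mem (Vj_anti (Nat.le_succ b) (h g hg v hv)) hv
  simpa using this

theorem LS2.locA_wt (h : LS2 ρ P s z m k δ) {n : G} (hc : n ∈ centralizer ({z} : Set G))
    (hn : n ∈ normalizer ((P : Subgroup G) : Set G)) :
    ∃ a : ZMod p, (∀ j, Wt (ρ s - 1) j (ρ n) (a ^ (j + 1))) ∧ a ^ k = 1 := by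
  obtain ⟨a, b, -, -, ha, -⟩ := h.exists_conj hn
  have hb : n * z * n⁻¹ = z ^ 1 := by rw [(locA_commute hc).eq]; simp
  obtain ⟨h1, h2⟩ := h.wt_all hn ha hb
  exact ⟨a, by simpa using h1, by simpa using h2⟩

theorem LS2.invS_pred (h : LS2 ρ P s z m k δ) :
    InvS ρ (centralizer {z}) (Vj (ρ s - 1) (k - 1)) := by
  have hk : k - 1 + 1 = k := by have := h.k_two; omega
  refine locA_invS (h.fix_socle h.locA_le le_rfl (hk.symm ▸ h.invS_k.1) fun n hc hn => ?_)
  obtain ⟨a, h1, h2⟩ := h.locA_wt hc hn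
  have := h1 (k - 1)
  rwa [hk, h2] at this

theorem LS2.le_normalizer_of_one (h : LS2 ρ P s z m k δ)
    (h1 : InvS ρ (centralizer {z}) (Vj (ρ s - 1) 1)) :
    centralizer {z} ≤ normalizer ((P : Subgroup G) : Set G) := by
  let K : Subgroup G :=
    { carrier := {g | g ∈ centralizer ({z} : Set G) ∧ ∀ v, ρ g v - v ∈ Vj (ρ s - 1) 1}
      one_mem' := ⟨one_mem _, fun v => by simp⟩
      mul_mem' := by
        rintro a b ⟨ha, ha'⟩ ⟨hb, hb'⟩
        refine ⟨mul_mem ha hb, fun v => ?_⟩
        have := Submodule.add_mem _ (ha' (ρ b v)) (hb' v)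
        simpa using this
      inv_mem' := by
        rintro a ⟨ha, ha'⟩
        refine ⟨inv_mem ha, fun v => ?_⟩
        have := Submodule.neg_mem _ (ha' (ρ a⁻¹ v))
        simpa using this }
  have hPK : (P : Subgroup G) ≤ K := fun u hu => ⟨h.locA_le hu, fun v => by
    simpa using h.step u hu 0 v (by rw [Vj_zero]; trivial)⟩
  have hKC : K ≤ centralizer {z} := fun g hg => hg.1
  have hw : ∀ b, ∀ n ∈ K, n ∈ normalizer ((P : Subgroup G) : Set G) → Wt (ρ s - 1) b (ρ n) 1 := by
    intro b n hn hn'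
    obtain ⟨a, h2, -⟩ := h.locA_wt hn.1 hn'
    have h3 : Wt (ρ s - 1) 0 (ρ n) 1 := fun v _ => by simpa using hn.2 v
    have h4 := h.reg.wt_unique h.reg.pos (h2 0) h3
    rw [zero_add, pow_one] at h4
    simpa [h4] using h2 b
  have hinv : ∀ i b, m ≤ b + i → InvS ρ K (Vj (ρ s - 1) b) := by
    intro i
    induction i with
    | zero =>
      intro b hb g _ v hv
      rw [h.reg.Vj_eq_bot (j := b) hb] at hv ⊢
      rw [(Submodule.mem_bot _).1 hv, map_zero]
      exact zero_mem _
    | succ i ih =>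
      intro b hb
      exact locA_invS (h.fix_socle hPK hKC (ih (b + 1) (by omega)) (hw b))
  have hup : ∀ g ∈ K, Up (ρ s - 1) 1 (ρ g - 1) := fun g hg j v hv => by
    simpa using h.fix_socle hPK hKC (hinv m (j + 1) (by omega)) (hw j) g hg v hv
  have hne : Nontrivial (Module.End (ZMod p) V) := ⟨_, _, h.reg.ne⟩
  have hch : CharP (Module.End (ZMod p) V) p :=
    charP_of_injective_algebraMap (algebraMap (ZMod p) (Module.End (ZMod p) V)).injective p
  have hp : IsPGroup p K := by
    intro g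
    refine ⟨1, Subtype.ext (h.inj ?_)⟩
    have h2 : ∀ n : ℕ, Up (ρ s - 1) n ((ρ g - 1) ^ n) := by
      intro n
      induction n with
      | zero => intro j v hv; simpa using hv
      | succ n ih => rw [pow_succ]; exact ih.mul (hup g g.2)
    have h3 : (ρ g - 1) ^ p = 0 := by
      refine LinearMap.ext fun v => ?_
      have := h2 p 0 v (by rw [Vj_zero]; trivial)
      rwa [h.reg.Vj_eq_bot (by have := h.m_lt; omega), Submodule.mem_bot] at this
    rw [sub_pow_char_of_commute p (Commute.one_right _), one_pow, sub_eq_zero] at h3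
    simpa using h3
  have hKP : K = P := P.is_maximal' hp hPK
  intro c hc
  rw [← hKP]
  refine mem_normalizer_fintype fun g hg => ⟨mul_mem (mul_mem hc hg.1) (inv_mem hc), fun v => ?_⟩
  have := h1 c hc _ (hg.2 (ρ c⁻¹ v))
  simpa using this

end Cfsg.Agent.MxE
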