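import Mathlib
import Cfsg.Agent.MxE.Bas
import Cfsg.Agent.MxE.Orb

/-! Small uniserial modules of groups with a trivial intersection subgroup of order `p`. -/

set_option autoImplicit false

namespace Cfsg.Agent.MxE

open Subgroup Cfsg.Agent.GT

variable {p : ℕ} [Fact p.Prime] {G : Type*} [Group G] {V : Type*} [AddCommGroup V]
  [Module (ZMod p) V]

/-- the trace obstruction -/
theorem Reg.not_comm {x ψ υ : Module.End (ZMod p) V} {β : ℕ} (h : Reg x β) (hp : p ≠ 2)
    (h2 : 2 ≤ β) (hβ : β < p) (hυ : Commute υ x) (hυ1 : Up x 1 (υ - 1))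
    (hr : LinearMap.range ψ ≤ Vj x 1) (ht : LinearMap.trace (ZMod p) V ψ = 0) :
    x * ψ - ψ * x ≠ x * υ := by
  intro e
  have key : ∀ j : ℕ, ψ * x ^ j = x ^ j * ψ - (j : ZMod p) • (x ^ j * υ) := fun j => by
    induction j with
    | zero => simp
    | succ j ih =>
      have e' : ψ * x = x * ψ - x * υ := by rw [← e]; abel
      rw [pow_succ, ← mul_assoc, ih, sub_mul, smul_mul_assoc, mul_assoc, e', mul_assoc _ υ, hυ.eq,
        Nat.cast_succ, add_smul, one_smul, mul_sub]
      simp only [mul_assoc]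
      abel
  have hw : ∀ j < β, Wt x j ψ (-(j : ZMod p)) := by
    rintro j - _ ⟨w, rfl⟩
    have e1 : ψ ((x ^ j) w) - -(j : ZMod p) • (x ^ j) w =
        (x ^ j) (ψ w) - (j : ZMod p) • (x ^ j) ((υ - 1) w) := by
      have := LinearMap.congr_fun (key j) w
      simp only [Module.End.mul_apply, LinearMap.sub_apply, LinearMap.smul_apply] at this
      simp only [this, LinearMap.sub_apply, Module.End.one_apply, map_sub, smul_sub, neg_smul]
      abel
    rw [e1, add_comm j 1]
    exact sub_mem (pow_mem_Vj (hr ⟨w, rfl⟩) j)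
      (Submodule.smul_mem _ _ (pow_mem_Vj (hυ1 0 w (by rw [Vj_zero]; trivial)) j))
  rw [h.trace_eq _ hw, Finset.sum_neg_distrib, neg_eq_zero, ← Nat.cast_sum] at ht
  have e2 : ((β * (β - 1) : ℕ) : ZMod p) = 0 := by
    rw [← Finset.sum_range_id_mul_two, Nat.cast_mul, ht, zero_mul]
  rw [ZMod.natCast_eq_zero_iff] at e2
  rcases (Fact.out : p.Prime).dvd_mul.1 e2 with d | d
  · exact absurd (Nat.le_of_dvd (by omega) d) (by omega)
  · exact absurd (Nat.le_of_dvd (by omega) d) (by omega)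

namespace LemF

theorem sum_inv (hp : p ≠ 2) : ∑ j : ZMod p, j⁻¹ = 0 := by
  have h2 : (2 : ZMod p) ≠ 0 := fun e => hp ((Nat.prime_dvd_prime_iff_eq Fact.out Nat.prime_two).1
    ((ZMod.natCast_eq_zero_iff 2 p).1 (by exact_mod_cast e)))
  have e := Equiv.sum_comp (Equiv.neg (ZMod p)) fun j : ZMod p => j⁻¹
  simp only [Equiv.neg_apply, inv_neg, Finset.sum_neg_distrib] at e
  have : 2 * ∑ j : ZMod p, j⁻¹ = 0 := by linear_combination -e
  exact (mul_eq_zero.1 this).resolve_left h2

theorem sum_inv_mul : ∑ j : ZMod p, j⁻¹ * j = -1 := by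
  have : ∀ j : ZMod p, j⁻¹ * j = 1 - if j = 0 then 1 else 0 := fun j => by
    split_ifs with h
    · simp [h]
    · simp [h]
  simp [this]

theorem conj_pow' {A : Type*} [Ring A] {g g' : A} (h : g' * g = 1) (h' : g * g' = 1) (τ : A) (n : ℕ) :
    (g * τ * g') ^ n = g * τ ^ n * g' := by
  induction n with
  | zero => simp [h']
  | succ n ih =>
    rw [pow_succ, ih, pow_succ, show g * τ ^ n * g' * (g * τ * g') = g * τ ^ n * (g' * g) * τ * g' by
      simp only [mul_assoc], h]
    simp only [mul_assoc, one_mul]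

end LemF

/-- an eigenvector of `N(⟨σ⟩)` in the group algebra -/
theorem exists_log {A : Type*} [Ring A] [Algebra (ZMod p) A] (hp : p ≠ 2) (σ : A)
    (hσ : σ ^ p = 1) : ∃ q : Polynomial (ZMod p), q.coeff 0 = 1 ∧ ∃ L : A → A,
      L σ = (σ - 1) * Polynomial.aeval (σ - 1) q ∧
      (∀ a : ℕ, (a : ZMod p) ≠ 0 → L (σ ^ a) = (a : ZMod p) • L σ) ∧
      ∀ g g' τ : A, g' * g = 1 → g * g' = 1 → L (g * τ * g') = g * L τ * g' := by
  let f : Polynomial (ZMod p) := -∑ j : ZMod p, Polynomial.C j⁻¹ * (Polynomial.X + 1) ^ j.val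
  have f0 : f.coeff 0 = 0 := by
    simp only [f, Polynomial.coeff_neg, Polynomial.finset_sum_coeff, Polynomial.coeff_C_mul,
      Polynomial.coeff_X_add_one_pow, Nat.choose_zero_right, Nat.cast_one, mul_one, LemF.sum_inv hp, neg_zero]
  have f1 : f.coeff 1 = 1 := by
    simp only [f, Polynomial.coeff_neg, Polynomial.finset_sum_coeff, Polynomial.coeff_C_mul,
      Polynomial.coeff_X_add_one_pow, Nat.choose_one_right, ZMod.natCast_zmod_val, LemF.sum_inv_mul, neg_neg]
  refine ⟨f.divX, by rw [Polynomial.coeff_divX, f1], fun τ => -∑ j : ZMod p, j⁻¹ • τ ^ j.val, ?_,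
    fun a ha => ?_, fun g g' τ h h' => ?_⟩
  · have e := congrArg (Polynomial.aeval (σ - 1)) (Polynomial.X_mul_divX_add f)
    rw [f0, map_zero, add_zero, map_mul, Polynomial.aeval_X] at e
    rw [e]
    simp [f, Algebra.smul_def]
  · have e : ∀ j : ZMod p, (σ ^ a) ^ j.val = σ ^ ((a : ZMod p) * j).val := fun j => by
      rw [← pow_mul, ZMod.val_mul, ZMod.val_natCast, Nat.mod_mul_mod, ← pow_eq_pow_mod _ hσ]
    simp only [e, smul_neg, Finset.smul_sum, smul_smul]
    rw [← Equiv.sum_comp (Equiv.mulLeft₀ (a : ZMod p) ha) fun j => ((a : ZMod p) * j⁻¹) • σ ^ j.val]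
    simp only [Equiv.mulLeft₀_apply, mul_inv, mul_inv_cancel_left₀ ha]
  · simp only [LemF.conj_pow' h h', mul_neg, neg_mul, Finset.mul_sum, Finset.sum_mul, mul_smul_comm,
      smul_mul_assoc]

namespace LemF

variable (π : Representation (ZMod p) G V)

theorem rinv (g : G) : π g⁻¹ * π g = 1 := by rw [← map_mul, inv_mul_cancel, map_one]

theorem rmul (g : G) : π g * π g⁻¹ = 1 := by rw [← map_mul, mul_inv_cancel, map_one]

/-- trace zero maps with image in `W` -/
def T (W : Submodule (ZMod p) V) : Submodule (ZMod p) (Module.End (ZMod p) V) where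
  carrier := {φ | (∀ v, φ v ∈ W) ∧ LinearMap.trace (ZMod p) V φ = 0}
  add_mem' ha hb := ⟨fun v => add_mem (ha.1 v) (hb.1 v), by rw [map_add, ha.2, hb.2, add_zero]⟩
  zero_mem' := ⟨fun _ => zero_mem _, map_zero _⟩
  smul_mem' c _ ha := ⟨fun v => W.smul_mem c (ha.1 v), by rw [map_smul, ha.2, smul_zero]⟩

/-- the conjugation action on `T W` -/
noncomputable def ρT {W : Submodule (ZMod p) V} (hW : InvS π ⊤ W) : Representation (ZMod p) G (T W) :=
  (π.linHom π).subrepresentation (T W) fun g φ hφ => ⟨fun v => hW g trivial _ (hφ.1 _), by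
    change LinearMap.trace (ZMod p) V (π g * (φ * π g⁻¹)) = 0
    rw [LinearMap.trace_mul_comm, mul_assoc, rinv, mul_one, hφ.2]⟩

theorem coe_ρT {W : Submodule (ZMod p) V} (hW : InvS π ⊤ W) (g : G) (φ : T W) :
    (ρT π hW g φ : Module.End (ZMod p) V) = π g * φ * π g⁻¹ := rfl

theorem coe_sub {W : Submodule (ZMod p) V} (hW : InvS π ⊤ W) (g : G) (φ : T W) :
    ((ρT π hW g - 1) φ : Module.End (ZMod p) V) = ((π g - 1) * φ - φ * (π g - 1)) * π g⁻¹ := by
  rw [LinearMap.sub_apply, Submodule.coe_sub, coe_ρT, Module.End.one_apply, sub_mul (π g), mul_sub, one_mul, mul_one,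
    sub_sub_sub_cancel_right, sub_mul, mul_assoc _ (π g), rmul, mul_one]

theorem pow_eq_zero {W : Submodule (ZMod p) V} (hW : InvS π ⊤ W) {s : G} {β k : ℕ} (h : (π s - 1) ^ β = 0)
    (hk : β + β ≤ k + 1) : (ρT π hW s - 1) ^ k = 0 := by
  let D : Module.End (ZMod p) (Module.End (ZMod p) V) :=
    LinearMap.mulLeft _ (π s - 1) + -LinearMap.mulRight _ (π s - 1)
  have hD : D ^ k = 0 := by
    refine (LinearMap.commute_mulLeft_right (R := ZMod p) (π s - 1)
      (π s - 1)).neg_right.add_pow_eq_zero_of_add_le_succ_of_pow_eq_zero ?_ ?_ hk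
    · rw [LinearMap.pow_mulLeft, h, LinearMap.mulLeft_zero_eq_zero]
    · rw [neg_pow, LinearMap.pow_mulRight, h, LinearMap.mulRight_zero_eq_zero, mul_zero]
  have hc : Commute (π s - 1) (π s⁻¹) :=
    Commute.sub_left ((rmul π s).trans (rinv π s).symm) (Commute.one_left _)
  have key : ∀ (n : ℕ) (φ : T W), (((ρT π hW s - 1) ^ n) φ : Module.End (ZMod p) V) =
      (D ^ n) φ * π s⁻¹ ^ n := fun n φ => by
    induction n with
    | zero => simp
    | succ n ih =>
      rw [pow_succ', Module.End.mul_apply, coe_sub, ih, pow_succ' D, Module.End.mul_apply, mul_assoc _ _ (π s - 1),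
        ← (hc.pow_right n).eq, pow_succ]
      simp only [D, LinearMap.add_apply, LinearMap.neg_apply, LinearMap.mulLeft_apply, LinearMap.mulRight_apply]
      noncomm_ring
  exact LinearMap.ext fun φ => Subtype.ext (by rw [key, hD]; simp)

theorem ρT_eq {W : Submodule (ZMod p) V} (hW : InvS π ⊤ W) {g h : G} (e : π g = π h) :
    ρT π hW g = ρT π hW h := by
  have e' : π g⁻¹ = π h⁻¹ := by rw [← mul_one (π g⁻¹), ← rmul π h, ← e, ← mul_assoc, rinv, one_mul]
  exact LinearMap.ext fun φ => Subtype.ext (by rw [coe_ρT, coe_ρT, e, e'])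

end LemF

open LemF in
/-- Lemma F -/
theorem invS_socle [Finite G] (π : Representation (ZMod p) G V) {s : G} (hs : orderOf s = p)
    {β : ℕ} (h : Reg (π s - 1) β) (h2 : 2 ≤ β) (hβ : 2 * β ≤ p) {N P₀ : Subgroup G}
    (hN : ∀ g, g⁻¹ * s * g ∈ N → g ∈ N) (hle : P₀ ≤ N) (hsP : s ∈ P₀)
    (hi : ¬ p ∣ P₀.relIndex N) (h1 : ∀ u ∈ P₀, ∃ i : ℕ, π u = π s ^ i)
    (h3 : ∀ n ∈ N, ∃ a : ℕ, π (n * s * n⁻¹) = π s ^ a) (hV : InvS π ⊤ (Vj (π s - 1) 1)) :
    InvS π ⊤ (Vj (π s - 1) (β - 1)) := by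
  have := h.finite
  have : Finite (Module.End (ZMod p) V) := DFunLike.finite _
  have hp : p ≠ 2 := by omega
  have hσ : π s ^ p = 1 := by
    have := pow_orderOf_eq_one s
    rw [← map_pow, hs] at *; rw [this, map_one]
  obtain ⟨q, q0, L, hL, hLa, hLc⟩ := exists_log hp (π s) hσ
  have cq : ∀ r : Polynomial (ZMod p), Commute (Polynomial.aeval (π s - 1) r) (π s - 1) := fun r => by
    have := (Commute.all r Polynomial.X).map (Polynomial.aeval (π s - 1))
    rwa [Polynomial.aeval_X] at this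
  have cy : Commute (L (π s)) (π s - 1) := by rw [hL]; exact (Commute.refl _).mul_left (cq q)
  have ry : LinearMap.range (L (π s)) = Vj (π s - 1) 1 := by
    rw [hL, ← h.range_aeval (k := 1) (q := q) (by rw [q0]; exact one_ne_zero), pow_one]
  have ty : LinearMap.trace (ZMod p) V (L (π s)) = 0 := by
    rw [h.trace_eq (fun _ => 0) fun j _ v hv => by
      rw [zero_smul, sub_zero]; exact up_of_commute cy ry.le j v hv]
    simp
  let y : T (Vj (π s - 1) 1) := ⟨L (π s), fun v => ry.le ⟨v, rfl⟩, ty⟩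
  have hJ : y ∉ LinearMap.range (ρT π hV s - 1) := by
    rintro ⟨ψ, e⟩
    have e1 := congrArg (fun φ : T (Vj (π s - 1) 1) => (φ : Module.End (ZMod p) V) * π s) e
    simp only [coe_sub] at e1
    rw [mul_assoc, rinv, mul_one, show (y : Module.End (ZMod p) V) = _ from hL, mul_assoc] at e1
    have cs : Commute (π s) (π s - 1) := (Commute.refl _).sub_right (Commute.one_right _)
    refine h.not_comm hp h2 (by omega) ((cq q).mul_left cs)
      (up_of_commute (((cq q).mul_left cs).sub_left (Commute.one_left _)) ?_) (by rintro _ ⟨v, rfl⟩; exact ψ.2.1 v)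
      ψ.2.2 e1
    have e2 := congrArg (Polynomial.aeval (π s - 1)) (Polynomial.X_mul_divX_add q)
    rw [q0, map_add, map_mul, Polynomial.aeval_X, map_one, map_one] at e2
    rw [← e2, Vj_one, show ((π s - 1) * Polynomial.aeval (π s - 1) q.divX + 1) * π s - 1 =
      (π s - 1) * (Polynomial.aeval (π s - 1) q.divX * π s + 1) by noncomm_ring]
    exact LinearMap.range_comp_le_range _ _
  obtain ⟨f, fy, fJ⟩ := Submodule.exists_dual_map_eq_bot_of_notMem hJ inferInstance
  have fs : ∀ v, f (ρT π hV s v) = f v := fun v => by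
    have : f ((ρT π hV s - 1) v) = 0 := by
      rw [← Submodule.mem_bot (ZMod p), ← fJ]
      exact Submodule.mem_map_of_mem (LinearMap.mem_range_self _ v)
    rwa [LinearMap.sub_apply, map_sub, sub_eq_zero] at this
  have ys : ρT π hV s y = y := Subtype.ext (by
    rw [coe_ρT, ← hLc _ _ _ (rinv π s) (rmul π s), mul_assoc, rmul, mul_one])
  have hu : ∀ u ∈ P₀, ∃ i : ℕ, ρT π hV u = ρT π hV s ^ i := fun u hu =>
    (h1 u hu).imp fun i e => by rw [← map_pow]; exact ρT_eq π hV (by rw [e, map_pow])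
  have key := line_of_ti (ρT π hV) hs (pow_eq_zero π hV h.nil (by omega)) hN hle hsP hi (y := y)
    (fun n hn => ?_) ((f y)⁻¹ • f) (by simp [fy]) (fun u hu' => ?_) fun u hu' v => ?_
  · intro g _ v hv
    obtain ⟨c, e⟩ := key g⁻¹
    have e1 : π g⁻¹ * L (π s) * π g = c • L (π s) := by simpa [coe_ρT] using congrArg Subtype.val e
    rw [← h.ker_of_commute cy (by omega) ry, LinearMap.mem_ker] at hv ⊢
    have e2 : L (π s) * π g = π g * (c • L (π s)) := by
      rw [← e1, ← mul_assoc, ← mul_assoc, rmul, one_mul]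
    have := LinearMap.congr_fun e2 v
    simpa [hv] using this
  · obtain ⟨a, e⟩ := h3 n hn
    have ha : (a : ZMod p) ≠ 0 := fun h0 => by
      obtain ⟨b, rfl⟩ := (ZMod.natCast_eq_zero_iff a p).1 h0
      rw [pow_mul, hσ, one_pow, map_mul, map_mul] at e
      have : π s = 1 := by
        rw [← one_mul (π s), ← rinv π n, ← mul_one (π n⁻¹ * π n * π s), ← rinv π n,
          show π n⁻¹ * π n * π s * (π n⁻¹ * π n) = π n⁻¹ * (π n * π s * π n⁻¹) * π n by simp only [mul_assoc],
          e, mul_one]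
      exact h.pow_ne_zero (j := 1) (by omega) (by rw [this]; simp)
    refine ⟨a, Subtype.ext ?_⟩
    rw [coe_ρT, ← hLc _ _ _ (rinv π n) (rmul π n), ← map_mul, ← map_mul, e, hLa a ha]
    rfl
  · obtain ⟨i, e⟩ := hu u hu'
    rw [e]
    clear e
    induction i with
    | zero => simp
    | succ i ih => rw [pow_succ, Module.End.mul_apply, ys, ih]
  · obtain ⟨i, e⟩ := hu u hu'
    rw [e]
    clear e
    simp only [LinearMap.smul_apply]
    congr 1
    induction i with
    | zero => simp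
    | succ i ih => rw [pow_succ', Module.End.mul_apply, fs, ih]

end Cfsg.Agent.MxE
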