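import Mathlib
import Cfsg.Agent.MxE.BasL
import Cfsg.Agent.MxE.LemF

/-! The case `|P| = p ^ 2`: descent through the cocycle module. -/

set_option autoImplicit false

namespace Cfsg.Agent.MxE

open Subgroup Cfsg.Agent.GT

variable {p : ℕ} [Fact p.Prime] {G : Type*} [Group G] {V : Type*} [AddCommGroup V]
  [Module (ZMod p) V]

namespace LocB

/-- the affine map `(r, v) ↦ (r, φ v + r d)` on `F × V / W` -/
noncomputable def aff (W : Submodule (ZMod p) V) (φ : Module.End (ZMod p) V)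
    (hφ : W ≤ W.comap φ) (d : V) : Module.End (ZMod p) (ZMod p × (V ⧸ W)) :=
  LinearMap.prod (LinearMap.fst _ _ _)
    ((W.mapQ W φ hφ).comp (LinearMap.snd _ _ _) +
      (LinearMap.fst (ZMod p) (ZMod p) (V ⧸ W)).smulRight (W.mkQ d))

theorem aff_apply (W : Submodule (ZMod p) V) (φ : Module.End (ZMod p) V)
    (hφ : W ≤ W.comap φ) (d : V) (r : ZMod p) (v : V) :
    aff W φ hφ d (r, W.mkQ v) = (r, W.mkQ (φ v + r • d)) := by
  simp [aff, Submodule.mapQ_apply]

theorem end_ext {W : Submodule (ZMod p) V} {f g : Module.End (ZMod p) (ZMod p × (V ⧸ W))}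
    (h : ∀ r v, f (r, W.mkQ v) = g (r, W.mkQ v)) : f = g := by
  refine LinearMap.ext fun b => ?_
  obtain ⟨r, q⟩ := b
  obtain ⟨v, rfl⟩ := W.mkQ_surjective q
  exact h r v

theorem mkQ_eq {W : Submodule (ZMod p) V} {v w : V} (h : v - w ∈ W) : W.mkQ v = W.mkQ w :=
  (Submodule.Quotient.eq W).2 h

theorem sub_mem_of_mkQ_eq {W : Submodule (ZMod p) V} {v w : V} (h : W.mkQ v = W.mkQ w) :
    v - w ∈ W :=
  (Submodule.Quotient.eq W).1 h

/-- the cocycle module -/
noncomputable def coc (ρ : Representation (ZMod p) G V) (C : Subgroup G)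
    (W : Submodule (ZMod p) V) (hW : InvS ρ C W) (δ : G → V)
    (hδ : ∀ c ∈ C, ∀ c' ∈ C, δ (c * c') - δ c - ρ c (δ c') ∈ W) :
    Representation (ZMod p) C (ZMod p × (V ⧸ W)) where
  toFun c := aff W (ρ c) (fun v hv => hW c c.2 v hv) (δ c)
  map_one' := end_ext fun r v => by
    rw [aff_apply, Module.End.one_apply]
    refine Prod.ext rfl (mkQ_eq ?_)
    have h := hδ 1 C.one_mem 1 C.one_mem
    simp only [mul_one, sub_self, map_one, Module.End.one_apply, zero_sub, neg_mem_iff] at h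
    simpa using W.smul_mem r h
  map_mul' c c' := end_ext fun r v => by
    rw [aff_apply, Module.End.mul_apply, aff_apply, aff_apply]
    refine Prod.ext rfl (mkQ_eq ?_)
    have h := W.smul_mem r (hδ c c.2 c' c'.2)
    convert h using 1
    simp only [Subgroup.coe_mul, map_mul, Module.End.mul_apply, map_add, map_smul, smul_sub]
    abel

theorem coc_apply (ρ : Representation (ZMod p) G V) (C : Subgroup G)
    (W : Submodule (ZMod p) V) (hW : InvS ρ C W) (δ : G → V)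
    (hδ : ∀ c ∈ C, ∀ c' ∈ C, δ (c * c') - δ c - ρ c (δ c') ∈ W) (c : C) (r : ZMod p) (v : V) :
    coc ρ C W hW δ hδ c (r, W.mkQ v) = (r, W.mkQ (ρ c v + r • δ c)) :=
  aff_apply W (ρ c) (fun v hv => hW c c.2 v hv) (δ c) r v

section Pow

variable {W : Submodule (ZMod p) V} {x : Module.End (ZMod p) V}
  {y : Module.End (ZMod p) (ZMod p × (V ⧸ W))} {d : V}

theorem pow_apply (hy : ∀ r v, y (r, W.mkQ v) = (0, W.mkQ (x v + r • d))) (j : ℕ) (r : ZMod p)
    (v : V) : (y ^ (j + 1)) (r, W.mkQ v) = (0, W.mkQ ((x ^ j) (x v + r • d))) := by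
  induction j with
  | zero => simpa using hy r v
  | succ j ih =>
    rw [pow_succ', Module.End.mul_apply, ih, hy, zero_smul, add_zero, pow_succ',
      Module.End.mul_apply]

theorem mem_Vj_iff {m : ℕ} (hx : Reg x m) (hd : d ∉ Vj x 1)
    (hy : ∀ r v, y (r, W.mkQ v) = (0, W.mkQ (x v + r • d))) (j : ℕ) (b : ZMod p × (V ⧸ W)) :
    b ∈ Vj y (j + 1) ↔ ∃ w ∈ Vj x j, b = (0, W.mkQ w) := by
  constructor
  · rintro ⟨⟨r, q⟩, rfl⟩
    obtain ⟨v, rfl⟩ := W.mkQ_surjective q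
    exact ⟨_, ⟨x v + r • d, rfl⟩, pow_apply hy j r v⟩
  · rintro ⟨_, ⟨u, rfl⟩, rfl⟩
    have h0 : ∀ w : V, w ∈ Vj x 0 := fun w => by rw [Vj_zero]; trivial
    obtain ⟨c, hc⟩ := hx.exists_smul (j := 0) (h0 d) hd (h0 u)
    rw [zero_add, Vj_one] at hc
    obtain ⟨v, hv⟩ := hc
    refine ⟨(c, W.mkQ v), ?_⟩
    rw [pow_apply hy, hv, sub_add_cancel]

theorem reg {m α : ℕ} (hx : Reg x m) (hd : d ∉ Vj x 1) (h1 : 1 ≤ α) (hα : α ≤ m)
    {y : Module.End (ZMod p) (ZMod p × (V ⧸ Vj x α))}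
    (hy : ∀ r v, y (r, (Vj x α).mkQ v) = (0, (Vj x α).mkQ (x v + r • d))) : Reg y (α + 1) := by
  haveI := hx.finite
  haveI : NeZero p := ⟨(Fact.out : p.Prime).ne_zero⟩
  haveI : Finite (V ⧸ Vj x α) := Finite.of_surjective _ (Vj x α).mkQ_surjective
  have h0 : ∀ w : V, w ∈ Vj x 0 := fun w => by rw [Vj_zero]; trivial
  refine Reg.of_vec (v := (1, (Vj x α).mkQ 0)) ?_ ?_ ?_
  · have h := (Vj x α).finrank_quotient_add_finrank
    rw [hx.finrank_Vj, hx.dim] at h
    rw [Module.finrank_prod, Module.finrank_self]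
    omega
  · refine end_ext fun r v => ?_
    rw [pow_apply hy]
    refine Prod.ext rfl ?_
    exact (Submodule.Quotient.mk_eq_zero _).2 ⟨_, rfl⟩
  · obtain ⟨a, rfl⟩ : ∃ a, α = a + 1 := ⟨α - 1, by omega⟩
    rw [Nat.add_sub_cancel, pow_apply hy]
    intro h
    have h2 : (x ^ a) (x 0 + (1 : ZMod p) • d) ∈ Vj x (a + 1) :=
      (Submodule.Quotient.mk_eq_zero _).1 (congrArg Prod.snd h)
    rw [map_zero, zero_add, one_smul] at h2
    have h3 := hx.pow_notMem (j := 0) (r := a) (h0 d) hd (by omega)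
    rw [zero_add] at h3
    exact h3 h2

end Pow

end LocB

open LocB

variable [Finite G] {ρ : Representation (ZMod p) G V} {P : Sylow p G} {s z : G} {m k : ℕ}
  {δ : G → V}

theorem LS2.invS_step (h : LS2 ρ P s z m k δ) {α : ℕ} (h1 : 1 ≤ α) (hk : α ≤ k)
    (hp : 2 * (α + 1) ≤ p) (hα : InvS ρ (centralizer {z}) (Vj (ρ s - 1) α)) :
    InvS ρ (centralizer {z}) (Vj (ρ s - 1) (α - 1)) := by
  have hC : ∀ c, c ∈ centralizer ({z} : Set G) ↔ Commute c z := fun c =>
    mem_centralizer_singleton_iff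
  have hka : Vj (ρ s - 1) k ≤ Vj (ρ s - 1) α := Vj_anti hk
  have hδ : ∀ c ∈ centralizer ({z} : Set G), ∀ c' ∈ centralizer ({z} : Set G),
      δ (c * c') - δ c - ρ c (δ c') ∈ Vj (ρ s - 1) α := fun c hc c' hc' =>
    hka (h.δ_mul c c' ((hC c).1 hc) ((hC c').1 hc'))
  have hPC : (P : Subgroup G) ≤ centralizer ({z} : Set G) := fun u hu => (hC u).2 (h.z_cent u hu)
  obtain ⟨π, happ⟩ : ∃ π : Representation (ZMod p) (centralizer ({z} : Set G))
      (ZMod p × (V ⧸ Vj (ρ s - 1) α)), ∀ (c : centralizer ({z} : Set G)) (r : ZMod p) (v : V),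
      π c (r, (Vj (ρ s - 1) α).mkQ v) = (r, (Vj (ρ s - 1) α).mkQ (ρ c v + r • δ c)) :=
    ⟨coc ρ (centralizer {z}) (Vj (ρ s - 1) α) hα δ hδ,
      coc_apply ρ (centralizer {z}) (Vj (ρ s - 1) α) hα δ hδ⟩
  let s' : centralizer ({z} : Set G) := ⟨s, hPC h.s_mem⟩
  let z' : centralizer ({z} : Set G) := ⟨z, hPC h.z_mem⟩
  have hz' : π z' = 1 := end_ext fun r v => by
    rw [happ, Module.End.one_apply]
    refine Prod.ext rfl (mkQ_eq (hka ?_))
    have h2 : ρ z v - v ∈ Vj (ρ s - 1) k := by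
      rw [← h.range_z]; exact ⟨v, rfl⟩
    have h3 := (Vj (ρ s - 1) k).add_mem h2 ((Vj (ρ s - 1) k).smul_mem r h.δ_z)
    convert h3 using 1
    change ρ z v + r • δ z - v = _
    abel
  have hZ : ∀ c : centralizer ({z} : Set G), (c : G) ∈ zpowers z → π c = 1 := by
    rintro c ⟨i, hi⟩
    have : c = z' ^ i := Subtype.ext (by simpa using hi.symm)
    have h2 : z' ∈ MonoidHom.ker π := hz'
    rw [this]
    exact (MonoidHom.ker π).zpow_mem h2 i
  have hy : ∀ r v, (π s' - 1) (r, (Vj (ρ s - 1) α).mkQ v) =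
      (0, (Vj (ρ s - 1) α).mkQ ((ρ s - 1) v + r • δ s)) := fun r v => by
    rw [LinearMap.sub_apply, happ, Module.End.one_apply, Prod.mk_sub_mk, sub_self, ← map_sub]
    congr 2
    change ρ s v + r • δ s - v = ρ s v - v + r • δ s
    abel
  have hkm := h.k_lt
  have hreg : Reg (π s' - 1) (α + 1) := reg h.reg h.δ_s h1 (by omega) hy
  have hmem := mem_Vj_iff h.reg h.δ_s hy
  have hs' : orderOf s' = p := by
    rw [← h.orderOf_s]; exact (orderOf_coe s').symm
  have hle : (P : Subgroup G).subgroupOf (centralizer {z}) ≤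
      (normalizer ((P : Subgroup G) : Set G)).subgroupOf (centralizer {z}) :=
    fun u hu => mem_subgroupOf.2 (le_normalizer (mem_subgroupOf.1 hu))
  have hi : ¬ p ∣ ((P : Subgroup G).subgroupOf (centralizer {z})).relIndex
      ((normalizer ((P : Subgroup G) : Set G)).subgroupOf (centralizer {z})) := fun hd =>
    P.not_dvd_index (hd.trans ((relIndex_dvd_index_of_le hle).trans
      (relIndex_dvd_index_of_le hPC)))
  have hN : ∀ g : centralizer ({z} : Set G), g⁻¹ * s' * g ∈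
      (normalizer ((P : Subgroup G) : Set G)).subgroupOf (centralizer {z}) →
      g ∈ (normalizer ((P : Subgroup G) : Set G)).subgroupOf (centralizer {z}) := fun g hg =>
    mem_subgroupOf.2 (h.mem_normalizer ((hC g).1 g.2) (mem_subgroupOf.1 hg))
  have hP1 : ∀ u ∈ (P : Subgroup G).subgroupOf (centralizer {z}), ∃ i : ℕ, π u = π s' ^ i := by
    intro u hu
    obtain ⟨i, j, hij⟩ := h.exists_eq (mem_subgroupOf.1 hu)
    refine ⟨i, ?_⟩
    have : u = s' ^ i * z' ^ j := Subtype.ext (by simpa using hij)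
    rw [this, map_mul, map_pow, map_pow, hz', one_pow, mul_one]
  have hN3 : ∀ n ∈ (normalizer ((P : Subgroup G) : Set G)).subgroupOf (centralizer {z}),
      ∃ a : ℕ, π (n * s' * n⁻¹) = π s' ^ a := by
    intro n hn
    obtain ⟨a, b, -, -, ha, -⟩ := h.exists_conj (mem_subgroupOf.1 hn)
    refine ⟨a, ?_⟩
    have h2 := hZ (n * s' * n⁻¹ * (s' ^ a)⁻¹) (by simpa using ha)
    have h3 : n * s' * n⁻¹ = n * s' * n⁻¹ * (s' ^ a)⁻¹ * s' ^ a := by group
    rw [h3, map_mul, h2, one_mul, map_pow]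
  have hV : InvS π ⊤ (Vj (π s' - 1) 1) := by
    intro g _ b hb
    obtain ⟨w, -, rfl⟩ := (hmem 0 b).1 hb
    rw [happ]
    exact (hmem 0 _).2 ⟨_, by rw [Vj_zero]; trivial, rfl⟩
  have key := invS_socle π hs' hreg (by omega) hp hN hle (mem_subgroupOf.2 h.s_mem) hi hP1 hN3 hV
  obtain ⟨a, rfl⟩ : ∃ a, α = a + 1 := ⟨α - 1, by omega⟩
  rw [Nat.add_sub_cancel] at key ⊢
  intro c hc v hv
  have h2 := key ⟨c, hc⟩ trivial _ ((hmem a _).2 ⟨v, hv, rfl⟩)
  rw [happ] at h2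
  obtain ⟨w, hw, hw2⟩ := (hmem a _).1 h2
  have h3 := sub_mem_of_mkQ_eq (congrArg Prod.snd hw2)
  rw [zero_smul, add_zero] at h3
  have h4 := (Vj (ρ s - 1) a).add_mem (Vj_anti (Nat.le_succ a) h3) hw
  simpa using h4

end Cfsg.Agent.MxE
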