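import Mathlib
import Cfsg.Agent.MxE.Defs

/-! The algebra of a quadratic pair. -/

set_option autoImplicit false
set_option linter.unusedSectionVars false

namespace Cfsg.Agent.MxE

open Subgroup Cfsg.Agent.GT

namespace QA

section abs

variable {A R : Type*} [CommRing A] [Ring R] [Algebra A R] {a b : R} {γ : A}

/-- A quadratic pair in an algebra. -/
structure QP (a b : R) (γ : A) : Prop where
  aa : a * a = 0
  bb : b * b = 0
  ba : b * a = γ • (1 : R) - a * b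
  inj : ∀ x : A, x • (1 : R) = 0 → x = 0

/-- The normal form. -/
def S (a b : R) (r₀ r₁ r₂ r₃ : A) : R := r₀ • (1 : R) + r₁ • a + r₂ • b + r₃ • (a * b)

/-- The normal form of the inverse. -/
def S' (a b : R) (r₀ r₁ r₂ r₃ : A) : R := r₀ • (1 : R) - r₁ • a - r₂ • b + r₃ • (b * a)

theorem pow_lin (h : a * a = 0) (x y : A) (n : ℕ) :
    (x • (1 : R) + y • a) ^ (n + 1) = x ^ (n + 1) • (1 : R) + (((n + 1 : ℕ) : A) * x ^ n * y) • a := by
  induction n with
  | zero => simp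
  | succ n ih =>
    rw [pow_succ, ih]
    simp only [mul_add, add_mul, smul_mul_assoc, mul_smul_comm, h, mul_one, one_mul, smul_zero]
    push_cast
    module

namespace QP

variable (h : QP a b γ)
include h

theorem aa' (x : R) : a * (a * x) = 0 := by rw [← mul_assoc, h.aa, zero_mul]

theorem bb' (x : R) : b * (b * x) = 0 := by rw [← mul_assoc, h.bb, zero_mul]

theorem ba' (x : R) : b * (a * x) = γ • x - a * (b * x) := by
  rw [← mul_assoc, h.ba, sub_mul, smul_mul_assoc, one_mul, mul_assoc]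

theorem zero_of {x : A} (hx : x • a = 0) : x * γ = 0 := by
  refine h.inj _ ?_
  have : (x * γ) • (1 : R) = x • a * b + b * x • a := by
    simp only [smul_mul_assoc, mul_smul_comm, h.ba]
    module
  rw [this, hx, zero_mul, mul_zero, add_zero]

theorem mulA (ε r r₁ r₂ r₃ : A) :
    (1 + ε • a) * S a b (1 + γ * r) r₁ r₂ r₃ = S a b (1 + γ * r) (r₁ + ε * (1 + γ * r)) r₂ (r₃ + ε * r₂) := by
  simp only [S, mul_add, add_mul, smul_mul_assoc, mul_smul_comm, h.aa, h.aa', mul_one, one_mul, smul_zero]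
  module

theorem mulA' (ε r r₁ r₂ r₃ : A) :
    S' a b (1 + γ * r) r₁ r₂ r₃ * (1 - ε • a) = S' a b (1 + γ * r) (r₁ + ε * (1 + γ * r)) r₂ (r₃ + ε * r₂) := by
  simp only [S', mul_add, add_mul, mul_sub, sub_mul, smul_mul_assoc, mul_smul_comm, mul_assoc, h.aa, h.aa', h.ba,
    mul_one, one_mul, smul_zero]
  module

theorem mulB (ε r r₁ r₂ r₃ : A) :
    (1 + ε • b) * S a b (1 + γ * r) r₁ r₂ r₃ =
      S a b (1 + γ * (r + ε * r₁)) r₁ (r₂ + ε * (1 + γ * r) + ε * r₃ * γ) (r₃ - ε * r₁) := by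
  simp only [S, mul_add, add_mul, smul_mul_assoc, mul_smul_comm, h.bb, h.ba, h.ba', mul_one, one_mul, smul_zero,
    mul_zero]
  module

theorem mulB' (ε r r₁ r₂ r₃ : A) :
    S' a b (1 + γ * r) r₁ r₂ r₃ * (1 - ε • b) =
      S' a b (1 + γ * (r + ε * r₁)) r₁ (r₂ + ε * (1 + γ * r) + ε * r₃ * γ) (r₃ - ε * r₁) := by
  simp only [S', mul_add, add_mul, mul_sub, sub_mul, smul_mul_assoc, mul_smul_comm, mul_assoc, h.bb, h.ba,
    mul_one, one_mul, smul_zero, mul_zero]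
  module

theorem sq_eq (r r₁ r₂ r₃ : A) : (S a b (1 + γ * r) r₁ r₂ r₃ - 1) ^ 2 =
    γ • S a b (γ * r ^ 2 + r₁ * r₂) (2 * r * r₁ + r₃ * r₁) (2 * r * r₂ + r₂ * r₃) (2 * r * r₃ + r₃ ^ 2) := by
  simp only [sq, S, mul_add, add_mul, mul_sub, sub_mul, smul_mul_assoc, mul_smul_comm, mul_assoc, h.aa, h.bb, h.ba,
    h.aa', h.ba', mul_one, one_mul, smul_zero, mul_zero]
  module

theorem core₁ {r₀ r₁ r₂ r₃ e e' : A} {n : ℕ} (hi : S a b r₀ r₁ r₂ r₃ * S' a b r₀ r₁ r₂ r₃ = 1)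
    (hc : S a b r₀ r₁ r₂ r₃ * a = a * S a b r₀ r₁ r₂ r₃) (he : e * e = e) (he' : e = γ ^ 4 * e')
    (h0 : (1 - e) • (S a b r₀ r₁ r₂ r₃ - 1) = 0) (hn : S a b r₀ r₁ r₂ r₃ ^ (2 * n + 1) = 1)
    (hn' : ((2 * n + 1 : ℕ) : A) = 0) : S a b r₀ r₁ r₂ r₃ - 1 = (e * r₁) • a := by
  have h1 : r₂ • (b * a - a * b) + (r₃ * γ) • a = 0 := by
    rw [← sub_eq_zero.2 hc]
    simp only [S, mul_add, add_mul, mul_sub, smul_mul_assoc, mul_smul_comm, mul_assoc, h.aa, h.ba,
      h.aa', mul_one, one_mul, smul_zero]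
    module
  have h2 : (r₂ * γ) • a = 0 := by
    have := congrArg (a * ·) h1
    simp only [mul_add, mul_sub, mul_smul_comm, h.aa, h.ba, h.aa', mul_one, smul_zero, mul_zero] at this
    rw [← this]
    module
  have h3 := h.zero_of h2
  have h4 : (r₃ * γ ^ 3) • a = 0 := by
    have := congrArg (γ ^ 2 • ·) h1
    simp only [smul_add, smul_smul, smul_zero] at this
    rw [show γ ^ 2 * r₂ = 0 by rw [← h3]; ring, zero_smul, zero_add] at this
    rw [← this]
    module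
  have h5 := h.zero_of h4
  have e2 : e * r₂ = 0 := by rw [he']; linear_combination γ ^ 2 * e' * h3
  have e3 : e * r₃ = 0 := by rw [he']; linear_combination e' * h5
  have k1 : e • S a b r₀ r₁ r₂ r₃ = (e * r₀) • (1 : R) + (e * r₁) • a := by
    simp only [S, smul_add, smul_smul, e2, e3, zero_smul, add_zero]
  have k2 : e • S' a b r₀ r₁ r₂ r₃ = (e * r₀) • (1 : R) - (e * r₁) • a := by
    simp only [S', smul_add, smul_sub, smul_smul, e2, e3, zero_smul, add_zero, sub_zero]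
  have k3 : (e * r₀) ^ 2 = e := by
    refine sub_eq_zero.1 (h.inj _ ?_)
    have : e • S a b r₀ r₁ r₂ r₃ * e • S' a b r₀ r₁ r₂ r₃ = e • (1 : R) := by
      rw [smul_mul_assoc, mul_smul_comm, hi, smul_smul, he]
    rw [sub_smul, ← this, k1, k2]
    simp only [mul_add, add_mul, mul_sub, smul_mul_assoc, mul_smul_comm, h.aa, mul_one, one_mul, smul_zero]
    module
  have ie : IsIdempotentElem e := he
  have k4 : e * r₀ = e := by
    refine sub_eq_zero.1 (h.inj _ ?_)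
    have := pow_lin h.aa (e * r₀) (e * r₁) (2 * n)
    rw [← k1, smul_pow, hn, hn', ie.pow_succ_eq, pow_succ, pow_mul, k3] at this
    have k5 : e ^ n * (e * r₀) = e * r₀ := by rw [← mul_assoc, ← pow_succ, ie.pow_succ_eq]
    rw [k5] at this
    rw [sub_smul, this]
    simp
  calc _ = e • S a b r₀ r₁ r₂ r₃ - e • (1 : R) + (1 - e) • (S a b r₀ r₁ r₂ r₃ - 1) := by module
    _ = _ := by rw [h0, k1, k4]; module

theorem w_sq (j : A) : ((1 + a) * (1 + j • b)) ^ 2 = (2 + j * γ) • ((1 + a) * (1 + j • b)) - 1 := by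
  simp only [sq, mul_add, add_mul, mul_sub, smul_mul_assoc, mul_smul_comm, mul_assoc, h.aa, h.bb, h.ba,
    h.aa', h.ba', mul_one, one_mul, smul_zero, mul_zero]
  module

theorem core₂ {j j' : A} (hj : j' * j = 1)
    (hc : ((1 + a) * (1 + j • b)) ^ 2 * a = a * ((1 + a) * (1 + j • b)) ^ 2) : (2 + j * γ) * γ * γ = 0 := by
  refine h.zero_of ?_
  have h1 := congrArg (fun x => j' • (a * x)) (sub_eq_zero.2 hc)
  simp only [h.w_sq] at h1
  simp only [mul_add, add_mul, mul_sub, sub_mul, smul_mul_assoc, mul_smul_comm, mul_assoc, h.aa, h.ba,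
    h.aa', mul_one, one_mul, smul_zero, mul_zero] at h1
  rw [← h1, ← one_smul A (((2 + j * γ) * γ) • a), ← hj]
  module

theorem core₃ {j g : A} (hg : (2 + j * γ) * g = 2 + j * γ) (ga : g • a = 0) (gb : g • b = 0) :
    a * (((1 + a) * (1 + j • b)) ^ 2 + 1) = 0 ∧ ((1 + a) * (1 + j • b)) ^ 2 - 1 = a * j • b + j • b * a := by
  have h1 : g • ((1 + a) * (1 + j • b)) = g • (1 : R) := by
    have : g • ((1 + a) * (1 + j • b)) = g • (1 : R) + g • a * (1 + j • b) + j • g • b := by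
      simp only [mul_add, add_mul, smul_mul_assoc, mul_smul_comm, mul_one, one_mul]
      module
    rw [this, ga, gb, zero_mul, smul_zero, add_zero, add_zero]
  have h2 : ((1 + a) * (1 + j • b)) ^ 2 = (2 + j * γ) • (1 : R) - 1 := by
    rw [h.w_sq, ← hg, mul_smul, h1, ← mul_smul]
  rw [h2]
  constructor
  · rw [sub_add_cancel, mul_smul_comm, mul_one, ← hg, mul_smul, ga, smul_zero]
  · simp only [smul_mul_assoc, mul_smul_comm, h.ba]
    module

variable {E G : Type*} [Ring E] [Group G] {ι : R →+* E} {ρ : G →* E} {z z' : G}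

omit h in
theorem inv_eq {x : G} {c : R} (hc : c * c = 0) (hx : ρ x = ι (1 + c)) : ρ x⁻¹ = ι (1 - c) := by
  have : ι (1 + c) * ι (1 - c) = 1 := by
    rw [← map_mul, show (1 + c) * (1 - c) = 1 - c * c by noncomm_ring, hc, sub_zero, map_one]
  rw [← mul_one (ρ x⁻¹), ← this, ← hx, ← mul_assoc, ← map_mul, inv_mul_cancel, map_one, one_mul]

theorem shape (hz : ρ z = ι (1 + a)) (hz' : ρ z' = ι (1 + b)) {d : G} (hd : d ∈ closure ({z, z'} : Set G)) :
    ∃ r r₁ r₂ r₃ : A, ρ d = ι (S a b (1 + γ * r) r₁ r₂ r₃) ∧ ρ d⁻¹ = ι (S' a b (1 + γ * r) r₁ r₂ r₃) := by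
  have iz := inv_eq h.aa hz
  have iz' := inv_eq h.bb hz'
  induction hd using closure_induction_left with
  | one => exact ⟨0, 0, 0, 0, by simp [S], by simp [S']⟩
  | mul_left x hx y _ ih =>
    obtain ⟨r, r₁, r₂, r₃, e, e'⟩ := ih
    rcases hx with rfl | rfl
    · exact ⟨_, _, _, _, by rw [map_mul, hz, e, ← map_mul, ← h.mulA 1, one_smul],
        by rw [mul_inv_rev, map_mul, iz, e', ← map_mul, ← h.mulA' 1, one_smul]⟩
    · exact ⟨_, _, _, _, by rw [map_mul, hz', e, ← map_mul, ← h.mulB 1, one_smul],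
        by rw [mul_inv_rev, map_mul, iz', e', ← map_mul, ← h.mulB' 1, one_smul]⟩
  | inv_mul_cancel x hx y _ ih =>
    obtain ⟨r, r₁, r₂, r₃, e, e'⟩ := ih
    rcases hx with rfl | rfl
    · exact ⟨_, _, _, _, by rw [map_mul, iz, e, ← map_mul, ← h.mulA (-1), neg_one_smul, sub_eq_add_neg],
        by rw [mul_inv_rev, inv_inv, map_mul, hz, e', ← map_mul, ← h.mulA' (-1), neg_one_smul, sub_neg_eq_add]⟩
    · exact ⟨_, _, _, _, by rw [map_mul, iz', e, ← map_mul, ← h.mulB (-1), neg_one_smul, sub_eq_add_neg],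
        by rw [mul_inv_rev, inv_inv, map_mul, hz', e', ← map_mul, ← h.mulB' (-1), neg_one_smul, sub_neg_eq_add]⟩

end QP

theorem exists_idem {M : Type*} [Monoid M] [Finite M] (x : M) : ∃ L, x ^ (4 + L) * x ^ (4 + L) = x ^ (4 + L) := by
  obtain ⟨i, j, hne, e⟩ := Finite.exists_ne_map_eq_of_infinite fun n : ℕ => x ^ n
  wlog hij : i < j generalizing i j
  · exact this j i hne.symm e.symm (by omega)
  obtain ⟨m, rfl⟩ := Nat.exists_eq_add_of_lt hij
  have key : ∀ k n, x ^ (n + i + k * (m + 1)) = x ^ (n + i) := fun k n => by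
    induction k with
    | zero => simp
    | succ k ih =>
      rw [show n + i + (k + 1) * (m + 1) = n + k * (m + 1) + (i + m + 1) by ring, pow_add, ← e, ← pow_add, ← ih]
      congr 1; ring
  refine ⟨i + (i + 4) * m, ?_⟩
  rw [← pow_add, show 4 + (i + (i + 4) * m) + (4 + (i + (i + 4) * m)) = 4 + (i + 4) * m + i + (i + 4) * (m + 1) by ring,
    key]
  congr 1; ring

theorem exists_inv_cast {p : ℕ} [Fact p.Prime] (hp : (p : A) = 0) {n : ℕ} (hn : (n : ZMod p) ≠ 0) :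
    ∃ k : A, k * n = 1 := by
  let φ := ZMod.castHom (ringChar.dvd hp) A
  exact ⟨φ (n : ZMod p)⁻¹, by rw [← map_natCast φ, ← map_mul, inv_mul_cancel₀ hn, map_one]⟩

end abs

variable {p : ℕ} [Fact p.Prime] {G : Type*} [Group G] {V : Type*} [AddCommGroup V]
  [Module (ZMod p) V] {ρ : Representation (ZMod p) G V} {z z' : G}

variable (ρ z z') in
/-- The centraliser of `c`. -/
abbrev RR : Subring (Module.End (ZMod p) V) := Subring.centralizer {qc ρ z z'}

theorem mem_RR {x : Module.End (ZMod p) V} : x ∈ RR ρ z z' ↔ qc ρ z z' * x = x * qc ρ z z' := by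
  simp [Subring.mem_centralizer_iff]

variable (z') in
/-- The element `a`. -/
def ea (ha : (ρ z - 1) * (ρ z - 1) = 0) : RR ρ z z' := ⟨ρ z - 1, mem_RR.2 (by
  rw [qc]
  generalize ρ z - 1 = a at ha ⊢
  rw [add_mul, mul_add, mul_assoc _ a a, ← mul_assoc a a, ha, mul_zero, zero_mul, add_zero, zero_add, mul_assoc])⟩

variable (z) in
/-- The element `b`. -/
def eb (hb : (ρ z' - 1) * (ρ z' - 1) = 0) : RR ρ z z' := ⟨ρ z' - 1, mem_RR.2 (by
  rw [qc]
  generalize ρ z' - 1 = b at hb ⊢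
  rw [add_mul, mul_add, mul_assoc _ b b, ← mul_assoc b b, hb, mul_zero, zero_mul, add_zero, zero_add, mul_assoc])⟩

variable (ρ z z') in
/-- The central element `c`. -/
def eγ : Subring.center (RR ρ z z') :=
  ⟨⟨qc ρ z z', mem_RR.2 rfl⟩, Subring.mem_center_iff.2 fun x => Subtype.ext (mem_RR.1 x.2).symm⟩

theorem val_smul (x : Subring.center (RR ρ z z')) (y : RR ρ z z') : (x • y).1 = x.1.1 * y.1 := rfl

theorem val_smul' (x : Subring.center (RR ρ z z')) (y : RR ρ z z') : (x • y).1 = y.1 * x.1.1 :=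
  congrArg Subtype.val (Subring.mem_center_iff.1 x.2 y).symm

theorem val_pow (n : ℕ) : (eγ ρ z z' ^ n).1.1 = qc ρ z z' ^ n := rfl

theorem p_End : (p : Module.End (ZMod p) V) = 0 := by
  rw [← map_natCast (algebraMap (ZMod p) (Module.End (ZMod p) V)), ZMod.natCast_self, map_zero]

theorem p_eq : (p : Subring.center (RR ρ z z')) = 0 := Subtype.ext (Subtype.ext p_End)

theorem qp (ha : (ρ z - 1) * (ρ z - 1) = 0) (hb : (ρ z' - 1) * (ρ z' - 1) = 0) :
    QP (ea z' ha) (eb z hb) (eγ ρ z z') where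
  aa := Subtype.ext ha
  bb := Subtype.ext hb
  ba := Subtype.ext (by
    change (ρ z' - 1) * (ρ z - 1) = qc ρ z z' * 1 - (ρ z - 1) * (ρ z' - 1)
    rw [qc, mul_one, add_sub_cancel_left])
  inj x hx := Subtype.ext ((mul_one x.1).symm.trans hx)

theorem rz (ha : (ρ z - 1) * (ρ z - 1) = 0) : ρ z = (RR ρ z z').subtype (1 + ea z' ha) :=
  (add_sub_cancel 1 (ρ z)).symm

theorem rz' (hb : (ρ z' - 1) * (ρ z' - 1) = 0) : ρ z' = (RR ρ z z').subtype (1 + eb z hb) :=
  (add_sub_cancel 1 (ρ z')).symm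

end QA

open QA

variable {p : ℕ} [Fact p.Prime] {G : Type*} [Group G] {V : Type*} [AddCommGroup V]
  [Module (ZMod p) V]
  [Finite G] [Finite V] {ρ : Representation (ZMod p) G V} {z z' : G}

theorem qc_comm : qc ρ z z' = qc ρ z' z := add_comm _ _

theorem commute_qc (ha : (ρ z - 1) * (ρ z - 1) = 0) (hb : (ρ z' - 1) * (ρ z' - 1) = 0) {d : G}
    (hd : d ∈ closure ({z, z'} : Set G)) : Commute (ρ d) (qc ρ z z') := by
  obtain ⟨r, r₁, r₂, r₃, e, -⟩ := (qp ha hb).shape (rz ha) (rz' hb) hd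
  rw [e]
  exact (mem_RR.1 (Subtype.property _)).symm

/-- `⟨z, z'⟩` acts on the nil part of `c` as a `p`-group -/
theorem pow_fix (ha : (ρ z - 1) * (ρ z - 1) = 0) (hb : (ρ z' - 1) * (ρ z' - 1) = 0) (N : ℕ) :
    ∃ j : ℕ, ∀ d ∈ closure ({z, z'} : Set G), ∀ v, (qc ρ z z' ^ N) v = 0 → ρ (d ^ p ^ j) v = v := by
  refine ⟨2 * N, fun d hd v hv => ?_⟩
  have pp : p.Prime := Fact.out
  obtain ⟨r, r₁, r₂, r₃, e, -⟩ := (qp ha hb).shape (rz ha) (rz' hb) hd
  have h1 := congrArg (fun x => (x ^ N).1) ((qp ha hb).sq_eq r r₁ r₂ r₃)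
  simp only [smul_pow, val_smul', val_pow, ← pow_mul] at h1
  have h2 : (ρ d - 1) ^ (2 * N) = _ := (by rw [e]; rfl : _ = _).trans h1
  obtain ⟨k, hk⟩ := Nat.exists_eq_add_of_le' (Nat.lt_pow_self (n := 2 * N) pp.one_lt).le
  obtain ⟨s, hs⟩ := (Commute.one_left (ρ d - 1)).exists_add_pow_prime_pow_eq pp (2 * N)
  rw [add_sub_cancel, p_End, zero_mul, zero_mul, zero_mul, add_zero, one_pow] at hs
  rw [map_pow, hs, hk, pow_add, h2]
  simp [hv]

/-- a `p`-element centralising `z` and the nil part of `c` is of the same type as `z` -/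
theorem range_le_of_commute (hp : p ≠ 2) (ha : (ρ z - 1) * (ρ z - 1) = 0)
    (hb : (ρ z' - 1) * (ρ z' - 1) = 0) {u : G} (hu : u ∈ closure ({z, z'} : Set G)) {j : ℕ}
    (hj : u ^ p ^ j = 1) (hc : Commute u z)
    (h0 : ∀ v, (qc ρ z z' ^ Module.finrank (ZMod p) V) v = 0 → ρ u v = v) :
    LinearMap.range (ρ u - 1) ≤ LinearMap.range (ρ z - 1) ∧
      LinearMap.ker (ρ z - 1) ≤ LinearMap.ker (ρ u - 1) := by
  have pp : p.Prime := Fact.out
  have : Finite (Module.End (ZMod p) V) := Finite.of_injective _ DFunLike.coe_injective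
  obtain ⟨r, r₁, r₂, r₃, e, e'⟩ := (qp ha hb).shape (rz ha) (rz' hb) hu
  obtain ⟨L, hL⟩ := exists_idem (eγ ρ z z')
  obtain ⟨n, hn⟩ : Odd (p ^ (j + 1)) := (pp.odd_of_ne_two hp).pow
  have key := (qp ha hb).core₁ (r₀ := 1 + eγ ρ z z' * r) (r₁ := r₁) (r₂ := r₂) (r₃ := r₃) (n := n)
    ((RR ρ z z').subtype_injective (by rw [map_mul, ← e, ← e', ← map_mul, mul_inv_cancel, map_one, map_one]))
    ((RR ρ z z').subtype_injective (by
      rw [map_mul, map_mul, ← e]
      change ρ u * (ρ z - 1) = (ρ z - 1) * ρ u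
      rw [mul_sub, sub_mul, ← map_mul, ← map_mul, hc.eq, mul_one, one_mul]))
    hL (pow_add _ _ _) (Subtype.ext ?_)
    ((RR ρ z z').subtype_injective (by rw [map_pow, ← e, ← hn, ← map_pow, pow_succ, pow_mul, hj, one_pow, map_one,
      map_one])) (by rw [← hn, pow_succ, Nat.cast_mul, p_eq, mul_zero])
  · have k0 : ρ u - 1 = _ := (by rw [e]; rfl : _ = _).trans (congrArg Subtype.val key)
    constructor
    · rw [k0, val_smul']
      rintro _ ⟨v, rfl⟩
      exact ⟨_, rfl⟩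
    · intro v hv
      rw [LinearMap.mem_ker] at hv ⊢
      rw [k0, val_smul, Module.End.mul_apply, show (ea z' ha).1 v = 0 from hv, map_zero]
  · rw [val_smul']
    refine LinearMap.ext fun v => ?_
    have h1 : (qc ρ z z' ^ (4 + L)) (v - (qc ρ z z' ^ (4 + L)) v) = 0 := by
      have h2 : qc ρ z z' ^ (4 + L) * qc ρ z z' ^ (4 + L) = qc ρ z z' ^ (4 + L) := congrArg (·.1.1) hL
      rw [map_sub, ← Module.End.mul_apply, h2, sub_self]
    have h3 := h0 _ (Module.End.ker_pow_le_ker_pow_finrank _ _ h1)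
    rw [e] at h3
    exact sub_eq_zero.2 h3

/-- the element `t = (z z' ^ j) ^ 2` -/
theorem t_of_commute (hp : p ≠ 2) (ha : (ρ z - 1) * (ρ z - 1) = 0)
    (hb : (ρ z' - 1) * (ρ z' - 1) = 0) {j : ℕ} (hj : (j : ZMod p) ≠ 0)
    (hc : Commute ((z * z' ^ j) ^ 2) z)
    (h0 : ∀ v, (qc ρ z z' ^ 2) v = 0 → ρ z v = v ∧ ρ z' v = v) :
    (∀ v, (ρ z - 1) (ρ ((z * z' ^ j) ^ 2) v + v) = 0) ∧
      ∀ v, (ρ z - 1) v = 0 → ρ ((z * z' ^ j) ^ 2) v - v ∈ LinearMap.range (ρ z - 1) := by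
  have pp : p.Prime := Fact.out
  have h := qp ha hb
  obtain ⟨j', hj'⟩ := exists_inv_cast (p_eq (ρ := ρ) (z := z) (z' := z')) hj
  obtain ⟨i, hi⟩ := exists_inv_cast (p_eq (ρ := ρ) (z := z) (z' := z')) (n := 2) fun e =>
    hp ((Nat.prime_dvd_prime_iff_eq pp Nat.prime_two).1 ((ZMod.natCast_eq_zero_iff 2 p).1 e))
  have e1 : (1 + eb z hb) ^ j = 1 + (j : Subring.center (RR ρ z z')) • eb z hb := by
    cases j with
    | zero => simp
    | succ j => simpa using pow_lin (A := Subring.center (RR ρ z z')) h.bb 1 1 j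
  have e : ρ ((z * z' ^ j) ^ 2) =
      (RR ρ z z').subtype (((1 + ea z' ha) * (1 + (j : Subring.center (RR ρ z z')) • eb z hb)) ^ 2) := by
    rw [← e1, map_pow, map_mul, map_pow, map_pow, map_mul, map_pow, ← rz, ← rz']
  have k1 := h.core₂ hj' ((RR ρ z z').subtype_injective (by
    rw [map_mul, map_mul, ← e]
    change ρ _ * (ρ z - 1) = (ρ z - 1) * ρ _
    rw [mul_sub, sub_mul, ← map_mul, ← map_mul, hc.eq, mul_one, one_mul]))
  obtain ⟨g, hg, hg'⟩ : ∃ g, (2 + j * eγ ρ z z') * g = 2 + j * eγ ρ z z' ∧ eγ ρ z z' ^ 2 * g = 0 := by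
    push_cast at hi
    generalize eγ ρ z z' = γ at k1 ⊢
    refine ⟨i ^ 2 * (2 + j * γ) * (2 - j * γ), ?_, ?_⟩
    · linear_combination (2 + j * γ) * (i * 2 + 1) * hi - i ^ 2 * j ^ 2 * k1
    · linear_combination i ^ 2 * (2 - j * γ) * k1
  have k2 : ∀ v, (qc ρ z z' ^ 2) (g.1.1 v) = 0 := fun v => congrArg (fun x => x.1.1 v) hg'
  obtain ⟨k3, k4⟩ := h.core₃ hg
    (Subtype.ext (by rw [val_smul']; exact LinearMap.ext fun v => sub_eq_zero.2 (h0 _ (k2 v)).1))
    (Subtype.ext (by rw [val_smul']; exact LinearMap.ext fun v => sub_eq_zero.2 (h0 _ (k2 v)).2))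
  rw [e]
  refine ⟨fun v => congrArg (fun x => x.1 v) k3, fun v hv => ?_⟩
  have k5 := congrArg (fun x => x.1 v) k4
  refine ⟨((j : Subring.center (RR ρ z z')) • eb z hb).1 v, ?_⟩
  refine Eq.trans ?_ k5.symm
  change _ = (ρ z - 1) _ + ((j : Subring.center (RR ρ z z')) • eb z hb).1 ((ρ z - 1) v)
  rw [hv, map_zero, add_zero]

end Cfsg.Agent.MxE
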