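import Mathlib
import Cfsg.Agent.MxE.QA
import Cfsg.Agent.GT.PStable
import Cfsg.Agent.GT.PGroupChain
import Cfsg.Agent.S0801

/-! The central involution of a quadratic pair. -/

set_option autoImplicit false

namespace Cfsg.Agent.MxE

open Subgroup Cfsg.Agent.GT

variable {p : ℕ} [Fact p.Prime] {G : Type*} [Group G] {V : Type*} [AddCommGroup V]
  [Module (ZMod p) V]
  [Finite G] [Finite V]

namespace QB

/-- the Weyl element -/
def wS (K : Type*) [CommRing K] : Matrix.SpecialLinearGroup (Fin 2) K :=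
  ⟨!![0, 1; -1, 0], by simp [Matrix.det_fin_two]⟩

theorem coe_wS {K : Type*} [CommRing K] :
    ((wS K : Matrix.SpecialLinearGroup (Fin 2) K) : Matrix (Fin 2) (Fin 2) K) = !![0, 1; -1, 0] :=
  rfl

theorem wS_mul_slLo {K : Type*} [CommRing K] (t : K) : wS K * slLo t = slUp (-t) * wS K := by
  ext i j; fin_cases i <;> fin_cases j <;> simp [coe_wS]

theorem wS_mul_slUp {K : Type*} [CommRing K] (t : K) : wS K * slUp t = slLo (-t) * wS K := by
  ext i j; fin_cases i <;> fin_cases j <;> simp [coe_wS]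

theorem slLo_one_mem (hp : 5 ≤ p) {K : Type} [Field K] [Fintype K] [CharP K p] {l : K}
    (hl : l ≠ 0) {L : Subgroup (Matrix.SpecialLinearGroup (Fin 2) K)}
    (h1 : slUp (1 : K) ∈ L) (h2 : slLo l ∈ L) : slLo (1 : K) ∈ L := by
  have hpp : p.Prime := Fact.out
  let K₀ := Subfield.closure ({l} : Set K)
  haveI : Fintype K₀ := Fintype.ofFinite _
  let lam : K₀ := ⟨l, Subfield.subset_closure rfl⟩
  have hgen : Subfield.closure ({lam} : Set K₀) = ⊤ := by
    refine eq_top_iff.2 fun x _ => ?_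
    have hx : (x : K) ∈ (Subfield.closure ({lam} : Set K₀)).map K₀.subtype := by
      rw [RingHom.map_field_closure, Set.image_singleton]
      exact x.2
    obtain ⟨y, hy, hyx⟩ := hx
    exact (Subtype.ext hyx : y = x) ▸ hy
  have h2' : (2 : K₀) ≠ 0 := by
    intro h
    have : p ∣ 2 := (CharP.cast_eq_zero_iff K₀ p 2).1 (by exact_mod_cast h)
    have := Nat.le_of_dvd two_pos this
    omega
  have hlam : lam ≠ 0 := fun h => hl (congrArg Subtype.val h)
  let ψ : Matrix.SpecialLinearGroup (Fin 2) K₀ →* Matrix.SpecialLinearGroup (Fin 2) K :=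
    (MulAut.conj (wS K)).toMonoidHom.comp (Matrix.SpecialLinearGroup.map K₀.subtype)
  have hUp : ∀ t : K₀, ψ (slUp t) = slLo (-(t : K)) := fun t => by
    change wS K * Matrix.SpecialLinearGroup.map K₀.subtype (slUp t) * (wS K)⁻¹ = _
    rw [map_slUp, wS_mul_slUp, mul_inv_cancel_right]; rfl
  have hLo : ∀ t : K₀, ψ (slLo t) = slUp (-(t : K)) := fun t => by
    change wS K * Matrix.SpecialLinearGroup.map K₀.subtype (slLo t) * (wS K)⁻¹ = _
    rw [map_slLo, wS_mul_slLo, mul_inv_cancel_right]; rfl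
  rcases S0801.result h2' lam hlam hgen with ⟨h, -⟩ | ⟨h, -⟩
  · have hle : (⊤ : Subgroup (Matrix.SpecialLinearGroup (Fin 2) K₀)) ≤ L.comap ψ := by
      rw [← h, closure_le]
      rintro g (hg | hg)
      · have e : g = slLo 1 := Subtype.ext hg
        rw [SetLike.mem_coe, mem_comap, e, hLo, slUp_neg]
        exact L.inv_mem h1
      · have e : g = slUp lam := Subtype.ext hg
        rw [SetLike.mem_coe, mem_comap, e, hUp, slLo_neg]
        exact L.inv_mem h2
    have := hle (mem_top (slUp 1))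
    rw [mem_comap, hUp, slLo_neg] at this
    exact (inv_mem_iff (H := L)).1 this
  · exfalso
    obtain ⟨n, -, hn⟩ := FiniteField.card K₀ p
    have h3 : p ∣ 3 ^ 2 := by
      rw [show (3 : ℕ) ^ 2 = 9 from rfl, ← h, hn]
      exact dvd_pow_self p n.ne_zero
    have := Nat.le_of_dvd (by norm_num) (hpp.dvd_of_dvd_pow h3)
    omega

end QB

/-- Dickson: if `l` is not in the prime field, `p ^ 2` divides `|⟨slUp 1, slLo l⟩|`. -/
theorem sq_dvd_card_of_notMem (hp : 5 ≤ p) {K : Type} [Field K] [Fintype K] [CharP K p] {l : K}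
    (hl : ∀ j : ℕ, (j : K) ≠ l) {L : Subgroup (Matrix.SpecialLinearGroup (Fin 2) K)}
    (h1 : slUp (1 : K) ∈ L) (h2 : slLo l ∈ L) : p ^ 2 ∣ Nat.card L := by
  have hl0 : l ≠ 0 := fun h => hl 0 (by rw [h, Nat.cast_zero])
  have h3 := QB.slLo_one_mem hp hl0 h1 h2
  let c : ZMod p →+* K := ZMod.castHom (dvd_refl p) K
  have hc : ∀ i : ZMod p, c i = (i.val : K) := fun i => by
    conv_lhs => rw [← ZMod.natCast_zmod_val i]
    rw [map_natCast]
  have hmem : ∀ x : ZMod p × ZMod p, slLo (c x.1 + c x.2 * l) ∈ L := fun x => by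
    rw [slLo_add, hc, hc, ← slLo_pow, ← mul_one (x.1.val : K), ← slLo_pow]
    exact L.mul_mem (L.pow_mem h3 _) (L.pow_mem h2 _)
  let f : Multiplicative (ZMod p × ZMod p) →* L :=
    { toFun := fun x => ⟨slLo (c x.toAdd.1 + c x.toAdd.2 * l), hmem _⟩
      map_one' := Subtype.ext (by simp)
      map_mul' := fun x y => Subtype.ext (by
        simp only [toAdd_mul, Prod.fst_add, Prod.snd_add, map_add, coe_mul, ← slLo_add]
        congr 1; ring) }
  have hf : Function.Injective f := by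
    rw [injective_iff_map_eq_one]
    intro x hx
    have h0 : c x.toAdd.1 + c x.toAdd.2 * l = 0 := slLo_eq_one_iff.1 (congrArg Subtype.val hx)
    have hx2 : x.toAdd.2 = 0 := by
      by_contra hne
      apply hl (-x.toAdd.1 * x.toAdd.2⁻¹).val
      have hc2 : c x.toAdd.2 ≠ 0 := (map_ne_zero c).2 hne
      rw [← hc, map_mul, map_neg, map_inv₀]
      field_simp
      linear_combination -h0
    rw [hx2, map_zero, zero_mul, add_zero, map_eq_zero] at h0
    exact toAdd_eq_zero.1 (Prod.ext h0 hx2)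
  have := card_dvd_of_injective f hf
  rwa [Nat.card_congr Multiplicative.toAdd, Nat.card_prod, Nat.card_zmod, ← sq] at this

namespace QB

variable {H : Type*} [Group H] [Finite H]

theorem mem_zpowers_of_ne_one {a u : H} (ha : a ^ p = 1) (hu : u ∈ zpowers a) (hu1 : u ≠ 1) :
    a ∈ zpowers u := by
  have hpp : p.Prime := Fact.out
  obtain ⟨k, rfl⟩ := mem_powers_iff_mem_zpowers.2 hu
  rw [mem_zpowers_pow_iff]
  have ho : orderOf a = p := orderOf_eq_prime ha (by rintro rfl; exact hu1 (one_pow k))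
  rw [ho]
  refine ((Nat.coprime_or_dvd_of_prime hpp k).resolve_right fun h => hu1 ?_).symm
  exact orderOf_dvd_iff_pow_eq_one.1 (ho ▸ h)

/-- a nontrivial intersection of a `p`-subgroup with a normal subgroup has a central element -/
theorem exists_central {U W : Subgroup H} [W.Normal] (hU : IsPGroup p U) {x : H} (hxU : x ∈ U)
    (hxW : x ∈ W) (hx : x ≠ 1) : ∃ u ∈ U, u ∈ W ∧ u ≠ 1 ∧ u ^ p = 1 ∧ ∀ y ∈ U, Commute u y := by
  obtain ⟨z, hz, hzc, hz1, hzp⟩ := PG.exists_mem_center_of_normal hU (W.subgroupOf U) (by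
    intro h
    have : (⟨x, hxU⟩ : U) ∈ W.subgroupOf U := hxW
    rw [h, mem_bot] at this
    exact hx (congrArg Subtype.val this))
  refine ⟨z, z.2, hz, fun h => hz1 (Subtype.ext h), congrArg Subtype.val hzp, fun y hy => ?_⟩
  exact (congrArg Subtype.val (mem_center_iff.1 hzc ⟨y, hy⟩)).symm

/-- a normal subgroup in which a `p`-element centralises no element of order `p` is a
`p'`-group -/
theorem not_dvd_card {W : Subgroup H} [hW : W.Normal] {a : H} (ha : a ^ p = 1)
    (h : ∀ u ∈ W, u ^ p = 1 → Commute u a → u = 1) : ¬ p ∣ Nat.card W := by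
  intro hd
  obtain ⟨x, hx⟩ := exists_prime_orderOf_dvd_card' p hd
  have hx1 : (x : H) ≠ 1 := by
    intro h1
    rw [Subtype.ext h1 (a1 := x) (a2 := 1), orderOf_one] at hx
    exact (Fact.out : p.Prime).one_lt.ne hx
  have hxp : (x : H) ^ p = 1 := by
    rw [← hx]; exact congrArg Subtype.val (pow_orderOf_eq_one x)
  obtain ⟨P, hP⟩ := (IsElementaryAbelian.zpowers ha).isPGroup.exists_le_sylow
  obtain ⟨Q, hQ⟩ := (IsElementaryAbelian.zpowers hxp).isPGroup.exists_le_sylow
  obtain ⟨g, rfl⟩ := MulAction.exists_smul_eq H Q P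
  have hm : g * x * g⁻¹ ∈ ((g • Q : Sylow p H) : Subgroup H) :=
    ⟨x, hQ (mem_zpowers _), rfl⟩
  obtain ⟨u, -, huW, hu1, hup, hc⟩ := exists_central (g • Q).2 hm (hW.conj_mem _ x.2 g)
    (by simpa [mul_inv_eq_one] using hx1)
  exact hu1 (h u huW hup (hc a (hP (mem_zpowers a))))

omit [Finite H] [Finite V] in
theorem pow_p_eq_one (ρ : Representation (ZMod p) H V) (hρ : Function.Injective ρ) {a : H}
    (ha : (ρ a - 1) * (ρ a - 1) = 0) : a ^ p = 1 := by
  have key : ∀ n : ℕ, ρ a ^ n = 1 + (n : ZMod p) • (ρ a - 1) := by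
    intro n
    induction n with
    | zero => simp
    | succ n ih =>
      have e : ρ a = 1 + (ρ a - 1) := by abel
      rw [pow_succ, ih]
      conv_lhs => rw [e]
      simp only [add_sub_cancel_left, mul_add, add_mul, mul_one, one_mul, smul_mul_assoc, ha,
        smul_zero, add_zero, Nat.cast_add, Nat.cast_one, add_smul, one_smul]
      abel
  apply hρ
  rw [map_pow, key, ZMod.natCast_self, zero_smul, add_zero, map_one]

/-- the hypothesis of `quad_t` on `a` -/
def Fc (ρ : Representation (ZMod p) H V) (a : H) : Prop :=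
  ∀ u : H, (∃ j : ℕ, u ^ p ^ j = 1) → Commute u a →
    LinearMap.range (ρ u - 1) ≤ LinearMap.range (ρ a - 1) →
    LinearMap.ker (ρ a - 1) ≤ LinearMap.ker (ρ u - 1) → u ∈ zpowers a

/-- step (1): `a` acts trivially on the nil part of `c` -/
theorem fix_nil (hp : 5 ≤ p) (ρ : Representation (ZMod p) H V) (hρ : Function.Injective ρ)
    {a b : H} (hgen : closure {a, b} = ⊤) (ha : (ρ a - 1) * (ρ a - 1) = 0)
    (hb : (ρ b - 1) * (ρ b - 1) = 0) (hF : Fc ρ a) (hH : ¬ IsPGroup p H) (v : V)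
    (hv : (qc ρ a b ^ Module.finrank (ZMod p) V) v = 0) : ρ a v = v := by
  have hp2 : p ≠ 2 := by omega
  have hm : ∀ d : H, d ∈ closure ({a, b} : Set H) := fun d => hgen ▸ mem_top d
  let D₀ : Subgroup H :=
    { carrier := {d | ∀ v, (qc ρ a b ^ Module.finrank (ZMod p) V) v = 0 → ρ d v = v}
      one_mem' := fun v _ => by simp
      mul_mem' := fun {x y} hx hy v hv => by
        rw [map_mul, Module.End.mul_apply, hy v hv, hx v hv]
      inv_mem' := fun {x} hx v hv => by
        conv_lhs => rw [← hx v hv]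
        rw [← Module.End.mul_apply, ← map_mul, inv_mul_cancel, map_one, Module.End.one_apply] }
  haveI : D₀.Normal := ⟨fun d hd g v hv => by
    have h1 : (qc ρ a b ^ Module.finrank (ZMod p) V) (ρ g⁻¹ v) = 0 := by
      rw [← Module.End.mul_apply, ← ((commute_qc ha hb (hm g⁻¹)).pow_right _).eq,
        Module.End.mul_apply, hv, map_zero]
    rw [map_mul, map_mul, Module.End.mul_apply, Module.End.mul_apply, hd _ h1,
      ← Module.End.mul_apply, ← map_mul, mul_inv_cancel, map_one, Module.End.one_apply]⟩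
  suffices h : a ∈ D₀ from h v hv
  by_contra haD
  have hap := pow_p_eq_one ρ hρ ha
  have h1 : ¬ p ∣ Nat.card D₀ := by
    refine not_dvd_card hap fun u hu hup hc => ?_
    by_contra hu1
    have hj : u ^ p ^ 1 = 1 := by rw [pow_one, hup]
    obtain ⟨r1, r2⟩ := range_le_of_commute hp2 ha hb (hm u) hj hc hu
    exact haD ((zpowers_le.2 hu) (mem_zpowers_of_ne_one hap (hF u ⟨1, hj⟩ hc r1 r2) hu1))
  have h2 : IsPGroup p (H ⧸ D₀) := by
    obtain ⟨j, hj⟩ := pow_fix ha hb (Module.finrank (ZMod p) V)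
    intro x
    obtain ⟨d, rfl⟩ := QuotientGroup.mk_surjective x
    exact ⟨j, by rw [← QuotientGroup.mk_pow, QuotientGroup.eq_one_iff]; exact hj d (hm d)⟩
  refine not_involves_sl2_of_isPSolvable hp
    (IsPSolvable.extension D₀ (isPSolvable_of_not_dvd h1) (isPSolvable_of_isPGroup h2))
    (involves_sl2_of_quadratic_gens hp2 ρ hgen ha hb fun h => hH fun g => (h g).imp fun k hk => ?_)
  rw [← map_pow] at hk
  exact hρ (hk.trans (map_one ρ).symm)

theorem sq_slUp_slLo {K : Type*} [CommRing K] :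
    (slUp (1 : K) * slLo (-2)) ^ 2 * slUp 1 = slUp 1 * (slUp (1 : K) * slLo (-2)) ^ 2 := by
  ext i j
  fin_cases i <;> fin_cases j <;> simp [sq, Matrix.mul_apply, Fin.sum_univ_two] <;> ring

theorem core (hp : 5 ≤ p) (ρ : Representation (ZMod p) H V) (hρ : Function.Injective ρ)
    {a b : H} (hgen : closure {a, b} = ⊤) (ha : (ρ a - 1) * (ρ a - 1) = 0)
    (hb : (ρ b - 1) * (ρ b - 1) = 0) (hFa : Fc ρ a) (hFb : Fc ρ b) (hH : ¬ IsPGroup p H) :
    ∃ t, Commute t a ∧ (∀ v, (ρ a - 1) (ρ t v + v) = 0) ∧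
      ∀ v, (ρ a - 1) v = 0 → ρ t v - v ∈ LinearMap.range (ρ a - 1) := by
  have hpp : p.Prime := Fact.out
  have hp2 : p ≠ 2 := by omega
  have hm : ∀ d : H, d ∈ closure ({a, b} : Set H) := fun d => hgen ▸ mem_top d
  have hap := pow_p_eq_one ρ hρ ha
  have fa := fix_nil hp ρ hρ hgen ha hb hFa hH
  have fb : ∀ v, (qc ρ a b ^ Module.finrank (ZMod p) V) v = 0 → ρ b v = v := fun v hv =>
    fix_nil hp ρ hρ (by rw [Set.pair_comm]; exact hgen) hb ha hFb hH v (by rw [qc_comm]; exact hv)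
  have fall : ∀ d : H, ∀ v, (qc ρ a b ^ Module.finrank (ZMod p) V) v = 0 → ρ d v = v := by
    intro d v hv
    induction hm d using closure_induction with
    | mem x hx =>
      rcases hx with rfl | rfl
      · exact fa v hv
      · exact fb v hv
    | one => simp
    | mul x y _ _ hx hy => rw [map_mul, Module.End.mul_apply, hy, hx]
    | inv x _ hx =>
      conv_lhs => rw [← hx]
      rw [← Module.End.mul_apply, ← map_mul, inv_mul_cancel, map_one, Module.End.one_apply]
  have hcent : ∀ u : H, ∀ j : ℕ, u ^ p ^ j = 1 → Commute u a → u ∈ zpowers a := by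
    intro u j hj hc
    obtain ⟨r1, r2⟩ := range_le_of_commute hp2 ha hb (hm u) hj hc (fall u)
    exact hFa u ⟨j, hj⟩ hc r1 r2
  have hnp : ¬ ∀ g, ∃ k : ℕ, ρ g ^ p ^ k = 1 := fun h => hH fun g => (h g).imp fun k hk => by
    rw [← map_pow] at hk
    exact hρ (hk.trans (map_one ρ).symm)
  obtain ⟨K, _, _, _, l, φ, hl, h1, h2, -⟩ := exists_sl2_hom_finiteField ρ hgen ha hb hnp
  have hφa : φ a ≠ 1 := by rw [h1, Ne, slUp_eq_one_iff]; exact one_ne_zero
  have ha1 : a ≠ 1 := by rintro rfl; exact hφa (map_one φ)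
  have hU : ∀ U : Subgroup H, IsPGroup p U → a ∈ U → U ≤ zpowers a := by
    intro U hU haU x hx
    obtain ⟨u, -, -, hu1, hup, hc⟩ := exists_central (W := ⊤) hU haU (mem_top a) ha1
    have hau : a ∈ zpowers u :=
      mem_zpowers_of_ne_one hap (hcent u 1 (by rw [pow_one, hup]) (hc a haU)) hu1
    obtain ⟨k, hk⟩ := hU ⟨x, hx⟩
    obtain ⟨n, hn⟩ := hau
    refine hcent x k (congrArg Subtype.val hk) ?_
    rw [← hn]
    exact ((hc x hx).zpow_left n).symm
  have hsq : ¬ p ^ 2 ∣ Nat.card H := by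
    intro hd
    obtain ⟨P, hP⟩ := (IsElementaryAbelian.zpowers hap).isPGroup.exists_le_sylow
    have e : (P : Subgroup H) = zpowers a := le_antisymm (hU _ P.2 (hP (mem_zpowers a))) hP
    have := P.pow_dvd_card_of_pow_dvd_card hd
    rw [e, Nat.card_zpowers, orderOf_eq_prime hap ha1] at this
    have := Nat.le_of_dvd hpp.pos this
    nlinarith
  obtain ⟨j₀, hj₀⟩ : ∃ j₀ : ℕ, (j₀ : K) = l := by
    by_contra hne
    refine hsq ((sq_dvd_card_of_notMem hp (fun j h => hne ⟨j, h⟩) (L := φ.range) ⟨a, h1⟩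
      ⟨b, h2⟩).trans ?_)
    exact card_dvd_of_surjective φ.rangeRestrict φ.rangeRestrict_surjective
  have hj0 : (j₀ : ZMod p) ≠ 0 := by
    rw [Ne, ZMod.natCast_eq_zero_iff, ← CharP.cast_eq_zero_iff K p, hj₀]
    exact hl
  have h20 : (2 : ZMod p) ≠ 0 := by
    intro h
    have : p ∣ 2 := (ZMod.natCast_eq_zero_iff 2 p).1 (by exact_mod_cast h)
    have := Nat.le_of_dvd two_pos this
    omega
  let j : ℕ := (-2 * (j₀ : ZMod p)⁻¹).val
  have hjz : (j : ZMod p) = -2 * (j₀ : ZMod p)⁻¹ := ZMod.natCast_zmod_val _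
  have hj : (j : ZMod p) ≠ 0 := by
    rw [hjz]; exact mul_ne_zero (neg_ne_zero.2 h20) (inv_ne_zero hj0)
  have hjl : (j : K) * l = -2 := by
    have e : (j : ZMod p) * (j₀ : ZMod p) = -2 := by rw [hjz]; field_simp
    have := congrArg (ZMod.castHom (dvd_refl p) K) e
    rwa [map_mul, map_natCast, map_natCast, hj₀, map_neg, map_ofNat] at this
  set κ := (a * b ^ j) ^ 2 with hκ
  have hφκ : φ κ * φ a = φ a * φ κ := by
    rw [hκ, map_pow, map_mul, map_pow, h1, h2, slLo_pow, hjl]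
    exact sq_slUp_slLo
  have hφ' : φ (κ * a * κ⁻¹ * a⁻¹) = 1 := by
    rw [map_mul, map_mul, map_mul, hφκ, map_inv, map_inv, mul_inv_cancel_right, mul_inv_cancel]
  have hker : ∀ u ∈ φ.ker, u ∈ zpowers a → u = 1 := by
    intro u hu hua
    by_contra hu1
    exact hφa ((zpowers_le.2 hu) (mem_zpowers_of_ne_one hap hua hu1))
  have hk : ¬ p ∣ Nat.card φ.ker := not_dvd_card hap fun u hu hup hc =>
    hker u hu (hcent u 1 (by rw [pow_one, hup]) hc)
  have hsol : IsPSolvable p (zpowers a ⊔ φ.ker : Subgroup H) :=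
    IsPSolvable.sup_of_le_normalizer
      (isPSolvable_of_isPGroup (IsElementaryAbelian.zpowers hap).isPGroup)
      (isPSolvable_of_not_dvd hk) (by rw [normalizer_eq_top]; exact le_top)
  have hle : closure ({a, κ * a * κ⁻¹} : Set H) ≤ zpowers a ⊔ φ.ker := by
    rw [closure_le]
    rintro x (rfl | rfl)
    · exact mem_sup_left (mem_zpowers _)
    · have e : κ * a * κ⁻¹ = (κ * a * κ⁻¹ * a⁻¹) * a := by group
      rw [e]
      exact mul_mem (mem_sup_right hφ') (mem_sup_left (mem_zpowers _))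
  have hpg : IsPGroup p (closure ({a, κ * a * κ⁻¹} : Set H)) := by
    by_contra hn
    exact not_involves_sl2_of_isPSolvable hp (hsol.of_le hle)
      (involves_sl2_closure_of_quadratic hp2 ρ hρ ha (quadratic_conj ρ ha κ) hn)
  have ha' : κ * a * κ⁻¹ ∈ zpowers a :=
    hU _ hpg (subset_closure (by simp)) (subset_closure (by simp))
  have hone := hker _ hφ' (mul_mem ha' (inv_mem (mem_zpowers a)))
  have hc : Commute κ a := by
    rw [mul_inv_eq_one, mul_inv_eq_iff_eq_mul] at hone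
    exact hone
  refine ⟨κ, hc, t_of_commute hp2 ha hb hj hc fun v hv => ?_⟩
  have hv' := Module.End.ker_pow_le_ker_pow_finrank (qc ρ a b) 2 hv
  exact ⟨fa v hv', fb v hv'⟩

omit [Finite H] [Finite V] in
theorem Fc.conj {ρ : Representation (ZMod p) H V} {a : H} (h : Fc ρ a) (g : H) :
    Fc ρ (g * a * g⁻¹) := by
  have h1 : ∀ v, ρ g (ρ g⁻¹ v) = v := fun v => by
    rw [← Module.End.mul_apply, ← map_mul, mul_inv_cancel, map_one, Module.End.one_apply]
  have h2 : ∀ v, ρ g⁻¹ (ρ g v) = v := fun v => by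
    rw [← Module.End.mul_apply, ← map_mul, inv_mul_cancel, map_one, Module.End.one_apply]
  have e1 : ∀ v, (ρ (g * a * g⁻¹) - 1) v = ρ g ((ρ a - 1) (ρ g⁻¹ v)) := fun v => by
    simp only [map_mul, LinearMap.sub_apply, Module.End.mul_apply, Module.End.one_apply, map_sub,
      h1]
  intro u ⟨j, hj⟩ hc r1 r2
  have e2 : ∀ v, (ρ (g⁻¹ * u * g) - 1) v = ρ g⁻¹ ((ρ u - 1) (ρ g v)) := fun v => by
    simp only [map_mul, LinearMap.sub_apply, Module.End.mul_apply, Module.End.one_apply, map_sub,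
      h2]
  have hu : g⁻¹ * u * g ∈ zpowers a := by
    refine h _ ⟨j, ?_⟩ ?_ ?_ ?_
    · have := conj_pow (a := g⁻¹) (b := u) (i := p ^ j)
      rw [inv_inv] at this
      rw [this, hj, mul_one, inv_mul_cancel]
    · have e := hc.eq
      change g⁻¹ * u * g * a = a * (g⁻¹ * u * g)
      calc g⁻¹ * u * g * a = g⁻¹ * (u * (g * a * g⁻¹)) * g := by group
        _ = _ := by rw [e]; group
    · rintro _ ⟨v, rfl⟩
      obtain ⟨w, hw⟩ := r1 ⟨ρ g v, rfl⟩
      exact ⟨ρ g⁻¹ w, by rw [e2, ← hw, e1, h2]⟩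
    · intro v hv
      have : ρ g v ∈ LinearMap.ker (ρ (g * a * g⁻¹) - 1) := by
        rw [LinearMap.mem_ker, e1, h2, LinearMap.mem_ker.1 hv, map_zero]
      rw [LinearMap.mem_ker, e2, LinearMap.mem_ker.1 (r2 this), map_zero]
  obtain ⟨n, hn⟩ := hu
  refine ⟨n, ?_⟩
  have hn' : a ^ n = g⁻¹ * u * g := hn
  change (g * a * g⁻¹) ^ n = u
  rw [conj_zpow, hn']
  group

omit [Finite H] [Finite V] in
theorem Fc.subgroup {ρ : Representation (ZMod p) H V} {D : Subgroup H} {a : D}
    (h : Fc ρ (a : H)) : Fc (V := V) (ρ.comp D.subtype) a := by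
  intro u ⟨j, hj⟩ hc r1 r2
  obtain ⟨n, hn⟩ := h u ⟨j, congrArg Subtype.val hj⟩ (hc.map D.subtype) r1 r2
  exact ⟨n, Subtype.ext hn⟩

end QB

theorem quad_t (hp : 5 ≤ p) (ρ : Representation (ZMod p) G V) (hρ : Function.Injective ρ)
    {z g : G} (hz : (ρ z - 1) * (ρ z - 1) = 0)
    (hF : ∀ u : G, (∃ j : ℕ, u ^ p ^ j = 1) → Commute u z →
      LinearMap.range (ρ u - 1) ≤ LinearMap.range (ρ z - 1) →
      LinearMap.ker (ρ z - 1) ≤ LinearMap.ker (ρ u - 1) → u ∈ zpowers z)
    (hD : ¬ IsPGroup p (closure ({z, g * z * g⁻¹} : Set G))) :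
    ∃ t, Commute t z ∧ (∀ v, (ρ z - 1) (ρ t v + v) = 0) ∧
      ∀ v, (ρ z - 1) v = 0 → ρ t v - v ∈ LinearMap.range (ρ z - 1) := by
  have hF' : QB.Fc ρ z := hF
  obtain ⟨t, h1, h2, h3⟩ := QB.core hp (ρ.comp (closure ({z, g * z * g⁻¹} : Set G)).subtype)
    (hρ.comp Subtype.val_injective) (closure_pair_subtype_eq_top z (g * z * g⁻¹)) hz
    (quadratic_conj ρ hz g) (QB.Fc.subgroup hF') (QB.Fc.subgroup (hF'.conj g)) hD
  exact ⟨t, h1.map (closure ({z, g * z * g⁻¹} : Set G)).subtype, h2, h3⟩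

end Cfsg.Agent.MxE
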