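import Mathlib
import Cfsg.Agent.MxE.Bas

/-! From the group data to the linear setting. -/

set_option autoImplicit false

namespace Cfsg.Agent.MxE

open Subgroup Cfsg.Agent.GT
open scoped commutatorElement

open FG Loc.H78.Lie

variable {p : ℕ} [Fact p.Prime] {H : Type*} [Group H] [Finite H] {S : Sylow p H} {E : Subgroup H}
  [E.Normal] {n i : ℕ} {s z : (S : Subgroup H)}

namespace RedA

omit [Finite H] in
theorem val_sub_one (hE : IsElementaryAbelian p E) (u : (S : Subgroup H)) {y : (S : Subgroup H)} {x : EAV hE}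
    (hx : (y : H) = x.val) :
    ((qRep hE ((u : H) : H ⧸ E) - 1) x).val = ((⁅u, y⁆ : (S : Subgroup H)) : H) := by
  rw [LinearMap.sub_apply, EAV.val_sub, val_qRep, Module.End.one_apply, ← hx, commutatorElement_def]
  simp

omit [Finite H] [E.Normal] in
theorem mem_W (hE : IsElementaryAbelian p E) {K : Subgroup (S : Subgroup H)} {x : EAV hE} :
    x ∈ EAV.sub hE (K.map (S : Subgroup H).subtype) ↔ ∃ y ∈ K, (y : H) = x.val := Iff.rfl

omit [Finite H] in
theorem sub_one_mem (hE : IsElementaryAbelian p E) {K : Subgroup (S : Subgroup H)} {u y : (S : Subgroup H)}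
    {x : EAV hE} (hx : (y : H) = x.val) :
    (qRep hE ((u : H) : H ⧸ E) - 1) x ∈ EAV.sub hE (K.map (S : Subgroup H).subtype) ↔ ⁅u, y⁆ ∈ K := by
  rw [EAV.mem_sub, val_sub_one hE u hx]
  generalize ⁅u, y⁆ = w
  exact mem_map_iff_mem (S : Subgroup H).subtype_injective

variable (h : RD S E n i s z)
include h

omit [Finite H] [E.Normal] in
theorem coe_mem {y : (S : Subgroup H)} : (y : H) ∈ E ↔ y ∈ γ (S : Subgroup H) i := by
  rw [h.eq]; exact mem_map_iff_mem (S : Subgroup H).subtype_injective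

omit [Finite H] [E.Normal] in
theorem exists_val (hE : IsElementaryAbelian p E) (x : EAV hE) : ∃ y ∈ γ (S : Subgroup H) i, (y : H) = x.val := by
  exact h.eq.le x.val_mem

omit [Finite H] [E.Normal] in
theorem one_le : 1 ≤ n := by have := h.i_lt; omega

theorem map_eq (hE : IsElementaryAbelian p E) (d : ℕ) : ∀ j, i ≤ j → n + 1 ≤ j + d →
    (EAV.sub hE ((γ (S : Subgroup H) j).map (S : Subgroup H).subtype)).map (qRep hE ((s : H) : H ⧸ E) - 1) =
      EAV.sub hE ((γ (S : Subgroup H) (j + 1)).map (S : Subgroup H).subtype) := by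
  have hle : ∀ j, (EAV.sub hE ((γ (S : Subgroup H) j).map (S : Subgroup H).subtype)).map
      (qRep hE ((s : H) : H ⧸ E) - 1) ≤ EAV.sub hE ((γ (S : Subgroup H) (j + 1)).map (S : Subgroup H).subtype) := by
    rintro j _ ⟨x, ⟨y, hy, e⟩, rfl⟩
    exact (sub_one_mem hE e).2 (MxC.comm_mem_γ_succ' hy s)
  have top : ∀ j, n + 1 ≤ j → EAV.sub hE ((γ (S : Subgroup H) (j + 1)).map (S : Subgroup H).subtype) ≤
      (EAV.sub hE ((γ (S : Subgroup H) j).map (S : Subgroup H).subtype)).map (qRep hE ((s : H) : H ⧸ E) - 1) := by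
    rintro j hj x ⟨y, hy, e⟩
    have : y ∈ γ (S : Subgroup H) (n + 2) := S3806.anti (by omega) hy
    rw [MxC.γ_eq_bot h.hn h.hc, mem_bot] at this
    have hx : x = 0 := EAV.val_eq_one_iff.1 (by rw [← e, this]; rfl)
    rw [hx]; exact zero_mem _
  induction d with
  | zero => exact fun j _ hj => le_antisymm (hle j) (top j hj)
  | succ d ih =>
    intro j hij hj
    refine le_antisymm (hle j) ?_
    by_cases hj' : n + 1 ≤ j
    · exact top j hj'
    have hi := h.i_pos
    obtain ⟨j, rfl⟩ : ∃ k, j = k + 1 := ⟨j - 1, by omega⟩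
    obtain ⟨y, hy, hy'⟩ := MxC.exists_mem_P h.hn h.hc (one_le h) (j := j + 1) (by omega)
    have h1 := MxC.comm_notMem h.hn h.hc (one_le h) (j := j + 1) (by omega) (h.unif 1 le_rfl (one_le h))
      (fun _ => h.unif _ (by omega) (by omega)) hy hy'
    have h2 : ⁅s, y⁆ ∉ γ (S : Subgroup H) (j + 1 + 1 + 1) := fun e => h1 (by
      rw [← commutatorElement_inv]; exact inv_mem e)
    have h3 := MxC.sup_eq_P h.hn h.hc (one_le h) (j := j + 1 + 1) (by omega) (x := ⁅s, y⁆)
      (MxC.comm_mem_γ_succ' hy s) h2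
    have h4 : γ (S : Subgroup H) (j + 1 + 1 + 1) ⊔ zpowers ⁅s, y⁆ ≤
        (EAV.grp ((EAV.sub hE ((γ (S : Subgroup H) (j + 1)).map (S : Subgroup H).subtype)).map
          (qRep hE ((s : H) : H ⧸ E) - 1))).comap (S : Subgroup H).subtype := by
      refine sup_le (fun w hw => ?_) (zpowers_le.2 ?_)
      · have hwE : (w : H) ∈ E := (coe_mem h).2 (S3806.anti (by omega) hw)
        have : EAV.mk hE w hwE ∈ EAV.sub hE ((γ (S : Subgroup H) (j + 1 + 1 + 1)).map (S : Subgroup H).subtype) :=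
          ⟨w, hw, rfl⟩
        rw [← ih (j + 1 + 1) (by omega) (by omega)] at this
        obtain ⟨x, ⟨v, hv, e⟩, e'⟩ := this
        exact EAV.mem_grp.2 ⟨_, ⟨x, ⟨v, γ_succ_le _ hv, e⟩, e'⟩, rfl⟩
      · have hyE : (y : H) ∈ E := (coe_mem h).2 (S3806.anti hij hy)
        exact EAV.mem_grp.2 ⟨_, ⟨EAV.mk hE y hyE, ⟨y, hy, rfl⟩, rfl⟩, val_sub_one hE s rfl⟩
    rintro x ⟨w, hw, e⟩
    rw [h3] at h4
    have := h4 hw
    rw [mem_comap, show (S : Subgroup H).subtype w = x.val from e] at this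
    exact EAV.val_mem_grp.1 this

omit [Finite H] in
theorem coe_eq_one {y : (S : Subgroup H)} : ((y : H) : H ⧸ E) = 1 ↔ y ∈ γ (S : Subgroup H) i :=
  (QuotientGroup.eq_one_iff _).trans (coe_mem h)

omit [Finite H] in
theorem commute_iff {u v : (S : Subgroup H)} :
    Commute ((u : H) : H ⧸ E) ((v : H) : H ⧸ E) ↔ ⁅u, v⁆ ∈ γ (S : Subgroup H) i := by
  rw [← coe_eq_one h, ← commutatorElement_eq_one_iff_commute, commutatorElement_def, commutatorElement_def]
  simp

omit [Finite H] in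
theorem inj (hE : IsElementaryAbelian p E) : Function.Injective (qRep hE) := by
  refine (injective_iff_map_eq_one _).2 fun g hg => ?_
  obtain ⟨g, rfl⟩ := QuotientGroup.mk_surjective g
  refine (QuotientGroup.eq_one_iff _).2 (h.cent (mem_centralizer_iff.2 fun y hy => ?_))
  have := congrArg EAV.val (LinearMap.congr_fun hg (EAV.mk hE y hy))
  rw [val_qRep] at this
  exact (mul_inv_eq_iff_eq_mul.1 this).symm

end RedA

open RedA

theorem RD.Vj_eq (h : RD S E n i s z) (hE : IsElementaryAbelian p E) (j : ℕ) :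
    Vj (qRep hE ((s : H) : H ⧸ E) - 1) j =
      EAV.sub hE ((γ (S : Subgroup H) (i + j)).map (S : Subgroup H).subtype) := by
  induction j with
  | zero =>
    rw [Vj_zero]
    exact (eq_top_iff.2 fun x _ => exists_val h hE x).symm
  | succ j ih =>
    rw [← map_Vj j 1, pow_one, ih]
    exact map_eq h hE (n + 1) (i + j) (by omega) (by omega)

theorem RD.range_le_iff (h : RD S E n i s z) (hE : IsElementaryAbelian p E)
    (u : (S : Subgroup H)) : LinearMap.range (qRep hE ((u : H) : H ⧸ E) - 1) ≤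
      Vj (qRep hE ((s : H) : H ⧸ E) - 1) 2 ↔ u ∈ MxC.C (S : Subgroup H) 1 := by
  rw [h.Vj_eq hE, ← MxC.C_eq h.hn h.hc h.i_pos h.i_lt, MxC.mem_C]
  constructor
  · intro hr y hy
    have := hr ⟨EAV.mk hE y ((coe_mem h).2 hy), rfl⟩
    rw [sub_one_mem hE (y := y) rfl] at this
    rw [← commutatorElement_inv]; exact inv_mem this
  · rintro hr _ ⟨x, rfl⟩
    obtain ⟨y, hy, e⟩ := exists_val h hE x
    rw [sub_one_mem hE e, ← commutatorElement_inv]
    exact inv_mem (hr y hy)

theorem RD.reg (h : RD S E n i s z) (hE : IsElementaryAbelian p E) :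
    Reg (qRep hE ((s : H) : H ⧸ E) - 1) (n + 2 - i) := by
  have hi := h.i_pos
  have hi' := h.i_lt
  have hp : p.Prime := Fact.out
  refine ⟨?_, ?_, ?_⟩
  · have h1 : Nat.card (EAV hE) = p ^ (n + 2 - i) := by
      rw [EAV.card_eq, ← MxC.card_γ h.hn h.hc h.i_pos (by omega), h.eq]
      exact card_map_of_injective (S : Subgroup H).subtype_injective
    rw [Module.natCard_eq_pow_finrank (K := ZMod p), Nat.card_zmod] at h1
    exact Nat.pow_right_injective hp.two_le h1
  · rw [← LinearMap.range_eq_bot]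
    have := h.Vj_eq hE (n + 2 - i)
    rw [show i + (n + 2 - i) = n + 2 by omega, MxC.γ_eq_bot h.hn h.hc, Subgroup.map_bot] at this
    exact this.trans ((EAV.sub_eq_bot_iff bot_le).2 rfl)
  · intro e
    have := h.Vj_eq hE (n + 2 - i - 1)
    rw [show i + (n + 2 - i - 1) = n + 1 by omega, Vj, e, LinearMap.range_zero] at this
    have h1 := (EAV.sub_eq_bot_iff (by rw [h.eq]; exact map_mono (S3806.anti (by omega)))).1 this.symm
    rw [map_eq_bot_iff_of_injective _ (S : Subgroup H).subtype_injective] at h1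
    have h2 := MxC.card_γ h.hn h.hc (j := n + 1) (by omega) (by omega)
    rw [h1, card_bot, show n + 2 - (n + 1) = 1 by omega, pow_one] at h2
    exact hp.one_lt.ne h2

theorem RD.m_lt (h : RD S E n i s z) (hE : IsElementaryAbelian p E) : n + 2 - i < p := by
  have hi := h.i_pos
  have hi' := h.i_lt
  by_contra hlt
  obtain ⟨x, hx, hx'⟩ := MxC.exists_mem_P h.hn h.hc (one_le h) (j := i) (by omega)
  refine MxC.pow_notMem h.hn h.hc (by omega) (by omega) hx hx' ?_
  have hxE : (x : H) ∈ E := (coe_mem h).2 (MxC.P_le_γ i hx)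
  have h1 : (p : ZMod p) • EAV.mk hE x hxE = 0 := by rw [ZMod.natCast_self, zero_smul]
  have h2 := congrArg EAV.val h1
  rw [EAV.val_natCast_smul, EAV.val_mk, EAV.val_zero] at h2
  have h3 : x ^ p = 1 := Subtype.ext h2
  rw [h3]; exact one_mem _

theorem RD.mem_P (h : RD S E n i s z) {u : (S : Subgroup H)} (hu : u ∈ MxC.C (S : Subgroup H) 1)
    (hc : ⁅u, s⁆ ∈ γ (S : Subgroup H) i) : ∀ j, j + 1 ≤ i → u ∈ MxC.P (S : Subgroup H) j := by
  have hi' := h.i_lt
  intro j
  induction j with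
  | zero => exact fun _ => hu
  | succ j ih =>
    intro hj
    by_contra hne
    exact MxC.comm_notMem h.hn h.hc (one_le h) (j := j) (by omega) (h.unif 1 le_rfl (one_le h))
      (fun h1 => h.unif _ h1 (by omega)) (ih (by omega)) hne (S3806.anti (by omega) hc)

theorem RD.ls (h : RD S E n i s z) (hE : IsElementaryAbelian p E) :
    ∃ k, LS (qRep hE) (qSyl S E) ((s : H) : H ⧸ E) ((z : H) : H ⧸ E) (n + 2 - i) k := by
  have hi := h.i_pos
  have hi' := h.i_lt
  have hr := h.reg hE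
  have hP : ∀ u ∈ (qSyl S E : Subgroup (H ⧸ E)), ∃ v : (S : Subgroup H), ((v : H) : H ⧸ E) = u := by
    rintro _ ⟨v, hv, rfl⟩
    exact ⟨⟨v, hv⟩, rfl⟩
  have hzc : ∀ u : (S : Subgroup H), Commute ((u : H) : H ⧸ E) ((z : H) : H ⧸ E) := fun u => by
    have := MxC.comm_mem_γ_succ' (MxC.P_le_γ _ h.z_mem) u
    rw [show i - 1 + 1 = i by omega] at this
    exact (commute_iff h).2 this
  obtain ⟨k, -, hk⟩ := hr.exists_eq_Vj (LinearMap.range (qRep hE ((z : H) : H ⧸ E) - 1)) (by
    rintro _ ⟨v, rfl⟩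
    have hc : Commute (qRep hE ((s : H) : H ⧸ E) - 1) (qRep hE ((z : H) : H ⧸ E) - 1) :=
      (((hzc s).map (qRep hE)).sub_right (Commute.one_right _)).sub_left (Commute.one_left _)
    exact ⟨_, (LinearMap.congr_fun hc.eq v).symm⟩)
  have hk2 : k < n + 2 - i := by
    by_contra hlt
    rw [hr.Vj_eq_bot (by omega), LinearMap.range_eq_bot, sub_eq_zero, ← map_one (qRep hE)] at hk
    exact h.z_not ((coe_eq_one h).1 (inj h hE hk))
  refine ⟨k,
    { hp := h.hp
      inj := inj h hE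
      reg := hr
      m_lt := h.m_lt hE
      s_mem := ⟨s, s.2, rfl⟩
      z_mem := ⟨z, z.2, rfl⟩
      z_cent := fun u hu => ?_
      step := fun u hu j v hv => ?_
      two := fun u hu h2 j hj v hv => ?_
      cent := fun u hu h2 hc => ?_
      k_two := ?_
      k_lt := hk2
      range_z := hk }⟩
  · obtain ⟨u, rfl⟩ := hP u hu
    exact hzc u
  · obtain ⟨u, rfl⟩ := hP u hu
    rw [h.Vj_eq hE] at hv ⊢
    obtain ⟨y, hy, e⟩ := hv
    exact (sub_one_mem hE e).2 (MxC.comm_mem_γ_succ' hy u)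
  · obtain ⟨u, rfl⟩ := hP u hu
    rw [h.range_le_iff hE, ← MxC.C_eq h.hn h.hc (i := i + j) (by omega) (by omega), MxC.mem_C] at h2
    rw [h.Vj_eq hE] at hv ⊢
    obtain ⟨y, hy, e⟩ := hv
    rw [sub_one_mem hE e, ← commutatorElement_inv]
    exact inv_mem (h2 y hy)
  · obtain ⟨u, rfl⟩ := hP u hu
    have h1 := h.mem_P ((h.range_le_iff hE u).1 h2) ((commute_iff h).1 hc) (i - 1) (by omega)
    have h3 := MxC.sup_eq_P h.hn h.hc (one_le h) (j := i - 1) (by omega) h.z_mem
      (by rw [show i - 1 + 1 = i by omega]; exact h.z_not)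
    rw [← h3, show i - 1 + 1 = i by omega] at h1
    have h4 : γ (S : Subgroup H) i ⊔ zpowers z ≤
        (zpowers ((z : H) : H ⧸ E)).comap ((QuotientGroup.mk' E).comp (S : Subgroup H).subtype) := by
      refine sup_le (fun w hw => ?_) (zpowers_le.2 (mem_zpowers _))
      have : ((QuotientGroup.mk' E).comp (S : Subgroup H).subtype) w = 1 := (coe_eq_one h).2 hw
      rw [mem_comap, this]; exact one_mem _
    exact h4 h1
  · by_contra hlt
    obtain ⟨v, hv, hv'⟩ := hr.exists_mem hk2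
    have h1 := (h.range_le_iff hE z).2 (MxC.P_le_C _ h.z_mem)
    rw [hk] at h1
    exact hv' (Vj_anti (by omega) (h1 hv))

end Cfsg.Agent.MxE
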