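import Mathlib
import Cfsg.Agent.MxE.RedA
import Cfsg.Agent.MxE.BasL

/-! The extra data for `i = 1`, the extra element for `i ≥ 2`, existence of `RD`. -/

set_option autoImplicit false

namespace Cfsg.Agent.MxE

open Subgroup Cfsg.Agent.GT

open FG Loc.H78.Lie

open scoped commutatorElement

variable {p : ℕ} [Fact p.Prime] {H : Type*} [Group H] [Finite H] {S : Sylow p H} {E : Subgroup H}
  [E.Normal] {n i : ℕ} {s z : (S : Subgroup H)}

namespace RedB

omit [Finite H] [E.Normal] in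
theorem mem_E (h : RD S E n i s z) {g : (S : Subgroup H)} : (g : H) ∈ E ↔ g ∈ γ (S : Subgroup H) i := by
  rw [h.eq]; exact mem_map_iff_mem (S : Subgroup H).subtype_injective

omit [Finite H] in
theorem lift (h : RD S E n i s z) {g : H} {u : (S : Subgroup H)} (e : (g : H ⧸ E) = ((u : H) : H ⧸ E)) :
    ∃ c ∈ γ (S : Subgroup H) i, g = (u * c : (S : Subgroup H)) := by
  have k := QuotientGroup.eq.1 e.symm
  rw [h.eq] at k
  obtain ⟨c, hc, e'⟩ := k
  exact ⟨c, hc, by rw [coe_mul, show (c : H) = _ from e', mul_inv_cancel_left]⟩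

open Classical in
/-- The commutator with `z`, as a vector. -/
noncomputable def D (hE : IsElementaryAbelian p E) (z g : H) : EAV hE :=
  if h : ⁅g, z⁆ ∈ E then EAV.mk hE _ h else 0

omit [Finite H] in
theorem val_D (hE : IsElementaryAbelian p E) {z g : H} (h : Commute (g : H ⧸ E) z) : (D hE z g).val = ⁅g, z⁆ := by
  have k : ⁅g, z⁆ ∈ E := by
    rw [← QuotientGroup.eq_one_iff, ← QuotientGroup.mk'_apply, map_commutatorElement]
    exact commutatorElement_eq_one_iff_commute.2 h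
  rw [D, dif_pos k, EAV.val_mk]

omit [Finite H] in
theorem D_mul (hE : IsElementaryAbelian p E) {z g g' : H} (h : Commute (g : H ⧸ E) z) (h' : Commute (g' : H ⧸ E) z) :
    D hE z (g * g') = qRep hE (g : H ⧸ E) (D hE z g') + D hE z g := EAV.ext (by
  rw [EAV.val_add, val_qRep, val_D hE h, val_D hE h', val_D hE (h.mul_left h')]
  simp only [commutatorElement_def]
  group)

omit [Finite H] in
theorem D_sub (hE : IsElementaryAbelian p E) {z g g' : H} (h : Commute (g : H ⧸ E) z) (e : (g' : H ⧸ E) = g) :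
    D hE z g' - D hE z g ∈ LinearMap.range (qRep hE (z : H ⧸ E) - 1) := by
  have k1 : ((g' * g⁻¹ : H) : H ⧸ E) = 1 := by rw [QuotientGroup.mk_mul, QuotientGroup.mk_inv, e, mul_inv_cancel]
  have k2 : Commute ((g' * g⁻¹ : H) : H ⧸ E) z := by rw [k1]; exact Commute.one_left _
  have k3 := D_mul hE k2 h
  rw [inv_mul_cancel_right, k1, map_one, Module.End.one_apply] at k3
  refine ⟨EAV.mk hE _ (inv_mem ((QuotientGroup.eq_one_iff _).1 k1)), EAV.ext ?_⟩
  rw [k3, add_sub_cancel_left, LinearMap.sub_apply, Module.End.one_apply, sub_eq_neg_add, EAV.val_add, EAV.val_neg,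
    val_qRep, val_D hE k2, EAV.val_mk, commutatorElement_def]
  group

theorem lie_aux {L : Type*} [LieRing L] (u v : L) (a b : ℕ) (k : ℤ) :
    ⁅b • u, k • u + a • v⁆ + -((a * b) • ⁅u, v⁆) = 0 := by
  rw [nsmul_lie, lie_add, lie_zsmul, lie_self, smul_zero, zero_add, lie_nsmul, mul_comm, mul_smul, add_neg_cancel]

theorem lie_one {G : Type*} [Group G] (g g' : G) : ι 1 ⁅g, g'⁆ = ⁅ι 0 g, ι 0 g'⁆ := (MxC.lie_ι_zero (i := 0) (mem_top g) g').symm

theorem mul_zero_deg {G : Type*} [Group G] (g g' : G) : ι 0 (g * g') = ι 0 g + ι 0 g' := ι_mul (i := 0) (mem_top g) (mem_top g')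

theorem deg_z {G : Type*} [Group G] (z : G) {c : G} (hc : c ∈ γ G 1) (b : ℕ) : ι 0 (z ^ b * c) = b • ι 0 z := by
  rw [mul_zero_deg, ι_eq_zero (i := 0) hc, add_zero, ι_pow (i := 0) (mem_top z)]

theorem deg_s {G : Type*} [Group G] (s z : G) {c' : G} (hc' : c' ∈ γ G 1) (a : ℕ) (k : ℤ) :
    ι 0 (z ^ k * s ^ a * c') = k • ι 0 z + a • ι 0 s := by
  rw [mul_zero_deg, ι_eq_zero (i := 0) hc', add_zero, mul_zero_deg, ι_pow (i := 0) (mem_top s), MxC.ι_zpow (i := 0) (mem_top z)]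

theorem lie_comm {G : Type*} [Group G] (s z : G) {c c' : G} (hc : c ∈ γ G 1) (hc' : c' ∈ γ G 1) (a b : ℕ) (k : ℤ) :
    ⁅z ^ b * c, z ^ k * s ^ a * c'⁆ * (⁅z, s⁆ ^ (a * b))⁻¹ ∈ γ G 2 := by
  have m : ∀ g g' : G, ⁅g, g'⁆ ∈ γ G 1 := fun g g' => comm_mem_γ_succ (i := 0) (mem_top g) g'
  have m2 := pow_mem (m z s) (a * b)
  refine (ι_eq_zero_iff (i := 1) (mul_mem (m _ _) (inv_mem m2))).1 ?_
  rw [ι_mul (m _ _) (inv_mem m2), ι_inv m2, ι_pow (m z s), lie_one, lie_one, deg_z z hc, deg_s s z hc']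
  exact lie_aux ..

end RedB

open RedB

theorem RD.ls2 (h : RD S E n 1 s z) (hE : IsElementaryAbelian p E) {k : ℕ}
    (hl : LS (qRep hE) (qSyl S E) ((s : H) : H ⧸ E) ((z : H) : H ⧸ E) (n + 2 - 1) k) :
    ∃ δ, LS2 (qRep hE) (qSyl S E) ((s : H) : H ⧸ E) ((z : H) : H ⧸ E) (n + 2 - 1) k δ := by
  have h1 : 1 ≤ n := by have := h.i_lt; omega
  have nm : ⁅z, s⁆ ∉ γ (S : Subgroup H) 2 :=
    MxC.comm_notMem h.hn h.hc h1 (j := 0) (by omega) (h.unif 1 le_rfl h1) (by omega) h.z_mem h.z_not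
  have V1 : ∀ (v : EAV hE) (g : (S : Subgroup H)), v.val = g →
      (v ∈ Vj (qRep hE ((s : H) : H ⧸ E) - 1) 1 ↔ g ∈ γ (S : Subgroup H) 2) := fun v g e => by
    rw [h.Vj_eq hE, EAV.mem_sub, e]; exact mem_map_iff_mem (S : Subgroup H).subtype_injective
  have cs : Commute ((s : H) : H ⧸ E) ((z : H) : H ⧸ E) := hl.z_cent _ hl.s_mem
  have sub : ∀ g : H, Commute (g : H ⧸ E) ((z : H) : H ⧸ E) →
      D hE z (g : H ⧸ E).out - D hE z g ∈ Vj (qRep hE ((s : H) : H ⧸ E) - 1) k := fun g hg =>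
    hl.range_z ▸ D_sub hE hg (QuotientGroup.out_eq' _)
  refine ⟨fun c => D hE z c.out, hl, ?_, fun N hN a b ha hb => ?_, fun c c' hc hc' => ?_, fun hs => nm ?_, ?_⟩
  · rintro _ ⟨u, hu, rfl⟩ hr
    have k1 := (h.range_le_iff hE ⟨u, hu⟩).1 hr
    rw [show MxC.C (S : Subgroup H) 1 = MxC.P _ 0 from rfl,
      ← MxC.sup_eq_P h.hn h.hc h1 (j := 0) (by omega) h.z_mem h.z_not, ← SetLike.mem_coe, normal_mul] at k1
    obtain ⟨c, hc, _, ⟨j, rfl⟩, e⟩ := k1
    refine ⟨j, ?_⟩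
    have e' : u = c * z ^ j := (congrArg Subtype.val e).symm
    rw [e', map_mul, QuotientGroup.mk'_apply, (QuotientGroup.eq_one_iff _).2 ((mem_E h).2 hc), one_mul]
    rfl
  · obtain ⟨g, rfl⟩ := QuotientGroup.mk_surjective N
    obtain ⟨j, hj⟩ := ha
    obtain ⟨c, hc, e1⟩ := lift h (g := g * z * g⁻¹) (u := z ^ b) (by simpa using hb)
    obtain ⟨c', hc', e2⟩ := lift h (g := g * s * g⁻¹) (u := z ^ j * s ^ a) (by
      simpa using (eq_mul_of_mul_inv_eq hj.symm))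
    have m0 : ((⁅z, s⁆ : (S : Subgroup H)) : H) ∈ E := (mem_E h).2 (comm_mem_γ (i := 0) (j := 0) (mem_top _) (mem_top _))
    refine hl.reg.wt_of (hl.inv_normalizer 1 _ hN) (v := EAV.mk hE _ m0) (by rw [Vj_zero]; trivial)
      (fun k => nm ((V1 _ _ rfl).1 k)) ((V1 _ _ ?_).2 (lie_comm s z hc hc' a b j))
    rw [← Nat.cast_mul, EAV.val_sub, EAV.val_natCast_smul, val_qRep, EAV.val_mk, coe_mul, coe_inv, coe_pow]
    congr 1
    simp only [commutatorElement_def, coe_mul, coe_inv] at e1 e2 ⊢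
    rw [← e1, ← e2]
    group
  · have k1 : Commute ((c.out : H) : H ⧸ E) ((z : H) : H ⧸ E) := by rwa [QuotientGroup.out_eq']
    have k2 : Commute ((c'.out : H) : H ⧸ E) ((z : H) : H ⧸ E) := by rwa [QuotientGroup.out_eq']
    have k3 := sub (c.out * c'.out) (k1.mul_left k2)
    rw [D_mul hE k1 k2, QuotientGroup.mk_mul, QuotientGroup.out_eq', QuotientGroup.out_eq'] at k3
    rwa [sub_sub, add_comm]
  · have k1 := Submodule.sub_mem _ hs (Vj_anti (le_trans one_le_two hl.k_two) (sub s cs))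
    rw [sub_sub_cancel] at k1
    rw [← commutatorElement_inv, inv_mem_iff]
    exact (V1 _ _ (val_D hE cs)).1 k1
  · have k1 := sub z (Commute.refl _)
    rwa [show D hE (z : H) z = 0 from EAV.ext (by rw [val_D hE (Commute.refl _), commutatorElement_self]; rfl),
      sub_zero] at k1

theorem RD.exists_big (h : RD S E n i s z) (hE : IsElementaryAbelian p E) (hi : 2 ≤ i) :
    ∃ u ∈ (qSyl S E : Subgroup (H ⧸ E)), LinearMap.range (qRep hE u - 1) ≤
      Vj (qRep hE ((s : H) : H ⧸ E) - 1) 2 ∧ u ∉ zpowers ((z : H) : H ⧸ E) := by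
  have hi' := h.i_lt
  obtain ⟨u, hu, hu'⟩ := MxC.exists_mem_P h.hn h.hc (by omega) (j := i - 2) (by omega)
  refine ⟨(u : H), ⟨u, u.2, rfl⟩, (h.range_le_iff hE u).2 (MxC.P_le_C _ hu), fun ⟨j, hj⟩ => hu' ?_⟩
  obtain ⟨c, hc, e⟩ := lift h (g := u) (u := z ^ j) (by simpa using hj.symm)
  rw [Subtype.ext e, show i - 2 + 1 = i - 1 by omega]
  exact mul_mem (zpow_mem (MxC.P_le_γ _ h.z_mem) _) (S3806.anti (by omega) hc)

theorem exists_rd (hp : 5 ≤ p) (hn : Nat.card (S : Subgroup H) = p ^ (n + 3))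
    (hc : Group.nilpotencyClass (S : Subgroup H) = n + 2) (hle : E ≤ S)
    (hC : centralizer (E : Set H) ≤ E) (hi : p ^ 2 ∣ E.relIndex (S : Subgroup H)) :
    ∃ i s z, RD S E n i s z := by
  have pp : p.Prime := Fact.out
  obtain ⟨j, -, hj⟩ := (Nat.dvd_prime_pow pp).1 (hn ▸ relIndex_dvd_card E (S : Subgroup H))
  rw [hj, Nat.pow_dvd_pow_iff_le_right pp.one_lt] at hi
  obtain ⟨r, rfl⟩ : ∃ r, j = r + 2 := ⟨j - 2, by omega⟩
  have e : E.subgroupOf S = γ (S : Subgroup H) (r + 1) := PG.eq_lowerCentralSeries_of_maxClass hn hc _ hj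
  have cen : centralizer (γ (S : Subgroup H) (r + 1) : Set (S : Subgroup H)) ≤ γ (S : Subgroup H) (r + 1) := by
    rw [← e]
    exact fun g hg => hC fun x hx => congrArg Subtype.val (hg ⟨x, hle hx⟩ hx)
  have hr : r + 1 + 1 ≤ n := by
    by_contra hlt
    rcases Nat.eq_zero_or_pos n with rfl | h1
    · have k : (⊤ : Subgroup (S : Subgroup H)) ≤ γ _ 1 := fun g _ => S3806.anti (by omega) (cen fun x hx => by
        have : x ∈ γ (S : Subgroup H) (0 + 1) := S3806.anti (show 0 + 1 ≤ r + 1 by omega) hx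
        rw [MxC.γ_last_eq_center hn hc] at this
        exact (mem_center_iff.1 this g).symm)
      have := card_le_of_le k
      rw [card_top, hn, MxC.card_γ hn hc le_rfl (by omega), Nat.pow_le_pow_iff_right pp.one_lt] at this
      omega
    · have k0 : γ (S : Subgroup H) (r + 1) ≤ γ _ n := S3806.anti (by omega)
      have := card_le_of_le (((centralizer_le k0).trans cen).trans k0)
      rw [MxC.centralizer_γ_eq hn hc, MxC.card_C hn hc h1 le_rfl, MxC.card_γ hn hc h1 (by omega),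
        Nat.pow_le_pow_iff_right pp.one_lt] at this
      omega
  obtain ⟨s, -, -, hs⟩ := MxC.exists_uniform hn hc (MxC.C_ne_top hn hc (i := 0) (by omega))
  obtain ⟨z, hz, hz'⟩ := MxC.exists_mem_P hn hc (by omega) (j := r) (by omega)
  exact ⟨r + 1, s, z, hp, hn, hc, by omega, hr, by rw [← e, subgroupOf_map_subtype, inf_eq_left.2 hle], hC, hs, hz, hz'⟩

end Cfsg.Agent.MxE
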