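import Mathlib
import Cfsg.Agent.MxE.BigA
import Cfsg.Agent.MxE.BigB
import Cfsg.Agent.MxE.QB
import Cfsg.Agent.MxE.LocA
import Cfsg.Agent.MxE.LocB
import Cfsg.Agent.MxE.GlobA
import Cfsg.Agent.MxE.GlobB
import Cfsg.Agent.MxE.GlobC
import Cfsg.Agent.MxE.RedB

/-! Assembly: no self-centralising elementary abelian normal subgroup of index `≥ p ^ 2` in a
Sylow subgroup of maximal class has a quotient with a strongly `p`-embedded subgroup. -/

set_option autoImplicit false

namespace Cfsg.Agent.MxE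

open Subgroup Cfsg.Agent.GT

section Lin

variable {p : ℕ} [Fact p.Prime] {G : Type*} [Group G] {V : Type*} [AddCommGroup V]
  [Module (ZMod p) V]
  [Finite G] {ρ : Representation (ZMod p) G V} {P : Sylow p G} {s z : G} {m k : ℕ} {δ : G → V}

theorem LS.big (h : LS ρ P s z m k) {u : G} (hu : u ∈ (P : Subgroup G))
    (h2 : LinearMap.range (ρ u - 1) ≤ Vj (ρ s - 1) 2) (hz : u ∉ zpowers z) {M : Subgroup G}
    (hM : Inv.SE.StrEmb p M) (hPM : (P : Subgroup G) ≤ M) : False := by
  have := h.reg.finite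
  have hk := h.two_mul hu h2 hz
  have hq : (ρ z - 1) * (ρ z - 1) = 0 := by
    refine LinearMap.ext fun v => ?_
    have h1 : (ρ z - 1) v ∈ Vj (ρ s - 1) k := h.range_z ▸ LinearMap.mem_range_self _ v
    have h3 := h.up_Y k _ h1
    rw [h.reg.Vj_eq_bot (by omega)] at h3
    exact h3
  obtain ⟨g, hg⟩ := hM.exists_not_mem
  have hD : ¬ IsPGroup p (closure ({z, g * z * g⁻¹} : Set G)) := fun hp =>
    hg (hM.mem_of_conj g z h.orderOf_z (hPM h.z_mem)
      (hM.pgroup_le hp (subset_closure (by simp)) (hPM h.z_mem) h.z_ne (subset_closure (by simp))))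
  obtain ⟨t, ht, h1, h3⟩ := quad_t h.hp ρ h.inj hq
    (fun u hu hc h1 h2 => h.mem_zpowers (by omega) hu hc h1 h2) hD
  obtain rfl := h.eq_three hk ht h1 h3
  exact h.not_three hu h2 hz hM hPM

theorem LS2.centralizer_le (h : LS2 ρ P s z m k δ) :
    centralizer {z} ≤ normalizer ((P : Subgroup G) : Set G) := by
  have h2 := h.k_two
  have h3 := h.k_lt
  have h4 := h.m_lt
  have key : ∀ d α, α = d + 1 → α ≤ k → 2 * (α + 1) ≤ p →
      InvS ρ (centralizer {z}) (Vj (ρ s - 1) α) → InvS ρ (centralizer {z}) (Vj (ρ s - 1) 1) := by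
    intro d
    induction d with
    | zero => rintro α rfl - - hα; exact hα
    | succ d ih =>
      rintro α rfl h1 h5 hα
      exact ih (d + 1) rfl (by omega) (by omega) (h.invS_step (by omega) h1 h5 hα)
  refine h.le_normalizer_of_one ?_
  by_cases hc : k - 1 ≤ m - k
  · exact key (k - 2) (k - 1) (by omega) (by omega) (by omega) h.invS_pred
  · exact key (m - k - 1) (m - k) (by omega) (by omega) (by omega) h.invS_k.2

theorem LS2.false (h : LS2 ρ P s z m k δ) (hO : pCore p G = ⊥) : False := by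
  have hT := h.ti h.centralizer_le
  have h2 := h.k_two
  obtain ⟨a, b, h1, h3, ha, hb, hc⟩ := h.toLS.exists_factor hO
  by_cases e : b = a + k + 1
  · subst e
    exact hc (a + k) (by omega) (by omega) (h.invS_small hT h3 ha hb)
  · exact hc (a + (k + 1)) (by omega) (by omega) (h.invS_big hT (by omega) ha)

end Lin

theorem no_normal {p : ℕ} [Fact p.Prime] {H : Type*} [Group H] [Finite H] (hp : 5 ≤ p)
    (S : Sylow p H) {n : ℕ} (hn : Nat.card (S : Subgroup H) = p ^ (n + 3))
    (hc : Group.nilpotencyClass (S : Subgroup H) = n + 2) {E : Subgroup H} [E.Normal]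
    (hE : IsElementaryAbelian p E) (hle : E ≤ S) (hC : centralizer (E : Set H) ≤ E)
    (hi : p ^ 2 ∣ E.relIndex (S : Subgroup H)) {M : Subgroup (H ⧸ E)} (hM : Inv.SE.StrEmb p M) :
    False := by
  obtain ⟨i, s, z, h⟩ := exists_rd hp hn hc hle hC hi
  obtain ⟨k, hl⟩ := h.ls hE
  by_cases h1 : i = 1
  · subst h1
    obtain ⟨δ, h2⟩ := h.ls2 hE hl
    exact h2.false hM.pCore_eq_bot
  · obtain ⟨u, hu, h2, h3⟩ := h.exists_big hE (by have := h.i_pos; omega)
    obtain ⟨g, hg⟩ := hM.exists_conj_le (qSyl S E).isPGroup'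
    refine hl.big hu h2 h3 (hM.map_conj g⁻¹) fun a ha => ⟨g * a * g⁻¹, hg a ha, ?_⟩
    simp [mul_assoc]

end Cfsg.Agent.MxE
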