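import Mathlib
import Cfsg.Agent.MxE.Defs
import Cfsg.Agent.Fus.ModelExists
import Cfsg.Agent.Fus.EssSmall
import Cfsg.Agent.GT.PStable
import Cfsg.Agent.Fus.Free
import Cfsg.Agent.Fus.Alperin

/-! The model of `N_F(E)` modulo `Φ(E)`. -/

set_option autoImplicit false

namespace Cfsg.Agent.MxE

open Subgroup Cfsg.Agent.GT

universe u

namespace Mod

open Cfsg.Agent.Fus

/-- A lifted strongly embedded subgroup passes to any quotient with the right kernel. -/
theorem strEmb_of_lift {L Q : Type*} [Group L] [Group Q] [Finite L] {p : ℕ} [Fact p.Prime]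
    {W K : Subgroup L} (h : LiftSPE p ⊤ W K) (π : L →* Q) (hπ : Function.Surjective π)
    (hk : ∀ g, π g = 1 ↔ g ∈ W) : Inv.SE.StrEmb p (K.map π) := by
  have hm : ∀ g, π g ∈ K.map π → g ∈ K := by
    rintro g ⟨k, hk1, hk2⟩
    have h1 : k⁻¹ * g ∈ W := (hk _).1 (by rw [map_mul, map_inv, hk2, inv_mul_cancel])
    have h2 := K.mul_mem hk1 (h.le h1)
    rwa [mul_inv_cancel_left] at h2
  refine ⟨fun e => h.lt.ne (eq_top_iff.2 fun g _ => hm g (e ▸ mem_top _)), ?_, ?_⟩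
  · obtain ⟨x, hxK, hxW, hxp⟩ := h.ex
    have ho : orderOf (π x) = p :=
      orderOf_eq_prime (by rw [← map_pow]; exact (hk _).2 hxp) fun e => hxW ((hk _).1 e)
    have := Subgroup.orderOf_dvd_natCard (K.map π) (mem_map_of_mem π hxK)
    rwa [ho] at this
  · intro g x hx hxM hg
    obtain ⟨g, rfl⟩ := hπ g
    obtain ⟨x, rfl⟩ := hπ x
    refine mem_map_of_mem π (h.mem_of_conj g (mem_top _) x (hm x hxM) (fun e => ?_) ?_ (hm _ ?_))
    · rw [(hk _).2 e, orderOf_one] at hx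
      exact (Fact.out : p.Prime).one_lt.ne hx
    · rw [← hk, map_pow, ← hx, pow_orderOf_eq_one]
    · rwa [map_mul, map_mul, map_inv]

/-- `W / Φ(W)` is self-centralising. -/
theorem cent_le {L : Type*} [Group L] [Finite L] {p : ℕ} [Fact p.Prime] {W K : Subgroup L}
    [W.Normal] (hW : IsPGroup p W) (hc : centralizer (W : Set L) ≤ W) (h : LiftSPE p ⊤ W K) :
    centMod W ((frattini W).map W.subtype) ≤ W := by
  have e : pCore p L = W := le_antisymm
    (h.le_of_normal (by rw [normalizer_eq_top]) le_top (by rw [normalizer_eq_top])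
      (isPGroup_pCore p)) (le_pCore hW)
  subst e
  exact centMod_frattini_le_pCore hc

/-- The Frattini subgroup under an embedding of an overgroup. -/
theorem mem_frat_iff {Ω L : Type*} [Group Ω] [Group L] {N E : Subgroup Ω} (p : ℕ) (hE : E ≤ N)
    (φ : N →* L) (hφ : Function.Injective φ) (x : N) :
    φ x ∈ ⁅(E.subgroupOf N).map φ, (E.subgroupOf N).map φ⁆ ⊔
      powerClosure p 1 ((E.subgroupOf N).map φ) ↔ (x : Ω) ∈ ⁅E, E⁆ ⊔ powerClosure p 1 E := by
  have h1 : ⁅E, E⁆ ⊔ powerClosure p 1 E = (⁅E.subgroupOf N, E.subgroupOf N⁆ ⊔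
      powerClosure p 1 (E.subgroupOf N)).map N.subtype := by
    rw [Subgroup.map_sup, Subgroup.map_commutator, PG.map_powerClosure,
      Subgroup.map_subgroupOf_eq_of_le hE]
  rw [← Subgroup.map_commutator, ← PG.map_powerClosure, ← Subgroup.map_sup,
    Subgroup.mem_map_iff_mem hφ, h1]
  exact (Subgroup.mem_map_iff_mem (f := N.subtype) N.subtype_injective).symm

/-- The model of the normalizer system with its lifted strongly embedded subgroup. -/
theorem exists_lift {Ω : Type u} [Group Ω] {S E : Subgroup Ω} [Finite S] {p : ℕ} [Fact p.Prime]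
    (hS : IsPGroup p S) {F : FusionSystem S} (hF : F.IsSaturated p) (hE : F.IsEssential p E) :
    ∃ (L : Type u) (_ : Group L) (_ : Finite L) (T : Sylow p L)
      (φ : FusionSystem.normalizerIn S E →* L), Function.Injective φ ∧ φ.range = T ∧
      ((E.subgroupOf _).map φ).Normal ∧
      centralizer (((E.subgroupOf _).map φ : Subgroup L) : Set L) ≤ (E.subgroupOf _).map φ ∧
      ∃ K, LiftSPE p ⊤ ((E.subgroupOf _).map φ) K := by
  have hES : E ≤ S := hE.1.le
  have hEN : E ≤ FusionSystem.normalizerIn S E := le_normalizerIn hES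
  have hN := F.isNormalizerSystem_normalizerSystem hES
  haveI : Finite (FusionSystem.normalizerIn S E) :=
    Finite.of_injective _ (inclusion_injective (normalizerIn_le (S := S) (P := E)))
  have hNp : IsPGroup p (FusionSystem.normalizerIn S E) := hS.to_le normalizerIn_le
  obtain ⟨L, iL, fL, j, hj⟩ := (hN.isConstrained hF hS hE.2.1 hE.1).exists_isModelVia hNp
  obtain ⟨T, hT⟩ := hj.exists_sylow
  have hn := hN.isNormal hES
  obtain ⟨ρ, hρ, hρj⟩ := hj.exists_conjHom hn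
  rw [hN.autGroup_eq hES] at hρ
  have hW : img j E = (E.subgroupOf _).map hj.mulOn.hom :=
    img_eq_map_subgroupOf hj.mulOn.hom (fun _ => rfl) hEN
  have hc := hj.centralizer_img_le hn (hN.isCentric hE.1).centralizerIn_le
  obtain ⟨H0, hH0, -⟩ := hE.exists_liftSPE hS
  have key : ∀ g, ρ g ∈ Inn E ↔ g ∈ img j E := by
    intro g
    rw [mem_inn_iff]
    constructor
    · rintro ⟨e, he, h⟩
      have h1 : (j e)⁻¹ * g ∈ img j E := by
        refine hc (mem_centralizer_iff.2 fun y hy => ?_)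
        obtain ⟨x, hx, rfl⟩ := (hj.mulOn.mem_img_of_le hEN).1 hy
        have h2 := hρj g x hx
        rw [totA_apply _ hx, h ⟨x, hx⟩,
          hj.mulOn _ (hEN (E.mul_mem he hx)) _ (hEN (E.inv_mem he)),
          hj.mulOn _ (hEN he) _ (hEN hx), hj.mulOn.map_inv (hEN he)] at h2
        calc j x * ((j e)⁻¹ * g) = (j e)⁻¹ * (j e * j x * (j e)⁻¹) * g := by group
          _ = (j e)⁻¹ * g * j x := by rw [h2]; group
      have h3 := (img j E).mul_mem (mem_img_of_mem (f := j) he) h1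
      rwa [mul_inv_cancel_left] at h3
    · intro hg
      obtain ⟨e, he, rfl⟩ := (hj.mulOn.mem_img_of_le hEN).1 hg
      refine ⟨e, he, fun x => hj.inj _ (hEN (ρ (j e) x).2) _
        (hEN (E.mul_mem (E.mul_mem he x.2) (E.inv_mem he))) ?_⟩
      rw [← totA_coe, hρj _ _ x.2, hj.mulOn _ (hEN (E.mul_mem he x.2)) _ (hEN (E.inv_mem he)),
        hj.mulOn _ (hEN he) _ (hEN x.2), hj.mulOn.map_inv (hEN he)]
  have hA : ∀ g, ρ g ∈ F.autGroup E := fun g => hρ ▸ ⟨g, rfl⟩
  refine ⟨L, iL, fL, T, hj.mulOn.hom, fun x y h => Subtype.ext (hj.inj _ x.2 _ y.2 h), ?_,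
    hW ▸ hj.normal_img hn, hW ▸ hc, H0.comap ρ, hW ▸ ⟨fun g hg => hH0.le ((key g).2 hg), ?_, ?_, ?_⟩⟩
  · rw [hT]
    ext y
    rw [hj.mulOn.mem_img]
    exact ⟨fun ⟨x, hx⟩ => ⟨x, x.2, hx⟩, fun ⟨x, hx, h⟩ => ⟨⟨x, hx⟩, h⟩⟩
  · refine lt_top_iff_ne_top.2 fun e => hH0.lt.not_ge fun a ha => ?_
    rw [← hρ] at ha
    obtain ⟨g, rfl⟩ := ha
    exact (e ▸ mem_top g : g ∈ H0.comap ρ)
  · obtain ⟨x, hx, hxI, hxp⟩ := hH0.ex
    have ha := hH0.lt.le hx
    rw [← hρ] at ha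
    obtain ⟨g, rfl⟩ := ha
    exact ⟨g, hx, fun h => hxI ((key g).2 h), (key _).1 (by rwa [map_pow])⟩
  · intro g _ x hx hxI hxp hg
    refine hH0.mem_of_conj (ρ g) (hA g) (ρ x) hx (fun h => hxI ((key x).1 h)) ?_ ?_
    · rw [← map_pow]; exact (key _).2 hxp
    · rw [← map_inv, ← map_mul, ← map_mul]; exact hg

end Mod

/-- For an essential subgroup `E`: a finite group `H` with a Sylow subgroup `T` that is the image
of `N_S(E)` under `θ` (kernel `Φ(E)`), `V = θ(E)` elementary abelian, normal, self-centralising,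
and `H / V` with a strongly `p`-embedded subgroup. -/
theorem exists_model {Ω : Type u} [Group Ω] {S E : Subgroup Ω} [Finite S] {p : ℕ} [Fact p.Prime]
    (hS : IsPGroup p S) {F : FusionSystem S} (hF : F.IsSaturated p) (hE : F.IsEssential p E) :
    ∃ (H : Type u) (_ : Group H) (_ : Finite H) (T : Sylow p H) (V : Subgroup H) (_ : V.Normal)
      (θ : FusionSystem.normalizerIn S E →* (T : Subgroup H)), Function.Surjective θ ∧
      (∀ x, θ x = 1 ↔ (x : Ω) ∈ ⁅E, E⁆ ⊔ powerClosure p 1 E) ∧ (∀ x, (θ x : H) ∈ V ↔ (x : Ω) ∈ E) ∧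
      V ≤ T ∧ IsElementaryAbelian p V ∧ centralizer (V : Set H) ≤ V ∧
      ∃ M : Subgroup (H ⧸ V), Inv.SE.StrEmb p M := by
  obtain ⟨L, iL, fL, T, φ, hφ, hT, hn, hc, K, hK⟩ := Mod.exists_lift hS hF hE
  have hEN : E ≤ FusionSystem.normalizerIn S E := Fus.le_normalizerIn hE.1.le
  have hfr := Mod.mem_frat_iff p hEN φ hφ
  have hmem : ∀ x, φ x ∈ (E.subgroupOf _).map φ ↔ (x : Ω) ∈ E := fun x =>
    (Subgroup.mem_map_iff_mem hφ).trans mem_subgroupOf
  have hWT : (E.subgroupOf _).map φ ≤ T := hT ▸ map_le_range _ _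
  generalize (E.subgroupOf _).map φ = W at hn hc hK hfr hmem hWT
  have hW : IsPGroup p W := T.isPGroup'.to_le hWT
  rw [← PG.map_frattini_subtype hW] at hfr
  obtain ⟨Φ, hΦn, hfr, hcm, hel, hΦ⟩ : ∃ (Φ : Subgroup L) (_ : Φ.Normal),
      (∀ x, φ x ∈ Φ ↔ (x : Ω) ∈ ⁅E, E⁆ ⊔ powerClosure p 1 E) ∧ centMod W Φ ≤ W ∧
      IsElementaryAbelian p (W.map (QuotientGroup.mk' Φ)) ∧ Φ ≤ W :=
    ⟨_, _, hfr, Mod.cent_le hW hc hK, isElementaryAbelian_map_mk'_frattini W hW,
      map_subtype_le _⟩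
  have hs := QuotientGroup.mk'_surjective Φ
  have hV : ∀ g, QuotientGroup.mk' Φ g ∈ W.map (QuotientGroup.mk' Φ) ↔ g ∈ W := by
    intro g
    rw [← mem_comap, comap_map_eq, QuotientGroup.ker_mk', sup_eq_left.2 hΦ]
  haveI hVn : (W.map (QuotientGroup.mk' Φ)).Normal := hn.map _ hs
  have hθ : ∀ x, ((QuotientGroup.mk' Φ).comp φ) x ∈ (T.mapSurjective hs : Subgroup (L ⧸ Φ)) :=
    fun x => mem_map_of_mem _ (hT ▸ ⟨x, rfl⟩ : φ x ∈ (T : Subgroup L))
  refine ⟨L ⧸ Φ, inferInstance, inferInstance, T.mapSurjective hs, W.map (QuotientGroup.mk' Φ),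
    hVn, ((QuotientGroup.mk' Φ).comp φ).codRestrict _ hθ, ?_, fun x => ?_, fun x => ?_,
    map_mono hWT, hel, fun y hy => ?_, _, Mod.strEmb_of_lift hK
      ((QuotientGroup.mk' _).comp (QuotientGroup.mk' Φ))
      ((QuotientGroup.mk'_surjective _).comp hs) fun g => ?_⟩
  · rintro ⟨_, t, ht, rfl⟩
    rw [← hT] at ht
    obtain ⟨x, rfl⟩ := ht
    exact ⟨x, rfl⟩
  · rw [← hfr, ← QuotientGroup.eq_one_iff, Subtype.ext_iff]
    rfl
  · rw [← hmem, ← hV]
    rfl
  · obtain ⟨g, rfl⟩ := hs y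
    exact (hV g).2 (hcm hy)
  · rw [← hV, ← QuotientGroup.eq_one_iff]
    rfl

end Cfsg.Agent.MxE
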