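import Mathlib
import Cfsg.Agent.MxE.Orb

/-! Averaging a three-dimensional orthogonal summand over a Sylow subgroup of prime order. -/

set_option autoImplicit false

namespace Cfsg.Agent.MxE

open Subgroup Cfsg.Agent.GT Orb

variable {p : ℕ} [Fact p.Prime] {G : Type*} [Group G] {U : Type*} [AddCommGroup U]
  [Module (ZMod p) U]

namespace FeitA

/-- The averaged operator. -/
theorem exists_avg [Finite G] (π : Representation (ZMod p) G U) {s : G} (hs : orderOf s = p)
    (h0 : (π s - 1) ^ (p - 1) = 0) {N : Subgroup G} (hN : ∀ g, g⁻¹ * s * g ∈ zpowers s → g ∈ N)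
    (hsN : s ∈ N) (hi : ¬ p ∣ (zpowers s).relIndex N) (e : Module.End (ZMod p) U)
    (he : ∀ u, e (π s u) = π s (e u)) {x : U} {c : ZMod p} (hc : c ≠ 0) (hex : e x = c • x)
    (hx : π s x = x) (hfix : ∀ y, π s y = y → ∃ a : ZMod p, e y = a • x)
    (hn : ∀ n ∈ N, ∃ a : ZMod p, π n x = a • x)
    (hn' : ∀ n ∈ N, ∀ y, π s y = y → π s (π n y) = π n y)
    (β : LinearMap.BilinForm (ZMod p) U) (hβ : ∀ g u v, β (π g u) (π g v) = β u v)
    (hsa : ∀ u v, β (e u) v = β u (e v)) :
    ∃ F : Module.End (ZMod p) U, (∀ g u, F (π g u) = π g (F u)) ∧ (∀ u v, β (F u) v = β u (F v)) ∧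
      (∀ y, π s y = y → ∃ a : ZMod p, F y = a • x) ∧ ∃ c' : ZMod p, c' ≠ 0 ∧ F x = c' • x := by
  classical
  have := Fintype.ofFinite (G ⧸ zpowers s)
  have := Fintype.ofFinite (N ⧸ (zpowers s).subgroupOf N)
  have := Fintype.ofFinite (zpowers s)
  have hle : zpowers s ≤ N := zpowers_le.2 hsN
  have inv1 : ∀ g u, π g (π g⁻¹ u) = u := fun g u => by
    rw [← Module.End.mul_apply, ← map_mul, mul_inv_cancel, map_one, Module.End.one_apply]
  have hpow : ∀ q ∈ zpowers s, ∀ u, e (π q u) = π q (e u) := by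
    intro q hq u
    obtain ⟨k, rfl⟩ := (mem_powers_iff_mem_zpowers.2 hq :)
    change e (π (s ^ k) u) = π (s ^ k) (e u)
    induction k with
    | zero => simp
    | succ k ih =>
      rw [pow_succ', map_mul, Module.End.mul_apply, Module.End.mul_apply, he,
        ih (pow_mem (mem_zpowers s) k)]
  obtain ⟨Ψ, hΨ⟩ : ∃ Ψ : G ⧸ zpowers s → Module.End (ZMod p) U,
      ∀ (g : G) v, Ψ g v = π g (e (π g⁻¹ v)) := by
    refine ⟨fun ω => π ω.out * e * π ω.out⁻¹, fun g v => ?_⟩
    obtain ⟨u, hu⟩ := QuotientGroup.mk_out_eq_mul (zpowers s) g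
    simp only [hu, mul_inv_rev, map_mul, Module.End.mul_apply]
    rw [hpow _ (inv_mem u.2), inv1]
  have e1 : ∀ (h : G) (ω : G ⧸ zpowers s) v, Ψ (h • ω) (π h v) = π h (Ψ ω v) := fun h ω v => by
    induction ω using QuotientGroup.induction_on with
    | H a =>
      rw [MulAction.Quotient.smul_coe, hΨ, hΨ, smul_eq_mul, ← Module.End.mul_apply (π (h * a)⁻¹),
        ← map_mul, mul_inv_rev, inv_mul_cancel_right, map_mul, Module.End.mul_apply]
  have e3 : ∀ v, π s v = v → ∑ ω, Ψ ω v =
      ∑ q : N ⧸ (zpowers s).subgroupOf N, π (q.out : G) (e (π (q.out : G)⁻¹ v)) := fun v hv => by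
    have hq : ∀ q : zpowers s, π q v = v := by
      rintro ⟨q, hq⟩
      obtain ⟨k, rfl⟩ := (mem_powers_iff_mem_zpowers.2 hq :)
      change π (s ^ k) v = v
      rw [map_pow, Module.End.pow_apply, Function.iterate_fixed hv]
    rw [sum_eq_sum_filter (Q := zpowers s) (fun ω => Ψ ω v) (fun ω => ?_) (fun ω => ω.out ∈ N)
      (fun q ω h => ?_) fun q ω h h' => ?_, sum_filter_eq hle]
    · simp only [hΨ]
    · rw [← sum_zpowers π hs h0 (Ψ ω v)]
      exact Finset.sum_congr rfl fun q _ => by rw [← e1, hq]; rfl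
    · induction ω using QuotientGroup.induction_on with
      | H a => exact (out_mem hle).2 (mul_mem (hle q.2) ((out_mem hle).1 h))
    · by_contra hq
      induction ω using QuotientGroup.induction_on with
      | H a => exact h ((out_mem hle).2 (hN a (conj_mem hs hq h')))
  refine ⟨∑ ω, Ψ ω, fun h v => ?_, fun u v => ?_, fun y hy => ?_,
    (Fintype.card (N ⧸ (zpowers s).subgroupOf N) : ZMod p) * c, mul_ne_zero (cast_card_ne hi) hc, ?_⟩
  · rw [LinearMap.sum_apply, LinearMap.sum_apply, map_sum,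
      ← Equiv.sum_comp (MulAction.toPerm h) fun ω => Ψ ω (π h v)]
    simp only [MulAction.toPerm_apply, e1]
  · rw [LinearMap.sum_apply, LinearMap.sum_apply, map_sum, map_sum, LinearMap.sum_apply]
    refine Finset.sum_congr rfl fun ω _ => ?_
    induction ω using QuotientGroup.induction_on with
    | H a =>
      rw [hΨ, hΨ]
      conv_lhs => rw [← inv1 a v]
      conv_rhs => rw [← inv1 a u]
      rw [hβ, hβ, hsa]
  · rw [LinearMap.sum_apply, e3 y hy]
    have : ∀ q : N ⧸ (zpowers s).subgroupOf N,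
        π (q.out : G) (e (π (q.out : G)⁻¹ y)) ∈ Submodule.span (ZMod p) {x} := fun q => by
      obtain ⟨a, ha⟩ := hfix _ (hn' _ (inv_mem q.out.2) y hy)
      obtain ⟨b, hb⟩ := hn _ q.out.2
      rw [ha, map_smul, hb]
      exact Submodule.smul_mem _ _ (Submodule.smul_mem _ _ (Submodule.mem_span_singleton_self x))
    obtain ⟨a, ha⟩ := Submodule.mem_span_singleton.1 (Submodule.sum_mem _ fun q _ => this q)
    exact ⟨a, ha.symm⟩
  · rw [LinearMap.sum_apply, e3 x hx, mul_smul, Nat.cast_smul_eq_nsmul, ← Finset.card_univ,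
      ← Finset.sum_const]
    refine Finset.sum_congr rfl fun q _ => ?_
    obtain ⟨a, ha⟩ := hn _ (inv_mem q.out.2)
    rw [ha, map_smul, hex, smul_comm, ← ha, map_smul, inv1]

/-- The invariant tensor of a three-dimensional orthogonal summand. -/
def cas (β : LinearMap.BilinForm (ZMod p) U) (x g f : U) : Module.End (ZMod p) U :=
  (β.flip f).smulRight ((2 : ZMod p) • x) + (β.flip x).smulRight ((2 : ZMod p) • f) +
    (β.flip g).smulRight x + (β.flip x).smulRight g - (β.flip g).smulRight ((2 : ZMod p) • g)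

theorem cas_apply (β : LinearMap.BilinForm (ZMod p) U) (x g f u : U) :
    cas β x g f u = (2 * β u f + β u g) • x + (β u x - 2 * β u g) • g + (2 * β u x) • f := by
  simp only [cas, LinearMap.sub_apply, LinearMap.add_apply, LinearMap.smulRight_apply,
    LinearMap.BilinForm.flip_apply]
  module

end FeitA

open FeitA in
/-- A vector `x` at the bottom of a three-dimensional orthogonal Jordan block has at most `p + 1`
conjugate lines. -/
theorem index_le_of_block [Finite G] [Finite U] (hp : p ≠ 2) (π : Representation (ZMod p) G U) {s : G}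
    (hs : orderOf s = p) (h0 : (π s - 1) ^ (p - 1) = 0) {N : Subgroup G}
    (hN : ∀ g, g⁻¹ * s * g ∈ zpowers s → g ∈ N) (hsN : s ∈ N) (hi : ¬ p ∣ (zpowers s).relIndex N)
    (β : LinearMap.BilinForm (ZMod p) U) (hsym : ∀ u v, β u v = β v u)
    (hβ : ∀ g u v, β (π g u) (π g v) = β u v) {x g f : U} (hx : π s x = x) (hg : π s g = g + x)
    (hf : π s f = f + g) (hc : β x f ≠ 0) (hn : ∀ n ∈ N, ∃ a : ZMod p, π n x = a • x)
    (hn' : ∀ n ∈ N, ∀ y, π s y = y → π s (π n y) = π n y)
    (hst : ∀ h, (∃ a : ZMod p, π h x = a • x) → h ∈ N) : N.index ≤ p + 1 := by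
  classical
  have h2 : (2 : ZMod p) ≠ 0 := fun e => hp ((Nat.prime_dvd_prime_iff_eq Fact.out Nat.prime_two).1
    ((ZMod.natCast_eq_zero_iff 2 p).1 (by exact_mod_cast e)))
  have hx0 : x ≠ 0 := by
    rintro rfl
    simp at hc
  have sx : ∀ {a b : ZMod p}, a • x = b • x → a = b := fun h => smul_left_injective _ hx0 h
  have b1 : ∀ u, β (π s u) x = β u x := fun u => by
    conv_lhs => rw [← hx]
    exact hβ s u x
  have b2 : ∀ u, β (π s u) g = β u g - β u x := fun u => by
    have := hβ s u g
    rw [hg, map_add, b1] at this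
    linear_combination this
  have b3 : ∀ u, β (π s u) f = β u f - β u g + β u x := fun u => by
    have := hβ s u f
    rw [hf, map_add, b2] at this
    linear_combination this
  have f1 : ∀ y, π s y = y → β y x = 0 := fun y hy => by
    have := b2 y
    rw [hy] at this
    linear_combination this
  have f2 : ∀ y, π s y = y → β y g = 0 := fun y hy => by
    have := b3 y
    rw [hy, f1 y hy] at this
    linear_combination this
  set e := cas β x g f with he_def
  have he : ∀ u, e (π s u) = π s (e u) := fun u => by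
    rw [cas_apply, cas_apply, b1, b2, b3, map_add, map_add, map_smul, map_smul, map_smul, hx, hg, hf]
    module
  have hfix : ∀ y, π s y = y → e y = (2 * β y f) • x := fun y hy => by
    rw [cas_apply, f1 y hy, f2 y hy]
    module
  have hc2 : 2 * β x f ≠ 0 := mul_ne_zero h2 hc
  obtain ⟨F, F1, F2, F3, c', hc', F4⟩ := exists_avg π hs h0 hN hsN hi e he hc2 (hfix x hx) hx
    (fun y hy => ⟨_, hfix y hy⟩) hn hn' β hβ fun u v => by
      simp only [he_def, cas_apply, map_add, map_smul, LinearMap.add_apply, LinearMap.smul_apply,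
        smul_eq_mul, hsym x v, hsym g v, hsym f v]
      ring
  obtain ⟨D, hD⟩ : ∃ D : Module.End (ZMod p) U, D = π s - 1 := ⟨_, rfl⟩
  have Da : ∀ u, D u = π s u - u := fun u => by rw [hD]; rfl
  have D0 : ∀ {u}, D u = 0 → π s u = u := fun h => sub_eq_zero.1 (Da _ ▸ h)
  have De : ∀ u, e (D u) = D (e u) := fun u => by rw [Da, Da, map_sub, he]
  have Dx : D x = 0 := by rw [Da, hx, sub_self]
  have Dg : D g = x := by rw [Da, hg, add_sub_cancel_left]
  have Df : D f = g := by rw [Da, hf, add_sub_cancel_left]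
  have De1 : ∀ u, D (e u) = (β u x - 2 * β u g) • x + (2 * β u x) • g := fun u => by
    rw [cas_apply, map_add, map_add, map_smul, map_smul, map_smul, Dx, Dg, Df, smul_zero, zero_add]
  have De2 : ∀ u, D (D (e u)) = (2 * β u x) • x := fun u => by
    rw [De1, map_add, map_smul, map_smul, Dx, Dg, smul_zero, zero_add]
  have Dep : ∀ k u, e ((D ^ k) u) = (D ^ k) (e u) := fun k u => by
    induction k with
    | zero => rfl
    | succ k ih => rw [pow_succ', Module.End.mul_apply, Module.End.mul_apply, De, ih]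
  set K := Module.finrank (ZMod p) U
  set U1 := LinearMap.range (F ^ K)
  have Fp : ∀ k, (F ^ k) x = c' ^ k • x := fun k => by
    induction k with
    | zero => simp
    | succ k ih => rw [pow_succ', Module.End.mul_apply, ih, map_smul, F4, smul_smul, pow_succ]
  have hxU : x ∈ U1 := ⟨(c' ^ K)⁻¹ • x, by
    rw [map_smul, Fp, smul_smul, inv_mul_cancel₀ (pow_ne_zero _ hc'), one_smul]⟩
  have hπU : ∀ h, ∀ u ∈ U1, π h u ∈ U1 := by
    rintro h _ ⟨z, rfl⟩
    refine ⟨π h z, ?_⟩
    induction K with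
    | zero => rfl
    | succ k ih => rw [pow_succ', Module.End.mul_apply, Module.End.mul_apply, ih, F1]
  have hDU : ∀ u ∈ U1, D u ∈ U1 := fun u hu => Da u ▸ sub_mem (hπU s u hu) hu
  have hDU' : ∀ k, ∀ u ∈ U1, (D ^ k) u ∈ U1 := fun k u hu => by
    induction k with
    | zero => exact hu
    | succ k ih => rw [pow_succ', Module.End.mul_apply]; exact hDU _ ih
  have fix1 : ∀ y ∈ U1, D y = 0 → ∃ a : ZMod p, y = a • x := fun y hy h => by
    obtain ⟨a, ha⟩ := F3 y (D0 h)
    obtain ⟨z, hz⟩ : y - (a * c'⁻¹) • x ∈ U1 := sub_mem hy (U1.smul_mem _ hxU)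
    have h1 : z ∈ LinearMap.ker (F ^ (K + 1)) := by
      rw [LinearMap.mem_ker, pow_succ', Module.End.mul_apply, hz, map_sub, map_smul, ha, F4, smul_smul,
        inv_mul_cancel_right₀ hc', sub_self]
    rw [Module.End.ker_pow_eq_ker_pow_finrank_of_le (Nat.le_succ K), LinearMap.mem_ker, hz] at h1
    exact ⟨_, sub_eq_zero.1 h1⟩
  have D3 : ∀ u ∈ U1, ∀ j, (D ^ (j + 3)) u = 0 → (D ^ 3) u = 0 := fun u hu j => by
    induction j with
    | zero => exact id
    | succ j ih =>
      intro h
      rw [show j + 1 + 3 = j + 3 + 1 by ring, pow_succ', Module.End.mul_apply] at h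
      obtain ⟨a, ha⟩ := fix1 _ (hDU' _ u hu) h
      have h1 := Dep (j + 3) u
      rw [ha, map_smul, hfix x hx, smul_smul, pow_add, Module.End.mul_apply, pow_three,
        Module.End.mul_apply, Module.End.mul_apply, De2, map_smul, Dx, smul_zero, map_zero,
        ← zero_smul (ZMod p) x] at h1
      exact ih (by rw [ha, (mul_eq_zero.1 (sx h1)).resolve_right hc2, zero_smul])
  have D2 : ∀ u ∈ U1, ∃ a : ZMod p, D (D u) = a • x ∧ a * β x f = β u x := fun u hu => by
    have h3 := D3 u hu (p - 1) (by rw [add_comm, pow_add, hD, h0, mul_zero, LinearMap.zero_apply])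
    rw [pow_three, Module.End.mul_apply, Module.End.mul_apply] at h3
    obtain ⟨a, ha⟩ := fix1 _ (hDU _ (hDU _ hu)) h3
    refine ⟨a, ha, mul_left_cancel₀ h2 ?_⟩
    have h1 : e (D (D u)) = D (D (e u)) := by rw [De, De]
    rw [ha, map_smul, hfix x hx, smul_smul, De2] at h1
    linear_combination sx h1
  have D1 : ∀ u ∈ U1, β u x = 0 → ∃ t : ZMod p, D u = t • x := fun u hu h => by
    obtain ⟨a, ha, ha'⟩ := D2 u hu
    rw [h] at ha'
    exact fix1 _ (hDU _ hu) (by rw [ha, (mul_eq_zero.1 ha').resolve_right hc, zero_smul])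
  have hxx : β x x = 0 := f1 x hx
  have hu0 : β ((F ^ K) f) x ≠ 0 := by
    have : ∀ k u v, β ((F ^ k) u) v = β u ((F ^ k) v) := fun k => by
      induction k with
      | zero => exact fun _ _ => rfl
      | succ k ih =>
        intro u v
        rw [pow_succ', Module.End.mul_apply, F2, ih, ← Module.End.mul_apply (F ^ k), ← pow_succ, pow_succ']
    rw [this, Fp, map_smul, hsym f x]
    exact mul_ne_zero (pow_ne_zero _ hc') hc
  have hne : ∀ h, h ∉ N → β (π h x) x ≠ 0 := fun h hh e0 => by
    have hy := hπU h x hxU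
    obtain ⟨t, ht⟩ := D1 _ hy e0
    have ht0 : t ≠ 0 := by
      rintro rfl
      exact hh (hst h (fix1 _ hy (by rw [ht, zero_smul])))
    have hu : (F ^ K) f ∈ U1 := ⟨f, rfl⟩
    generalize (F ^ K) f = u at hu hu0
    obtain ⟨a, ha, ha'⟩ := D2 u hu
    obtain ⟨b, hb⟩ := fix1 (D u - (a * t⁻¹) • π h x) (sub_mem (hDU _ hu) (U1.smul_mem _ hy)) (by
      rw [map_sub, map_smul, ha, ht, smul_smul, inv_mul_cancel_right₀ ht0, sub_self])
    have h1 : β (D u) (D u) = 0 := by
      rw [sub_eq_iff_eq_add.1 hb]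
      simp only [map_add, map_smul, LinearMap.add_apply, LinearMap.smul_apply, smul_eq_mul, hβ, hxx, e0,
        hsym x (π h x)]
      ring
    have h3 := hβ s u (D u)
    rw [show π s (D u) = D u + a • x by rw [← ha, Da (D u), add_sub_cancel], map_add, map_smul, b1,
      show π s u = D u + u by rw [Da, sub_add_cancel], map_add, LinearMap.add_apply, h1] at h3
    have h4 : a * β u x = 0 := by linear_combination h3
    rcases mul_eq_zero.1 h4 with rfl | h5
    · exact hu0 (by rw [← ha', zero_mul])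
    · exact hu0 h5
  let Φ : G ⧸ N → Option (ZMod p) := fun ω =>
    if ω.out ∈ N then none else some (β ((β (π ω.out x) x)⁻¹ • π ω.out x) g)
  have hΦ : Function.Injective Φ := fun ω ω' h => by
    rw [← ω.out_eq, ← ω'.out_eq]
    refine QuotientGroup.eq.2 ?_
    simp only [Φ] at h
    generalize ω.out = a at h
    generalize ω'.out = b at h
    by_cases ha : a ∈ N <;> by_cases hb : b ∈ N
    · exact mul_mem (inv_mem ha) hb
    · simp [ha, hb] at h
    · simp [ha, hb] at h
    · rw [if_neg ha, if_neg hb, Option.some.injEq] at h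
      have n1 : ∀ k, k ∉ N → β ((β (π k x) x)⁻¹ • π k x) x = 1 := fun k hk => by
        rw [map_smul, LinearMap.smul_apply, smul_eq_mul, inv_mul_cancel₀ (hne k hk)]
      have n2 : ∀ k, β ((β (π k x) x)⁻¹ • π k x) ((β (π k x) x)⁻¹ • π k x) = 0 := fun k => by
        simp only [map_smul, LinearMap.smul_apply, hβ, hxx, smul_zero]
      have n3 : ∀ k, (β (π k x) x)⁻¹ • π k x ∈ U1 := fun k => U1.smul_mem _ (hπU k x hxU)
      have na := n1 a ha
      have nb := n1 b hb
      have na2 := n2 a
      have nb2 := n2 b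
      have hz := sub_mem (n3 a) (n3 b)
      have hy : (β (π a x) x)⁻¹ • π a x = (β (π b x) x)⁻¹ • π b x := by
        generalize (β (π a x) x)⁻¹ • π a x = y at *
        generalize (β (π b x) x)⁻¹ • π b x = y' at *
        have z1 : β (y - y') x = 0 := by rw [map_sub, LinearMap.sub_apply, na, nb, sub_self]
        have z2 : β (y - y') g = 0 := by rw [map_sub, LinearMap.sub_apply, h, sub_self]
        obtain ⟨t, ht⟩ := D1 _ hz z1
        have h1 := De (y - y')
        rw [ht, map_smul, hfix x hx, De1, z1, z2, smul_smul, mul_zero, sub_zero, zero_smul _ g,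
          add_zero] at h1
        obtain ⟨r, hr⟩ := fix1 _ hz (by
          rw [ht, (mul_eq_zero.1 (sx h1)).resolve_right hc2, zero_smul])
        rw [sub_eq_iff_eq_add.1 hr] at na2 ⊢
        simp only [map_add, map_smul, LinearMap.add_apply, LinearMap.smul_apply, smul_eq_mul, hxx, nb,
          nb2, hsym x y'] at na2
        have : 2 * r = 0 := by linear_combination na2
        rw [(mul_eq_zero.1 this).resolve_left h2, zero_smul, zero_add]
      refine hst _ ⟨β (π b x) x * (β (π a x) x)⁻¹, ?_⟩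
      have h1 := congrArg (π a⁻¹) hy
      rw [map_smul, map_smul, ← Module.End.mul_apply, ← Module.End.mul_apply, ← map_mul, ← map_mul,
        inv_mul_cancel, map_one, Module.End.one_apply] at h1
      rw [mul_smul, h1, smul_smul, mul_inv_cancel₀ (hne b hb), one_smul]
  have := Nat.card_le_card_of_injective Φ hΦ
  rwa [Finite.card_option, Nat.card_zmod] at this

end Cfsg.Agent.MxE
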