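import Mathlib
import Cfsg.Agent.MxE.FeitA
import Cfsg.Agent.MxE.LemF

/-! A small uniserial faithful module bounds the number of Sylow subgroups of order `p`. -/

set_option autoImplicit false

namespace Cfsg.Agent.MxE

open Subgroup Cfsg.Agent.GT

variable {p : ℕ} [Fact p.Prime] {G : Type*} [Group G] {V : Type*} [AddCommGroup V]
  [Module (ZMod p) V]

namespace FeitB

theorem sum_formula {R : Type*} [CommRing R] (d : R) (m : ℕ) :
    6 * ∑ j ∈ Finset.range m, ((j : R) + 1) * (d - (j + 1)) =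
      m * (m + 1) * (3 * d - 2 * m - 1) := by
  induction m with
  | zero => simp
  | succ m ih => rw [Finset.sum_range_succ, mul_add, ih]; push_cast; ring

/-- The lowering operator of the principal `sl₂`-triple. -/
theorem exists_lower {x : Module.End (ZMod p) V} {m : ℕ} (h : Reg x m) :
    ∃ f : Module.End (ZMod p) V, x * (x * f - f * x) - (x * f - f * x) * x = (-2 : ZMod p) • x ∧
      (∀ j, ∀ v ∈ Vj x (j + 1), f v ∈ Vj x j) ∧
      6 * LinearMap.trace (ZMod p) V (f * x) = m * (m + 1) * (m - 1) := by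
  classical
  obtain ⟨e, he, he'⟩ := h.exists_mem h.pos
  have hs : ⊤ ≤ Submodule.span (ZMod p) (Set.range fun i : Fin m => (x ^ (i : ℕ)) e) := by
    rw [← Vj_zero (x := x)]
    refine h.bas_le (fun v hv => ?_) (Submodule.subset_span ⟨⟨0, h.pos⟩, rfl⟩) he he'
    refine (Submodule.span_le (p := (Submodule.span (ZMod p)
      (Set.range fun i : Fin m => (x ^ (i : ℕ)) e)).comap x)).2 ?_ hv
    rintro _ ⟨i, rfl⟩
    show x ((x ^ (i : ℕ)) e) ∈
      Submodule.span (ZMod p) (Set.range fun i : Fin m => (x ^ (i : ℕ)) e)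
    rw [← Module.End.mul_apply, ← pow_succ']
    by_cases hi : (i : ℕ) + 1 < m
    · exact Submodule.subset_span ⟨⟨_, hi⟩, rfl⟩
    · rw [show (i : ℕ) + 1 = m by omega, h.nil]
      exact zero_mem _
  obtain ⟨b, hb⟩ : ∃ b : Module.Basis (Fin m) (ZMod p) V, ∀ i, b i = (x ^ (i : ℕ)) e :=
    ⟨basisOfTopLeSpanOfCardEqFinrank _ hs (by rw [Fintype.card_fin, h.dim]), fun i =>
      congrFun (coe_basisOfTopLeSpanOfCardEqFinrank ..) i⟩
  have hz : ∀ i, m ≤ i → (x ^ i) e = 0 := fun i hi => by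
    rw [pow_eq_zero_of_le hi h.nil, LinearMap.zero_apply]
  obtain ⟨f, hf⟩ : ∃ f : Module.End (ZMod p) V, ∀ i : ℕ,
      f ((x ^ i) e) = ((i : ZMod p) * (m - i)) • (x ^ (i - 1)) e := by
    refine ⟨b.constr (ZMod p) fun i => (((i : ℕ) : ZMod p) * (m - (i : ℕ))) • (x ^ ((i : ℕ) - 1)) e,
      fun i => ?_⟩
    rcases lt_trichotomy i m with hi | rfl | hi
    · rw [← hb ⟨i, hi⟩, Module.Basis.constr_basis]
    · rw [hz _ le_rfl, map_zero, sub_self, mul_zero, zero_smul]
    · rw [hz _ hi.le, hz _ (by omega), map_zero, smul_zero]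
  have hx : ∀ i : ℕ, x ((x ^ i) e) = (x ^ (i + 1)) e := fun i => by rw [pow_succ', Module.End.mul_apply]
  have hl : ∀ j, ∀ v ∈ Vj x (j + 1), f v ∈ Vj x j := by
    rintro j _ ⟨u, rfl⟩
    have : ∀ i : Fin m, b i ∈ (Vj x j).comap (f ∘ₗ x ^ (j + 1)) := fun i => by
      rw [Submodule.mem_comap, LinearMap.comp_apply, hb, ← Module.End.mul_apply (x ^ (j + 1)), ← pow_add, hf,
        show j + 1 + i - 1 = j + i by omega, pow_add]
      exact Submodule.smul_mem _ _ ⟨_, rfl⟩
    have hu : u ∈ Submodule.span (ZMod p) (Set.range b) := by rw [b.span_eq]; trivial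
    exact (Submodule.span_le.2 (Set.range_subset_iff.2 this)) hu
  refine ⟨f, b.ext fun i => ?_, hl, ?_⟩
  · rw [hb]
    generalize (i : ℕ) = i
    simp only [LinearMap.sub_apply, Module.End.mul_apply, LinearMap.smul_apply, map_sub, hx, hf, map_smul,
      Nat.add_sub_cancel]
    rcases i with _ | i
    · simp only [Nat.cast_zero, zero_mul, zero_smul]
      push_cast
      module
    · simp only [Nat.add_sub_cancel]
      push_cast
      module
  · rw [h.trace_eq (fun j => ((j : ZMod p) + 1) * (m - (j + 1))) fun j hj => ?_, sum_formula]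
    · ring
    · refine h.wt_of (fun v hv => hl _ (x v) (apply_mem_Vj hv)) (v := (x ^ j) e) ⟨e, rfl⟩
        (by simpa using h.pow_notMem he he' (r := j) (by omega)) ?_
      rw [Module.End.mul_apply, hx, hf, Nat.add_sub_cancel]
      push_cast
      rw [sub_self]
      exact zero_mem _

theorem lin_pow_eq_zero (π : Representation (ZMod p) G V) {s : G} {β k : ℕ} (h : (π s - 1) ^ β = 0)
    (hk : β + β ≤ k + 1) : (π.linHom π s - 1) ^ k = 0 := by
  let D : Module.End (ZMod p) (Module.End (ZMod p) V) :=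
    LinearMap.mulLeft _ (π s - 1) + -LinearMap.mulRight _ (π s - 1)
  have hD : D ^ k = 0 := by
    refine (LinearMap.commute_mulLeft_right (R := ZMod p) (π s - 1)
      (π s - 1)).neg_right.add_pow_eq_zero_of_add_le_succ_of_pow_eq_zero ?_ ?_ hk
    · rw [LinearMap.pow_mulLeft, h, LinearMap.mulLeft_zero_eq_zero]
    · rw [neg_pow, LinearMap.pow_mulRight, h, LinearMap.mulRight_zero_eq_zero, mul_zero]
  have hc : Commute (π s - 1) (π s⁻¹) :=
    Commute.sub_left ((LemF.rmul π s).trans (LemF.rinv π s).symm) (Commute.one_left _)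
  have e1 : ∀ φ : Module.End (ZMod p) V,
      (π.linHom π s - 1) φ = ((π s - 1) * φ - φ * (π s - 1)) * π s⁻¹ := fun φ => by
    change π s * φ * π s⁻¹ - φ = _
    rw [sub_mul (π s), mul_sub, one_mul, mul_one, sub_sub_sub_cancel_right, sub_mul, mul_assoc _ (π s),
      LemF.rmul, mul_one]
  have key : ∀ (n : ℕ) (φ : Module.End (ZMod p) V),
      ((π.linHom π s - 1) ^ n) φ = (D ^ n) φ * π s⁻¹ ^ n := fun n φ => by
    induction n with
    | zero => simp
    | succ n ih =>
      rw [pow_succ', Module.End.mul_apply, e1, ih, pow_succ' D, Module.End.mul_apply,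
        mul_assoc _ _ (π s - 1), ← (hc.pow_right n).eq, pow_succ]
      simp only [D, LinearMap.add_apply, LinearMap.neg_apply, LinearMap.mulLeft_apply,
        LinearMap.mulRight_apply]
      noncomm_ring
  exact LinearMap.ext fun φ => by rw [key, hD]; simp

theorem cast_ne {n : ℕ} (h0 : 0 < n) (h1 : n < p) : (n : ZMod p) ≠ 0 := fun e =>
  absurd (Nat.le_of_dvd h0 ((ZMod.natCast_eq_zero_iff n p).1 e)) (by omega)

end FeitB

open FeitB LemF Polynomial in
/-- If a Sylow subgroup `⟨s⟩` of order `p` acts with one Jordan block of size `d`, `2 ≤ d ≤ p / 2`, on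
a faithful module, then there are at most `p + 1` Sylow `p`-subgroups. -/
theorem card_sylow_le [Finite G] (ρ : Representation (ZMod p) G V) (hρ : Function.Injective ρ) {s : G}
    (hs : orderOf s = p) (P : Sylow p G) (hP : (P : Subgroup G) = zpowers s) {d : ℕ}
    (h : Reg (ρ s - 1) d) (h2 : 2 ≤ d) (hd : 2 * d ≤ p) : Nat.card (Sylow p G) ≤ p + 1 := by
  have := h.finite
  have := h.bas_fin
  have : Finite (Module.End (ZMod p) V) := DFunLike.finite _
  have hp : p ≠ 2 := by omega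
  have hp4 : p ≠ 4 := by
    rintro rfl
    exact absurd (Fact.out : Nat.Prime 4) (by norm_num)
  have hσ : ρ s ^ p = 1 := by
    have := pow_orderOf_eq_one s
    rw [← map_pow, hs] at *; rw [this, map_one]
  obtain ⟨q, q0, L, hL, hLa, hLc⟩ := exists_log hp (ρ s) hσ
  have q1 : q.eval 0 = 1 := by rw [← coeff_zero_eq_eval_zero, q0]
  obtain ⟨f₀, F1, F2, F3⟩ := exists_lower h
  obtain ⟨N, hN⟩ : ∃ N, N = ρ s - 1 := ⟨_, rfl⟩
  rw [← hN] at h hL F1 F2 F3
  have hσN : ρ s = N + 1 := by rw [hN, sub_add_cancel]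
  have cq : ∀ r : (ZMod p)[X], Commute (aeval N r) N := fun r => by
    have := (Commute.all r X).map (aeval N)
    rwa [aeval_X] at this
  have cσ : Commute N (ρ s⁻¹) :=
    hN ▸ Commute.sub_left ((rmul ρ s).trans (rinv ρ s).symm) (Commute.one_left _)
  have h20 : (2 : ZMod p) ≠ 0 := by exact_mod_cast cast_ne (p := p) (n := 2) (by omega) (by omega)
  obtain ⟨x, hx⟩ : ∃ x, x = L (ρ s) := ⟨_, rfl⟩
  rw [← hx] at hL hLa
  have cx : Commute x N := by rw [hL]; exact (Commute.refl _).mul_left (cq q)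
  have hreg : Reg x d := by
    have e : ∀ k, x ^ k = N ^ k * aeval N (q ^ k) := fun k => by
      rw [hL, (cq q).symm.mul_pow, map_pow]
    refine ⟨h.dim, by rw [e, h.nil, zero_mul], fun e0 => ?_⟩
    have := h.finrank_Vj (d - 1)
    rw [← h.range_aeval (q := q ^ (d - 1)) (by rw [coeff_zero_eq_eval_zero, eval_pow, q1, one_pow]; exact one_ne_zero),
      ← e, e0, LinearMap.range_zero, finrank_bot] at this
    omega
  let r : (ZMod p)[X] := C (-2⁻¹) * q * (X + 1) ^ 2
  have hr : aeval N r = (-2⁻¹ : ZMod p) • (aeval N q * (ρ s * ρ s)) := by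
    simp only [r, map_mul, aeval_C, map_add, aeval_X, map_one, ← hσN, Algebra.smul_def, sq,
      mul_assoc]
  let π := ρ.linHom ρ
  have hπ : ∀ (g : G) (φ : Module.End (ZMod p) V), π g φ = ρ g * φ * ρ g⁻¹ := fun _ _ => rfl
  have e1 : ∀ φ : Module.End (ZMod p) V, π s φ = φ + (N * φ - φ * N) * ρ s⁻¹ := fun φ => by
    rw [hπ, hN, sub_mul (ρ s), mul_sub, one_mul, mul_one, sub_sub_sub_cancel_right, sub_mul,
      mul_assoc _ (ρ s), rmul, mul_one, add_sub_cancel]
  let β : LinearMap.BilinForm (ZMod p) (Module.End (ZMod p) V) :=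
    (LinearMap.mul (ZMod p) _).compr₂ (LinearMap.trace (ZMod p) V)
  have hβ : ∀ u v, β u v = LinearMap.trace (ZMod p) V (u * v) := fun _ _ => rfl
  have hn : ∀ n ∈ normalizer ((P : Subgroup G) : Set G), ∃ a : ℕ, (a : ZMod p) ≠ 0 ∧
      n * s * n⁻¹ = s ^ a := fun n hn => by
    have h1 := (mem_normalizer_iff.1 hn s).1 (hP ▸ mem_zpowers s)
    rw [hP] at h1
    obtain ⟨a, ha⟩ := (mem_powers_iff_mem_zpowers.2 h1 :)
    refine ⟨a, fun e0 => ?_, ha.symm⟩
    have h3 : s ^ a = 1 := orderOf_dvd_iff_pow_eq_one.1 (hs ▸ (ZMod.natCast_eq_zero_iff a p).1 e0)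
    have h4 : s = 1 := by simpa [h3] using (show s ^ a = n * s * n⁻¹ from ha).symm
    rw [h4, orderOf_one] at hs
    omega
  have hnorm : ∀ g, g * s * g⁻¹ ∈ zpowers s → g ∈ normalizer ((P : Subgroup G) : Set G) := fun g hg => by
    rw [hP]
    refine mem_normalizer_fintype fun y hy => ?_
    obtain ⟨k, rfl⟩ := hy
    have := zpow_mem hg k
    rwa [conj_zpow] at this
  rw [P.card_eq_index_normalizer]
  refine index_le_of_block hp π hs (lin_pow_eq_zero ρ (hN ▸ h.nil) (by omega))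
    (fun g hg => inv_mem_iff.1 (hnorm g⁻¹ (by rwa [inv_inv]))) (le_normalizer (hP ▸ mem_zpowers s))
    (fun hd => P.not_dvd_index (hd.trans (hP ▸ relIndex_dvd_index_of_le le_normalizer)))
    β (fun u v => LinearMap.trace_mul_comm _ _ _) (fun g u v => ?_) (x := x)
    (g := (N * (f₀ * aeval N r) - f₀ * aeval N r * N) * ρ s⁻¹) (f := f₀ * aeval N r)
    (by rw [e1, cx.eq, sub_self, zero_mul, add_zero]) ?_ (e1 _) ?_ (fun n hn' => ?_)
    (fun n hn' y hy => ?_) fun g hg => ?_
  · rw [hβ, hβ, hπ, hπ, show ρ g * u * ρ g⁻¹ * (ρ g * v * ρ g⁻¹) = ρ g * (u * (ρ g⁻¹ * ρ g) * v * ρ g⁻¹) by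
      simp only [mul_assoc], rinv, mul_one, LinearMap.trace_mul_comm, mul_assoc, rinv, mul_one]
  · rw [e1]
    congr 1
    have a1 : N * (f₀ * aeval N r) - f₀ * aeval N r * N = (N * f₀ - f₀ * N) * aeval N r := by
      rw [mul_assoc f₀, (cq r).eq, sub_mul, mul_assoc, mul_assoc]
    rw [a1, mul_assoc _ (ρ s⁻¹) N, ← cσ.eq, mul_assoc (N * f₀ - f₀ * N), mul_assoc (N * f₀ - f₀ * N),
      ← mul_assoc (aeval N r), (cq r).eq, mul_assoc N (aeval N r), ← mul_assoc _ N, ← mul_assoc N,
      ← sub_mul, F1, hr, hL]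
    simp only [smul_mul_assoc, mul_smul_comm, smul_smul, mul_assoc]
    rw [← mul_assoc (ρ s) (ρ s⁻¹), rmul, one_mul, rmul, mul_one, neg_mul_neg, inv_mul_cancel₀ h20, one_smul]
  · have a1 : x * (f₀ * aeval N r) = N * aeval N q * f₀ * aeval N r := by rw [hL, mul_assoc _ f₀]
    have a2 : aeval N r * (N * aeval N q) =
        (-2⁻¹ : ZMod p) • N + N ^ 2 * aeval N (r * q).divX := by
      have e := congrArg (aeval N) (X_mul_divX_add (r * q))
      have c0 : (r * q).coeff 0 = -2⁻¹ := by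
        simp [r, q1, coeff_zero_eq_eval_zero]
      rw [c0, map_add, map_mul, aeval_X, aeval_C, map_mul] at e
      rw [← mul_assoc, (cq r).eq, mul_assoc, ← e, mul_add, ← mul_assoc, ← sq, add_comm,
        ← Algebra.commutes, ← Algebra.smul_def]
    have a3 : LinearMap.trace (ZMod p) V (f₀ * (N ^ 2 * aeval N (r * q).divX)) = 0 := by
      rw [h.trace_eq (fun _ => 0) fun j _ v hv => ?_]
      · simp
      · rw [zero_smul, sub_zero]
        exact F2 _ _ (pow_mem_Vj (up_of_commute (r := 0) (cq _) (fun w _ => Bas.mem_zero w) j v hv) 2)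
    rw [hβ, hL, LinearMap.trace_mul_comm, mul_assoc, a2, mul_add, map_add, a3, add_zero, mul_smul_comm,
      map_smul, smul_eq_mul]
    refine mul_ne_zero (neg_ne_zero.2 (inv_ne_zero h20)) fun e0 => ?_
    rw [e0, mul_zero] at F3
    have b1 := cast_ne (p := p) (n := d) (by omega) (by omega)
    have b2 := cast_ne (p := p) (n := d + 1) (by omega) (by omega)
    have b3 := cast_ne (p := p) (n := d - 1) (by omega) (by omega)
    rw [Nat.cast_sub (by omega)] at b3
    push_cast at b2 b3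
    exact mul_ne_zero (mul_ne_zero b1 b2) b3 F3.symm
  · obtain ⟨a, ha, e⟩ := hn n hn'
    exact ⟨a, by rw [hπ, hx, ← hLc _ _ _ (rinv ρ n) (rmul ρ n), ← map_mul, ← map_mul, e, map_pow, hLa a ha, hx]⟩
  · obtain ⟨a, -, e⟩ := hn n⁻¹ (inv_mem hn')
    have hy' : ∀ k : ℕ, π (s ^ k) y = y := fun k => by
      rw [map_pow, Module.End.pow_apply, Function.iterate_fixed hy]
    rw [← Module.End.mul_apply, ← map_mul, show s * n = n * (n⁻¹ * s * n⁻¹⁻¹) by group, e, map_mul,
      Module.End.mul_apply, hy']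
  · obtain ⟨a, ha⟩ := hg
    rw [hπ] at ha
    have x0 : x ≠ 0 := fun e0 => hreg.pow_ne_zero (j := 1) (by omega) (by rw [pow_one, e0])
    have ha0 : a ≠ 0 := by
      rintro rfl
      apply x0
      rw [← one_mul x, ← mul_one (1 * x), ← rinv ρ g, show ρ g⁻¹ * ρ g * x * (ρ g⁻¹ * ρ g) =
        ρ g⁻¹ * (ρ g * x * ρ g⁻¹) * ρ g by simp only [mul_assoc], ha, zero_smul, mul_zero, zero_mul]
    have c1 : Commute (ρ s) x := by rw [hσN]; exact cx.symm.add_left (Commute.one_left _)
    have c2 : Commute (ρ (g * s * g⁻¹)) x := by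
      have : Commute (ρ (g * s * g⁻¹)) (a • x) := by
        rw [← ha, map_mul, map_mul]
        have k : ∀ a b : Module.End (ZMod p) V, ρ g * a * ρ g⁻¹ * (ρ g * b * ρ g⁻¹) =
            ρ g * (a * b) * ρ g⁻¹ := fun a b => by
          rw [show ρ g * a * ρ g⁻¹ * (ρ g * b * ρ g⁻¹) = ρ g * a * (ρ g⁻¹ * ρ g) * b * ρ g⁻¹ by
            simp only [mul_assoc], rinv, mul_one, mul_assoc (ρ g)]
        exact (k _ _).trans (c1.eq ▸ (k _ _).symm)
      have e := this.smul_right a⁻¹
      rwa [smul_smul, inv_mul_cancel₀ ha0, one_smul] at e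
    have c3 : Commute (g * s * g⁻¹) s := hρ (by
      rw [map_mul, map_mul ρ s]; exact (hreg.commute_of_commute c2 c1).eq)
    refine hnorm g (hP ▸ ?_)
    have hs' : IsPGroup p (zpowers (g * s * g⁻¹)) := IsPGroup.of_card (n := 1) (by
      rw [Nat.card_zpowers, pow_one, ← hs]
      exact (MulAut.conj g).orderOf_eq s)
    have hle : zpowers (g * s * g⁻¹) ≤ normalizer ((P : Subgroup G) : Set G) :=
      zpowers_le.2 (hnorm _ (by rw [c3.eq, mul_inv_cancel_right]; exact mem_zpowers s))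
    have hsup := (IsPGroup.to_sup_of_normal_left' P.isPGroup' hs' hle)
    exact P.is_maximal' hsup le_sup_left ▸ mem_sup_right (mem_zpowers _)

end Cfsg.Agent.MxE
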