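import Mathlib
import Cfsg.Agent.MxE.FeitB
import Cfsg.Agent.GT.PStable

/-! Self-centralising Sylow subgroups of order `p`: no two-dimensional faithful uniserial module, and no
element of order `p - 1` with two eigenvalues when there are `p + 1` Sylow subgroups. -/

set_option autoImplicit false

namespace Cfsg.Agent.MxE

open Subgroup Cfsg.Agent.GT LemF

variable {p : ℕ} [Fact p.Prime] {G : Type*} [Group G] {V : Type*} [AddCommGroup V]
  [Module (ZMod p) V]

namespace FeitC

theorem pow_sub (σ : Module.End (ZMod p) V) (a : ℕ) {j : ℕ} {v : V} (hv : v ∈ Vj (σ - 1) j) :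
    (σ ^ a - 1) v - (a : ZMod p) • (σ - 1) v ∈ Vj (σ - 1) (j + 2) := by
  induction a with
  | zero => simp
  | succ a ih =>
    have h1 : (σ ^ a - 1) v ∈ Vj (σ - 1) (j + 1) := by
      have := add_mem (Vj_anti (by omega) ih) (Submodule.smul_mem _ (a : ZMod p) (apply_mem_Vj hv))
      rwa [sub_add_cancel] at this
    convert add_mem ih (apply_mem_Vj h1) using 1
    simp only [pow_succ', LinearMap.sub_apply, Module.End.mul_apply, Module.End.one_apply, map_sub]
    push_cast
    module

/-- An element normalising `⟨s⟩` with a quadratic minimal polynomial on a block of size `≥ 3`. -/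
theorem sq_eq_one (ρ : Representation (ZMod p) G V) {s t : G} {m a : ℕ} (h : Reg (ρ s - 1) m)
    (h3 : 3 ≤ m) (ha : t * s * t⁻¹ = s ^ a) {x y : ZMod p}
    (ht : ∀ v, ρ t (ρ t v) - (x + y) • ρ t v + (x * y) • v = 0) : (a : ZMod p) ^ 2 = 1 := by
  have e : ∀ v, ρ t ((ρ s - 1) v) = (ρ s ^ a - 1) (ρ t v) := fun v => by
    rw [← map_pow, ← ha]
    simp only [LinearMap.sub_apply, map_sub, map_mul, Module.End.mul_apply, Module.End.one_apply,
      Representation.inv_self_apply]
  have inv : ∀ j, ∀ v ∈ Vj (ρ s - 1) j, ρ t v ∈ Vj (ρ s - 1) j := fun j => by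
    induction j with
    | zero => exact fun v _ => Bas.mem_zero _
    | succ j ih =>
      rintro _ ⟨u, rfl⟩
      have h1 := ih _ ⟨u, rfl⟩
      have := add_mem (Vj_anti (by omega) (pow_sub (ρ s) a h1))
        (Submodule.smul_mem _ (a : ZMod p) (apply_mem_Vj h1))
      rwa [sub_add_cancel, ← e, ← Module.End.mul_apply (ρ s - 1), ← pow_succ'] at this
  have step : ∀ j w, j + 1 < m → Wt (ρ s - 1) j (ρ t) w → Wt (ρ s - 1) (j + 1) (ρ t) (a * w) :=
    fun j w hj hw => by
      obtain ⟨v, hv, hv'⟩ := h.exists_mem (j := j) (by omega)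
      refine h.wt_of (inv _) (apply_mem_Vj hv) (by simpa using h.pow_notMem hv hv' (r := 1) hj) ?_
      convert add_mem (pow_sub (ρ s) a (inv j v hv))
        (Submodule.smul_mem _ (a : ZMod p) (apply_mem_Vj (hw v hv))) using 1
      rw [e, map_sub, map_smul]
      module
  have root : ∀ j w, j < m → Wt (ρ s - 1) j (ρ t) w → (w = x ∨ w = y) ∧ w ≠ 0 := fun j w hj hw => by
    obtain ⟨v, hv, hv'⟩ := h.exists_mem hj
    refine ⟨?_, ?_⟩
    · have h1 := add_mem (inv _ _ (hw v hv)) (Submodule.smul_mem _ (w - x - y) (hw v hv))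
      have h2 : ρ t (ρ t v - w • v) + (w - x - y) • (ρ t v - w • v) = -((w - x) * (w - y)) • v := by
        rw [map_sub, map_smul, ← sub_eq_zero, ← ht v]
        module
      rw [h2] at h1
      by_contra hc
      push Not at hc
      exact hv' ((Submodule.smul_mem_iff _ (neg_ne_zero.2
        (mul_ne_zero (sub_ne_zero.2 hc.1) (sub_ne_zero.2 hc.2)))).1 h1)
    · rintro rfl
      have := h.bas_fin
      have hle : (Vj (ρ s - 1) j).map (ρ t) ≤ Vj (ρ s - 1) (j + 1) := by
        rintro _ ⟨u, hu, rfl⟩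
        simpa using hw u hu
      have h1 := Submodule.finrank_mono hle
      have hinj : Function.Injective (ρ t) :=
        Function.LeftInverse.injective (g := ρ t⁻¹) fun u => by
          rw [← Module.End.mul_apply, rinv, Module.End.one_apply]
      rw [← (Submodule.equivMapOfInjective _ hinj _).finrank_eq, h.finrank_Vj, h.finrank_Vj] at h1
      omega
  obtain ⟨w, hw⟩ := h.exists_wt (inv 0) (inv 1)
  have h1 := step 0 w (by omega) hw
  have h2 := step 1 _ (by omega) h1
  obtain ⟨r0, n0⟩ := root 0 _ (by omega) hw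
  obtain ⟨r1, n1⟩ := root 1 _ (by omega) h1
  obtain ⟨r2, -⟩ := root 2 _ (by omega) h2
  have k1 : a * w = w → (a : ZMod p) ^ 2 = 1 := fun e => by
    rw [mul_right_cancel₀ n0 (e.trans (one_mul w).symm), one_pow]
  have k2 : a * (a * w) = a * w → (a : ZMod p) ^ 2 = 1 := fun e => by
    rw [mul_right_cancel₀ n1 (e.trans (one_mul _).symm), one_pow]
  have k3 : a * (a * w) = w → (a : ZMod p) ^ 2 = 1 := fun e =>
    mul_right_cancel₀ n0 (by rw [one_mul, sq, mul_assoc, e])
  rcases r0 with r0 | r0 <;> rcases r1 with r1 | r1 <;> rcases r2 with r2 | r2 <;>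
    first
    | exact k1 (r1.trans r0.symm)
    | exact k2 (r2.trans r1.symm)
    | exact k3 (r2.trans r0.symm)

theorem dvd_card {Z Ω : Type*} [Group Z] [Finite Z] [IsCyclic Z] [Finite Ω] [MulAction Z Ω] {k : ℕ}
    (hZ : Nat.card Z = 2 * k) (h : ∀ (z : Z) (ω : Ω), z • ω = ω → z ^ 2 = 1) : k ∣ Nat.card Ω := by
  classical
  have := Fintype.ofFinite (MulAction.orbitRel.Quotient Z Ω)
  rw [Nat.card_congr (MulAction.selfEquivSigmaOrbits Z Ω), Nat.card_sigma]
  refine Finset.dvd_sum fun ω _ => ?_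
  have h1 : Nat.card (MulAction.stabilizer Z ω.out) ∣ 2 := by
    rw [← IsCyclic.exponent_eq_card]
    exact Monoid.exponent_dvd_of_forall_pow_eq_one fun z => Subtype.ext (h z _ z.2)
  have h2 := (MulAction.stabilizer Z ω.out).card_mul_index
  rw [MulAction.index_stabilizer, hZ, ← Nat.card_coe_set_eq] at h2
  rcases (Nat.dvd_prime Nat.prime_two).1 h1 with e | e <;> rw [e] at h2
  · exact ⟨2, by omega⟩
  · exact ⟨1, by omega⟩

omit [Fact p.Prime] in
theorem exists_conj [Finite G] {s : G} (P : Sylow p G) (hP : (P : Subgroup G) = zpowers s) {t : G}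
    (ht : t • P = P) : ∃ a : ℕ, t * s * t⁻¹ = s ^ a := by
  have h1 := (mem_normalizer_iff.1 (Sylow.smul_eq_iff_mem_normalizer.1 ht) s).1 (hP ▸ mem_zpowers s)
  rw [hP] at h1
  obtain ⟨a, ha⟩ := (mem_powers_iff_mem_zpowers.2 h1 :)
  exact ⟨a, ha.symm⟩

end FeitC

open FeitC

/-- No faithful two-dimensional uniserial module. -/
theorem two_dim_false [Finite G] (hp : p ≠ 2) (ρ : Representation (ZMod p) G V)
    (hρ : Function.Injective ρ) {s : G} (hs : orderOf s = p)
    (hC : ∀ g, Commute g s → g ∈ zpowers s) (hn : ¬ (zpowers s).Normal) (h : Reg (ρ s - 1) 2) :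
    False := by
  have := h.bas_fin
  obtain ⟨g, hg⟩ : ∃ g, g * s * g⁻¹ ∉ zpowers s := by
    by_contra hc
    push Not at hc
    refine hn ⟨?_⟩
    rintro _ ⟨k, rfl⟩ g
    have := zpow_mem (hc g) k
    rwa [conj_zpow] at this
  obtain ⟨b, hb⟩ : ∃ b, b = g * s * g⁻¹ := ⟨_, rfl⟩
  have hA : (ρ s - 1) * (ρ s - 1) = 0 := (sq _).symm.trans h.nil
  have hB : (ρ b - 1) * (ρ b - 1) = 0 := hb ▸ quadratic_conj ρ hA g
  have hB0 : ρ b - 1 ≠ 0 := fun e => hg (by
    rw [← hb, hρ ((sub_eq_zero.1 e).trans (map_one ρ).symm)]; exact one_mem _)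
  rw [← hb] at hg
  obtain ⟨A, hA'⟩ : ∃ A, A = ρ s - 1 := ⟨_, rfl⟩
  obtain ⟨B, hB'⟩ : ∃ B, B = ρ b - 1 := ⟨_, rfl⟩
  have ea : ρ s = A + 1 := by rw [hA', sub_add_cancel]
  have eb : ρ b = B + 1 := by rw [hB', sub_add_cancel]
  rw [← hA'] at h hA
  rw [← hB'] at hB hB0
  have BB : ∀ v, B (B v) = 0 := fun v => by rw [← Module.End.mul_apply, hB, LinearMap.zero_apply]
  have bot : ∀ {v}, v ∈ Vj A (1 + 1) → v = 0 := fun hv => by
    rwa [h.Vj_eq_bot le_rfl, Submodule.mem_bot] at hv
  obtain ⟨e, he, he'⟩ := h.exists_mem (j := 1) (by omega)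
  have Ae : A e = 0 := bot (apply_mem_Vj he)
  have e0 : e ≠ 0 := fun e0 => he' (e0 ▸ zero_mem _)
  have span1 : ∀ v ∈ Vj A 1, ∃ c : ZMod p, v = c • e := fun v hv =>
    (h.exists_smul he he' hv).imp fun c hc => sub_eq_zero.1 (bot hc)
  have span : ∀ {f}, f ∉ Vj A 1 → ∀ v, ∃ c d : ZMod p, v = c • e + d • f := fun hf v => by
    obtain ⟨d, hd⟩ := h.exists_smul (Bas.mem_zero _) hf (Bas.mem_zero v)
    obtain ⟨c, hc⟩ := span1 _ hd
    exact ⟨c, d, sub_eq_iff_eq_add.1 hc⟩
  by_cases hBe : B e ∈ Vj A 1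
  · obtain ⟨c, hc⟩ := span1 _ hBe
    have Be : B e = 0 := by
      have := BB e
      rw [hc, map_smul, hc, smul_smul, smul_eq_zero_iff_left e0, mul_self_eq_zero] at this
      rw [hc, this, zero_smul]
    have hr : ∀ v, B v ∈ Vj A 1 := fun v => by
      by_contra hv
      refine hB0 (LinearMap.ext fun u => ?_)
      obtain ⟨c, d, rfl⟩ := span hv u
      simp [Be, BB]
    refine hg (hC b (hρ ?_))
    rw [map_mul, map_mul, ea, eb]
    refine LinearMap.ext fun v => ?_
    obtain ⟨c, hc⟩ := span1 _ (hr v)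
    obtain ⟨d, hd⟩ := span1 _ (apply_mem_Vj (Bas.mem_zero (x := A) v))
    simp only [Module.End.mul_apply, LinearMap.add_apply, Module.End.one_apply, map_add, hc, hd, map_smul,
      Ae, Be]
    module
  · obtain ⟨c, hc⟩ := span1 _ (apply_mem_Vj (Bas.mem_zero (x := A) (B e)))
    have c0 : c ≠ 0 := by
      rintro rfl
      exact h.pow_notMem (Bas.mem_zero _) hBe (r := 1) (by omega) (by
        rw [pow_one, hc, zero_smul]; exact zero_mem _)
    have bp : ∀ (j : ℕ) v, (ρ b ^ j) v = v + (j : ZMod p) • B v := fun j v => by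
      induction j with
      | zero => simp
      | succ j ih =>
        rw [pow_succ', Module.End.mul_apply, ih, eb]
        simp only [LinearMap.add_apply, Module.End.one_apply, map_add, map_smul, BB]
        push_cast
        module
    obtain ⟨j, hj⟩ : ∃ j : ℕ, (j : ZMod p) * c = -2 :=
      ⟨(-2 * c⁻¹).val, by rw [ZMod.natCast_zmod_val, inv_mul_cancel_right₀ c0]⟩
    have w1 : ρ (s * b ^ j) e = -e + (j : ZMod p) • B e := by
      rw [map_mul, map_pow, Module.End.mul_apply, bp, ea]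
      simp only [LinearMap.add_apply, Module.End.one_apply, map_add, map_smul, Ae, hc]
      linear_combination (norm := module) hj • e
    have w2 : ρ (s * b ^ j) (B e) = B e + c • e := by
      rw [map_mul, map_pow, Module.End.mul_apply, bp, ea, BB, smul_zero, add_zero, LinearMap.add_apply, hc,
        add_comm, Module.End.one_apply]
    have hw : ρ ((s * b ^ j) ^ 2) = -1 := LinearMap.ext fun v => by
      obtain ⟨x, y, rfl⟩ := span hBe v
      simp only [sq, map_mul ρ (s * b ^ j), Module.End.mul_apply, map_add, map_smul, w1, w2, map_neg,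
        LinearMap.neg_apply, Module.End.one_apply]
      linear_combination (norm := module) (x * 1) • hj • e + y • hj • B e
    obtain ⟨k, hk⟩ := hC ((s * b ^ j) ^ 2) (hρ (by rw [map_mul, map_mul ρ s, hw]; simp))
    have h1 : ((s * b ^ j) ^ 2) ^ p = 1 := by
      rw [← hk, ← zpow_natCast, ← zpow_mul, mul_comm, zpow_mul, zpow_natCast, ← hs, pow_orderOf_eq_one,
        one_zpow]
    have h2 := congrArg (fun g => ρ g e) h1
    simp only [map_pow ρ _ p, hw, map_one, ((Fact.out : p.Prime).odd_of_ne_two hp).neg_one_pow,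
      LinearMap.neg_apply, Module.End.one_apply] at h2
    have h3 : (2 : ZMod p) • e = 0 := by linear_combination (norm := module) -h2
    exact FeitB.cast_ne (p := p) (n := 2) (by omega)
      (lt_of_le_of_ne (Fact.out : p.Prime).two_le hp.symm)
      (by exact_mod_cast (smul_eq_zero_iff_left e0).1 h3)

/-- No element with the two eigenvalues `1` and a generator `l` of `𝔽_p^×`. -/
theorem two_eigen_false [Finite G] (hp : 7 ≤ p) (ρ : Representation (ZMod p) G V)
    (hρ : Function.Injective ρ) {s : G} (hs : orderOf s = p) (P : Sylow p G)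
    (hP : (P : Subgroup G) = zpowers s) (hC : ∀ g, Commute g s → g ∈ zpowers s)
    (hn : ¬ (zpowers s).Normal) (hc : Nat.card (Sylow p G) ≤ p + 1) {m : ℕ} (h : Reg (ρ s - 1) m)
    (h3 : 3 ≤ m) {τ : G} {l : ZMod p} (hl : orderOf l = p - 1)
    (hτ : ∀ v, ρ τ (ρ τ v - v) = l • (ρ τ v - v)) (h1 : ρ τ ≠ 1) : False := by
  have hp1 : p.Prime := Fact.out
  have hl1 : l - 1 ≠ 0 := fun e => by
    rw [sub_eq_zero.1 e, orderOf_one] at hl
    omega
  have ek : ∀ (k : ℕ) v, ρ (τ ^ k) (ρ τ v - v) = l ^ k • (ρ τ v - v) := fun k v => by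
    induction k with
    | zero => simp
    | succ k ih => rw [pow_succ', map_mul, Module.End.mul_apply, ih, map_smul, hτ, smul_smul, pow_succ]
  have fk : ∀ (k : ℕ) v, ρ (τ ^ k) (ρ τ v - l • v) = ρ τ v - l • v := fun k v => by
    induction k with
    | zero => simp
    | succ k ih =>
      rw [pow_succ', map_mul, Module.End.mul_apply, ih]
      have := hτ v
      rw [map_sub] at this
      rw [map_sub, map_smul]
      linear_combination (norm := module) this
  have dec : ∀ v : V, v = (l - 1)⁻¹ • (ρ τ v - v) - (l - 1)⁻¹ • (ρ τ v - l • v) := fun v => by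
    rw [← smul_sub, show ρ τ v - v - (ρ τ v - l • v) = (l - 1) • v by module, smul_smul,
      inv_mul_cancel₀ hl1, one_smul]
  have ho : orderOf τ = p - 1 := by
    refine Nat.dvd_antisymm (orderOf_dvd_of_pow_eq_one (hρ (LinearMap.ext fun v => ?_))) ?_
    · rw [dec v, map_sub, map_smul, map_smul, ek, fk, ← hl, pow_orderOf_eq_one, one_smul, map_one,
        Module.End.one_apply]
    · obtain ⟨v, hv⟩ : ∃ v, ρ τ v - v ≠ 0 := by
        by_contra hc
        push Not at hc
        exact h1 (LinearMap.ext fun v => sub_eq_zero.1 (hc v))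
      have := ek (orderOf τ) v
      rw [pow_orderOf_eq_one, map_one, Module.End.one_apply] at this
      rw [← hl]
      exact orderOf_dvd_of_pow_eq_one (smul_left_injective _ hv (this.symm.trans (one_smul _ _).symm))
  have quad : ∀ (k : ℕ) v, ρ (τ ^ k) (ρ (τ ^ k) v) - (l ^ k + 1) • ρ (τ ^ k) v + (l ^ k * 1) • v = 0 :=
    fun k v => by
      rw [dec v]
      simp only [map_sub (ρ (τ ^ k)) ((l - 1)⁻¹ • _), map_smul, ek, fk]
      module
  obtain ⟨k, hk⟩ : ∃ k, p - 1 = 2 * k := (hp1.even_sub_one (by omega)).two_dvd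
  have key : k ∣ Nat.card (Sylow p G) := by
    refine dvd_card (Z := zpowers τ) (by rw [Nat.card_zpowers, ho, hk]) ?_
    rintro ⟨z, hz⟩ Q hQ
    obtain ⟨c, rfl⟩ := (mem_powers_iff_mem_zpowers.2 hz :)
    obtain ⟨g, rfl⟩ := MulAction.exists_smul_eq G P Q
    change τ ^ c • g • P = g • P at hQ
    obtain ⟨a, ha⟩ := exists_conj P hP (t := g⁻¹ * τ ^ c * g) (by rw [mul_smul, mul_smul, hQ, inv_smul_smul])
    have ha2 := sq_eq_one ρ h h3 ha (x := l ^ c) (y := 1) fun v => by
      have := congrArg (ρ g⁻¹) (quad c (ρ g v))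
      simp only [map_add, map_sub, map_smul, map_zero, Representation.inv_self_apply] at this
      simpa only [map_mul, Module.End.mul_apply, Representation.self_inv_apply] using this
    generalize ht : g⁻¹ * τ ^ c * g = t at ha
    have c1 : Commute (t ^ 2) s := by
      have : t ^ 2 * s * (t ^ 2)⁻¹ = s ^ (a ^ 2) := by
        rw [show t ^ 2 * s * (t ^ 2)⁻¹ = t * (t * s * t⁻¹) * t⁻¹ by rw [sq]; group, ha, ← conj_pow, ha,
          ← pow_mul, sq]
      rw [(pow_eq_pow_iff_modEq (n := a ^ 2) (m := 1)).2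
        (hs ▸ (ZMod.natCast_eq_natCast_iff _ _ p).1 (by push_cast; exact ha2)), pow_one] at this
      exact mul_inv_eq_iff_eq_mul.1 this
    obtain ⟨r, hr⟩ := hC _ c1
    have p1 : (t ^ 2) ^ p = 1 := by
      rw [← hr, ← zpow_natCast, ← zpow_mul, mul_comm, zpow_mul, zpow_natCast, ← hs, pow_orderOf_eq_one,
        one_zpow]
    have p2 : (t ^ 2) ^ (p - 1) = 1 := by
      rw [← pow_mul, ← ht, show g⁻¹ * τ ^ c * g = g⁻¹ * τ ^ c * g⁻¹⁻¹ by rw [inv_inv], conj_pow, ← pow_mul,
        ← mul_assoc, mul_comm (c * 2), pow_mul, ← ho, pow_orderOf_eq_one, one_pow, mul_one, mul_inv_cancel]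
    have p3 : t ^ 2 = 1 := by
      rwa [← Nat.sub_add_cancel hp1.one_le, pow_succ, p2, one_mul] at p1
    refine Subtype.ext ?_
    change (τ ^ c) ^ 2 = 1
    rw [show τ ^ c = g * t * g⁻¹ by rw [← ht]; group, conj_pow, p3, mul_one, mul_inv_cancel]
  have hm := card_sylow_modEq_one p G
  have hne : Nat.card (Sylow p G) ≠ 1 := fun e => by
    have : Subsingleton (Sylow p G) := (Nat.card_eq_one_iff_unique.1 e).1
    exact hn (hP ▸ Sylow.normal_of_subsingleton P)
  have hpos : 0 < Nat.card (Sylow p G) := Nat.card_pos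
  obtain ⟨r, hr⟩ := (Nat.modEq_iff_dvd' hpos).1 hm.symm
  have r1 : r = 1 := by
    rcases r with _ | _ | r
    · omega
    · rfl
    · have : p * (r + 1 + 1) = p * r + p + p := by ring
      omega
  have : k ∣ 2 := by
    have e : Nat.card (Sylow p G) = 2 * k + 2 := by rw [r1] at hr; omega
    rw [e] at key
    exact (Nat.dvd_add_right (dvd_mul_left k 2)).1 key
  have := Nat.le_of_dvd two_pos this
  omega

/-- Two faithful uniserial modules of dimensions `m, d ≥ 2` with `m + d ≤ p` leave no room for an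
element with eigenvalues `1` and a generator `l` of `𝔽_p^×` on the first one. -/
theorem feit_false [Finite G] {V' : Type*} [AddCommGroup V'] [Module (ZMod p) V'] (hp : p ≠ 2)
    (ρ : Representation (ZMod p) G V) (hρ : Function.Injective ρ) (ρ' : Representation (ZMod p) G V')
    (hρ' : Function.Injective ρ') {s : G} (hs : orderOf s = p) (P : Sylow p G)
    (hP : (P : Subgroup G) = zpowers s) (hC : ∀ g, Commute g s → g ∈ zpowers s)
    (hn : ¬ (zpowers s).Normal) {m d : ℕ} (h : Reg (ρ s - 1) m) (h' : Reg (ρ' s - 1) d) (hm : 2 ≤ m)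
    (hd : 2 ≤ d) (hmd : m + d ≤ p) {τ : G} {l : ZMod p} (hl : orderOf l = p - 1)
    (hτ : ∀ v, ρ τ (ρ τ v - v) = l • (ρ τ v - v)) (h1 : ρ τ ≠ 1) : False := by
  have hm3 : m ≠ 2 := by
    rintro rfl
    exact two_dim_false hp ρ hρ hs hC hn h
  have hd3 : d ≠ 2 := by
    rintro rfl
    exact two_dim_false hp ρ' hρ' hs hC hn h'
  have hp6 : p ≠ 6 := by
    rintro rfl
    exact absurd (Fact.out : Nat.Prime 6) (by norm_num)
  refine two_eigen_false (by omega) ρ hρ hs P hP hC hn ?_ h (by omega) hl hτ h1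
  rcases le_total m d with a | a
  · exact card_sylow_le ρ hρ hs P hP h hm (by omega)
  · exact card_sylow_le ρ' hρ' hs P hP h' hd (by omega)

end Cfsg.Agent.MxE
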